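import Cfsg.Agent.SUFour.Wedge
import Cfsg.Agent.SLFour.SymplecticType
import Cfsg.Agent.OrthMono.Six.Maximal

/-!
# Normalisers of symplectic type groups are maximal in `SU₄(p)`

A symplectic type group of order 64 becomes the even sign changes of a frame of `Ω⁻₆(p)`, and its normaliser
the stabiliser of the frame, which is maximal.
-/

set_option autoImplicit false
set_option linter.unusedSectionVars false

namespace CfsgLib.SUFour

open Matrix Module Cfsg.Geo CfsgLib.StdForms

/-- A symplectic type group of `GL₄` inside a group `K` covering `Ω` in dimension six with kernel `±1` gives a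
frame, and the elements of `K` normalising it are those permuting the lines. -/
theorem exists_frame_of_cover {L : Type*} [Field L] [Fintype L] {F : Type*} [Field F] [Fintype F]
    {ι : Type} [Fintype ι] [DecidableEq ι] {Q : QuadraticForm F (ι → F)}
    (hnd : (QuadraticMap.polarBilin Q).Nondegenerate) (h2 : (2 : F) ≠ 0) (h6 : Fintype.card ι = 6)
    {R K : Subgroup (GL (Fin 4) L)} (T : SLFour.FourData R) (hRK : R ≤ K) (φ : ↥K →* OrthMax.Isom Q)
    (hrange : φ.range = Cfsg.Omega F ⇑Q)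
    (hker : ∀ g, φ g = 1 ↔ ∃ c : L, c * c = 1 ∧
      ((g : GL (Fin 4) L) : Matrix (Fin 4) (Fin 4) L) = c • 1) :
    ∃ D : Fin 6 → Submodule F (ι → F), OrthMax.DSys Q 1 D ∧
      ∀ g : ↥K, (g : GL (Fin 4) L) ∈ subgroupNormalizer R ↔
        (φ g : GL ι F) ∈ decompositionStabilizer D := by
  classical
  haveI := T.finite
  obtain ⟨i, -, hscal⟩ := T.exists_i
  set R' := R.subgroupOf K with hR'
  set E := R'.map φ with hE
  have hkerR : ∀ g, φ g = 1 → (g : GL (Fin 4) L) ∈ R := fun g hg => by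
    obtain ⟨c, hc, hgc⟩ := (hker g).1 hg
    obtain ⟨z, hz, hzc⟩ := hscal c (by linear_combination (c * c + 1) * hc)
    rwa [show (g : GL (Fin 4) L) = z from Units.ext (by rw [hgc, hzc])]
  have hmemE : ∀ g, φ g ∈ E ↔ (g : GL (Fin 4) L) ∈ R := by
    refine fun g => ⟨fun h => ?_, fun h => ⟨g, h, rfl⟩⟩
    obtain ⟨r, hr, hrg⟩ := h
    have h1 := hkerR (r⁻¹ * g) (by rw [map_mul, map_inv, hrg, inv_mul_cancel])
    simpa using R.mul_mem (show (r : GL (Fin 4) L) ∈ R from hr) h1
  have hsq : ∀ e ∈ E, e * e = 1 := by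
    rintro _ ⟨r, hr, rfl⟩
    rw [← map_mul]
    refine (hker _).2 ?_
    rcases T.sq_sign (x := (r : GL (Fin 4) L)) hr with h | h
    · exact ⟨1, one_mul 1, by rw [one_smul]; simpa using h⟩
    · exact ⟨-1, by ring, by rw [neg_smul, one_smul]; simpa using h⟩
  have hΩ : ∀ e ∈ E, e ∈ Cfsg.Omega F ⇑Q := by
    rintro _ ⟨r, -, rfl⟩
    rw [← hrange]
    exact ⟨r, rfl⟩
  have hcard : 32 ≤ Nat.card E := by
    let χ : R' →* E := φ.subgroupMap R'
    have hχ : Function.Surjective χ := φ.subgroupMap_surjective R'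
    have hk : Nat.card χ.ker ≤ 2 := by
      refine le_trans (Nat.card_le_card_of_injective (β := ({1, -1} : Set L))
        (fun r => ⟨((r.1.1 : GL (Fin 4) L) : Matrix (Fin 4) (Fin 4) L) 0 0, ?_⟩) ?_) ?_
      · obtain ⟨c, hc, hgc⟩ := (hker r.1.1).1 (congrArg Subtype.val r.2)
        rw [hgc]
        simpa using mul_self_eq_one_iff.1 hc
      · intro r r' h
        obtain ⟨c, -, hgc⟩ := (hker r.1.1).1 (congrArg Subtype.val r.2)
        obtain ⟨c', -, hgc'⟩ := (hker r'.1.1).1 (congrArg Subtype.val r'.2)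
        have h' := congrArg Subtype.val h
        simp only [hgc, hgc'] at h'
        simp at h'
        exact Subtype.ext (Subtype.ext (Subtype.ext (Units.ext (by rw [hgc, hgc', h']))))
      · rw [Nat.card_coe_set_eq]
        exact le_trans (Set.ncard_insert_le _ _) (by simp)
    have h1 := χ.ker.card_eq_card_quotient_mul_card_subgroup
    rw [Nat.card_congr (QuotientGroup.quotientKerEquivOfSurjective χ hχ).toEquiv,
      Nat.card_congr (Subgroup.subgroupOfEquivOfLe hRK).toEquiv] at h1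
    have := T.card_ge
    nlinarith
  obtain ⟨D, hD, hiff⟩ := SLFour.exists_frame_of_involutions hnd h2 h6 hsq hΩ hcard
  refine ⟨D, hD, fun g => ?_⟩
  show (g : GL (Fin 4) L) ∈ Subgroup.normalizer (R : Set (GL (Fin 4) L)) ↔ _
  rw [hiff]
  constructor
  · rintro hg _ ⟨r, hr, rfl⟩
    rw [← map_inv, ← map_mul, ← map_mul, hmemE]
    simpa using (Subgroup.mem_normalizer_iff.1 hg (r : GL (Fin 4) L)).1 hr
  · intro h
    set c := (MulAut.conj (g : GL (Fin 4) L)).toMonoidHom with hc
    have hle : R.map c ≤ R := by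
      rintro _ ⟨x, hx, rfl⟩
      have h1 := h (φ ⟨x, hRK hx⟩) ((hmemE _).2 hx)
      rw [← map_inv, ← map_mul, ← map_mul, hmemE] at h1
      simpa [hc] using h1
    have heq : R.map c = R := Subgroup.eq_of_le_of_card_ge hle
      (le_of_eq (Nat.card_congr
        (R.equivMapOfInjective c (MulAut.conj (g : GL (Fin 4) L)).injective).toEquiv))
    refine Subgroup.mem_normalizer_iff.2 fun x => ⟨fun hx => ?_, fun hx => ?_⟩
    · rw [← heq]; exact ⟨x, hx, by simp [hc]⟩
    · rw [← heq] at hx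
      obtain ⟨y, hy, hye⟩ := hx
      simp [hc] at hye
      rwa [← hye]

variable {F : Type*} [Field F] [Fintype F]

/-- The normaliser of a symplectic type group of order 64 is maximal in `SU₄(p)`, for `p ≡ 3 mod 4`. -/
theorem isMaximalIn_extraspecial {q : ℕ} (hF : Fintype.card F = q ^ 2) :
    ∀ (p : ℕ) (R : Subgroup (GL (Fin 4) F)), p.Prime → q = p → p % 4 = 3 →
      IsSymplecticTypeGroup 2 R → ActsAbsolutelyIrreducibly (matrixSet R) → R ≤ Cfsg.GU 4 F q →
      Nat.card R = 64 → Nat.card (Subgroup.center R) = 4 →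
      IsMaximalIn (Cfsg.GU 4 F q ⊓ specialLinear (Fin 4) F)
        (subgroupNormalizer R ⊓ (Cfsg.GU 4 F q ⊓ specialLinear (Fin 4) F)) := by
  classical
  intro p R hp hqp hp4 hsymp habs hRU hcard hcen
  subst hqp
  haveI : Fact q.Prime := ⟨hp⟩
  have h2 : (2 : ZMod q) ≠ 0 := by
    intro h
    have h' : ((2 : ℕ) : ZMod q) = 0 := by exact_mod_cast h
    rw [ZMod.natCast_eq_zero_iff] at h'
    have := Nat.le_of_dvd (by norm_num) h'
    omega
  have h2F : (2 : F) ≠ 0 := by
    obtain ⟨_⟩ := CfsgLib.FieldEmb.exists_algebra (by norm_num : 1 ≤ 2) (ZMod.card q) hF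
    rw [← map_ofNat (algebraMap (ZMod q) F) 2]
    exact (map_ne_zero _).2 h2
  have hab : ∀ z₁ z₂ : ZMod q, z₁ ^ 2 + 0 * z₁ * z₂ + 1 * z₂ ^ 2 = 0 → z₁ = 0 ∧ z₂ = 0 := by
    intro z₁ z₂ h
    by_cases hz : z₂ = 0
    · subst hz
      exact ⟨by simpa using h, rfl⟩
    exfalso
    refine (ZMod.exists_sq_eq_neg_one_iff.1 ⟨z₁ / z₂, ?_⟩) hp4
    field_simp
    linear_combination -h
  obtain ⟨φ, hrange, hker⟩ := exists_wedge (K := F) (ZMod.card q) hF h2 0 1 hab
  have T : SLFour.FourData R :=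
    { h2 := h2F, symp := hsymp, abs := habs, cen := hcen, card := ⟨2, by rw [hcard]; norm_num⟩ }
  obtain ⟨D, hD, hiff⟩ := exists_frame_of_cover (minusQ_nondegenerate 2 (Forms4.disc_ne_zero hab)) h2
    (by simp) T (le_inf hRU T.le_special) φ hrange hker
  refine SLFour.isMaximalIn_of_hom ((Subgroup.subtype _).comp φ) ?_ hiff
    (OrthMono.isMaximalIn_frame_six hD (by simp) rfl (by rw [ZMod.card]; exact hp) h2)
  rw [MonoidHom.range_comp, hrange]
  rfl

end CfsgLib.SUFour
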