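import Cfsg.Agent.MaxSub.UnitaryDecomposition

/-!
# Stabilisers of two orthogonal planes in a four-dimensional unitary space

An overgroup contains a centre whose two components are non-isotropic; these are all equivalent, and
their sums give the centres with two isotropic components.
-/

set_option autoImplicit false
set_option linter.unusedSectionVars false

namespace CfsgLib.SUFour

open Matrix Cfsg.Geo CfsgLib.MaxSub CfsgLib.MaxSub.UC

variable {F : Type*} [Field F] [Fintype F] {n q : ℕ} {σ : F ≃+* F}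

local notation "V" => (Fin n → F)
local notation "η" => Cfsg.hermForm n F q
local notation "Mat" => Matrix (Fin n) (Fin n) F
local notation "SU" => (Cfsg.GU n F q ⊓ specialLinear (Fin n) F)

variable (hf : IsUnitaryForm σ (Cfsg.hermForm n F q))
include hf

/-- The stabiliser of two orthogonal non-degenerate planes is maximal in `SU` unless `q = 2`. -/
theorem isMaximalIn_uPlanes (hσ : ∀ a, σ a = a ^ q) (hF : Fintype.card F = q ^ 2) (hn : 4 ≤ n) (hq : q ≠ 2)
    {D : Fin 2 → Submodule F (Fin n → F)} (hD : IsNondegenerateMDecomposition η 2 D) :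
    IsMaximalIn SU (decompositionStabilizer D ⊓ SU) := by
  classical
  have hs := sesqForm_of_unitary hf
  obtain ⟨δ, hδ0, hδ⟩ := exists_traceZero hf.ne_refl hf.involutive
  have hU := hD.nondegenerate
  have hdim : ∀ p, Module.finrank F (D p) = 2 := hD.decomp.finrank_eq
  have horth := hD.orthogonal
  have hiso_ne : ∀ p, ∃ v ∈ D p, v ≠ 0 ∧ η v v = 0 := fun p => exists_iso_mem hf (D p) (hdim p).ge
  refine isMaximalIn_of inf_le_right ?_ fun M hHM hMK g hg hg' => ?_
  · obtain ⟨a, ha, ha0, haa⟩ := hiso_ne (0 : Fin 2)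
    obtain ⟨b, hb, hb0, hbb⟩ := hiso_ne (1 : Fin 2)
    have h01 : ((0 : Fin 2)) ≠ (1 : Fin 2) := by decide
    have hab : η (a + b) (a + b) = 0 := by
      rw [hs.add_left, hs.add_right, hs.add_right, haa, hbb, horth _ _ h01 a ha b hb,
        horth _ _ (Ne.symm h01) b hb a ha]
      ring
    refine ⟨uTv q (a + b) δ, uTv_mem hf hab hδ, fun h => ?_⟩
    obtain ⟨π, hπ⟩ := h.1
    obtain ⟨z, hz, hzz, haz⟩ := exists_iso_pairing hf (hU _) (hdim _).ge ha ha0
    have hza : η z a = 1 := by rw [hf.herm, haz, map_one]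
    have hzb : η z b = 0 := horth _ _ h01 z hz b hb
    have hmem : z + δ • (a + b) ∈ D (π (0 : Fin 2)) := by
      rw [← hπ]
      refine ⟨z, hz, ?_⟩
      rw [toLin'_apply, uTv_mulVec hf hab, hs.add_right, hza, hzb, add_zero, mul_one]
    by_cases hp : π (0 : Fin 2) = (0 : Fin 2)
    · rw [hp, smul_add, ← add_assoc, Submodule.add_mem_iff_right _ ((D _).add_mem hz ((D _).smul_mem _ ha)),
        Submodule.smul_mem_iff _ hδ0] at hmem
      exact hb0 (dist_eq_zero hf hD (Ne.symm h01) hb hmem)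
    · have e1 := horth _ _ hp _ hmem a ha
      rw [hs.add_left, hs.smul_left, hs.add_left, hza, haa, horth _ _ (Ne.symm h01) b hb a ha, add_zero,
        mul_zero, add_zero] at e1
      exact one_ne_zero e1
  have hgs : g ∈ Cfsg.GU n F q := (hMK hg).1
  have hcD : ∀ p, ∀ v ∈ D p, η v v = 0 → CentreIn q σ M v :=
    fun p v hv hv0 c hc => hHM (uTv_mem_decomp hf hD hv hv0 hc)
  -- an isotropic vector of a member leaving all members
  obtain ⟨i, v, hv, hvv, hv'⟩ : ∃ i, ∃ v ∈ D i, η v v = 0 ∧ ∀ p, (g : Mat) *ᵥ v ∉ D p := by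
    by_contra hcon
    push Not at hcon
    have hone : ∀ i, ∃ p, ∀ u ∈ D i, (g : Mat) *ᵥ u ∈ D p := by
      intro i
      obtain ⟨v₀, hv₀, hv₀0, hv₀v⟩ := hiso_ne i
      obtain ⟨p, hp⟩ := hcon i v₀ hv₀ hv₀v
      refine ⟨p, ?_⟩
      have hiso : ∀ u ∈ D i, η u u = 0 → η u v₀ ≠ 0 → (g : Mat) *ᵥ u ∈ D p := by
        intro u hu huu hne
        obtain ⟨r, hr⟩ := hcon i u hu huu
        rcases eq_or_ne r p with rfl | hrp
        · exact hr
        · exact absurd (by rw [← mem_GU_iff_forall.mp hgs]; exact horth r p hrp _ hr _ hp) hne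
      have hnon : ∀ u ∈ D i, η u v₀ ≠ 0 → (g : Mat) *ᵥ u ∈ D p := by
        intro u hu hne
        obtain ⟨s, h1, h2⟩ := exists_iso_shift hf hv₀v hne
        have := hiso _ ((D i).add_mem hu ((D i).smul_mem s hv₀)) h1 (by rw [h2]; exact hne)
        rw [mulVec_add, mulVec_smul, Submodule.add_mem_iff_left _ ((D p).smul_mem _ hp)] at this
        exact this
      intro u hu
      by_cases hne : η u v₀ = 0
      · obtain ⟨z, hz, -, hzv⟩ := exists_iso_pairing hf (hU i) (hdim i).ge hv₀ hv₀0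
        have hz1 : η z v₀ = 1 := by rw [hf.herm, hzv, map_one]
        have h1 := hnon z hz (by rw [hz1]; exact one_ne_zero)
        have h2 := hnon (u + z) ((D i).add_mem hu hz) (by rw [hs.add_left, hne, hz1, zero_add]; exact one_ne_zero)
        rwa [mulVec_add, Submodule.add_mem_iff_left _ h1] at h2
      · exact hnon u hu hne
    choose π hπ using hone
    have hmap : ∀ i, (D i).map (toLin' (g : Mat)) = D (π i) := fun i =>
      Submodule.eq_of_le_of_finrank_le (by
        rintro y ⟨x, hx, rfl⟩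
        rw [toLin'_apply]; exact hπ i x hx) (by
        rw [Matrix.toLin'_apply', finrank_map_gl hf, hD.decomp.finrank_eq, hD.decomp.finrank_eq])
    have hinj : Function.Injective π := by
      intro p r hpr
      by_contra hne
      obtain ⟨u, hu, hu0, -⟩ := hiso_ne p
      have : toLin' (g : Mat) u ∈ (D r).map (toLin' (g : Mat)) := by
        rw [hmap r, ← hpr, ← hmap p]; exact Submodule.mem_map_of_mem hu
      obtain ⟨w, hw, hwe⟩ := this
      rw [toLin'_apply, toLin'_apply] at hwe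
      have : w = u := mulVec_injective_iff_isUnit.mpr g.isUnit hwe
      exact hu0 (dist_eq_zero hf hD hne hu (this ▸ hw))
    exact hg' ⟨⟨Equiv.ofBijective π (Finite.injective_iff_bijective.mp hinj), hmap⟩, hMK hg⟩
  set x := (g : Mat) *ᵥ v with hxdef
  have hcx : CentreIn q σ M x := centreIn_map hf (hcD i v hv hvv) hgs hg
  have hxx : η x x = 0 := by rw [hxdef, mem_GU_iff_forall.mp hgs]; exact hvv
  -- components
  have o01 := horth 0 1 (by decide)
  have o10 := horth 1 0 (by decide)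
  have hdec : ∀ y : V, ∃ a ∈ D 0, ∃ b ∈ D 1, a + b = y := by
    intro y
    refine Submodule.mem_sup.mp ?_
    have : D 0 ⊔ D 1 = ⊤ := by
      rw [← hD.decomp.iSup_eq_top]
      refine le_antisymm (sup_le (le_iSup D 0) (le_iSup D 1)) (iSup_le fun i => ?_)
      fin_cases i
      · exact le_sup_left
      · exact le_sup_right
    rw [this]; exact Submodule.mem_top
  have hnorm : ∀ a ∈ D 0, ∀ b ∈ D 1, η (a + b) (a + b) = η a a + η b b := by
    intro a ha b hb
    rw [hs.add_left, hs.add_right, hs.add_right, o01 a ha b hb, o10 b hb a ha]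
    ring
  obtain ⟨c₀, hc₀, c₁, hc₁, hx⟩ := hdec x
  have hc₀0 : c₀ ≠ 0 := fun h => hv' 1 (show x ∈ D 1 by rw [← hx, h, zero_add]; exact hc₁)
  have hc₁0 : c₁ ≠ 0 := fun h => hv' 0 (show x ∈ D 0 by rw [← hx, h, add_zero]; exact hc₀)
  -- a centre with non-isotropic components
  obtain ⟨A, hA, B, hB, hAN, hAB, hcAB⟩ : ∃ A ∈ D 0, ∃ B ∈ D 1, η A A ≠ 0 ∧ η (A + B) (A + B) = 0 ∧
      CentreIn q σ M (A + B) := by
    by_cases hN : η c₀ c₀ = 0
    swap
    · exact ⟨c₀, hc₀, c₁, hc₁, hN, hx ▸ hxx, hx ▸ hcx⟩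
    have hN₁ : η c₁ c₁ = 0 := by
      rw [← hx, hnorm c₀ hc₀ c₁ hc₁, hN, zero_add] at hxx; exact hxx
    obtain ⟨f₀, hf₀, hf₀f, he₀⟩ := exists_iso_pairing hf (hU 0) (hdim 0).ge hc₀ hc₀0
    obtain ⟨f₁, hf₁, hf₁f, he₁⟩ := exists_iso_pairing hf (hU 1) (hdim 1).ge hc₁ hc₁0
    have hfe₀ : η f₀ c₀ = 1 := by rw [hf.herm, he₀, map_one]
    have hfe₁ : η f₁ c₁ = 1 := by rw [hf.herm, he₁, map_one]
    obtain ⟨a, ha, ha'⟩ : ∃ a, a + σ a = 1 ∧ σ a ≠ a := by
      obtain ⟨a, ha⟩ := trace_surjective hf.ne_refl hf.involutive (a := (1 : F)) (map_one σ)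
      by_cases hfix : σ a = a
      · refine ⟨a + δ, by rw [map_add, hδ]; linear_combination ha, fun h => ?_⟩
        rw [map_add, hδ, hfix] at h
        have h2 : (2 : F) * δ = 0 := by linear_combination -h
        rw [hfix] at ha
        exact one_ne_zero (by linear_combination (-1 : F) * ha + a * (mul_eq_zero.mp h2).resolve_right hδ0)
      · exact ⟨a, ha, hfix⟩
    have ha0 : a ≠ 0 := fun h => ha' (by rw [h, map_zero])
    have hσa0 : σ a ≠ 0 := (map_ne_zero_iff σ σ.injective).mpr ha0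
    -- a reflection moving `e` to `b f`
    have refl : ∀ {e f : V}, η e e = 0 → η f f = 0 → η e f = 1 → η f e = 1 → ∀ b : F, b ≠ 0 →
        ∃ R ∈ Cfsg.GU n F q, (R : Mat).det = -b / σ b ∧ (R : Mat) *ᵥ e = b • f ∧
          ∀ y, (R : Mat) *ᵥ y = y + ((σ b)⁻¹ * η y (b • f - e)) • (b • f - e) := by
      intro e f hee hff hef hfe b hb
      have hσb : σ b ≠ 0 := (map_ne_zero_iff σ σ.injective).mpr hb
      have hed : η e (b • f - e) = σ b := by rw [hs.sub_right, hs.smul_right, hee, hef, mul_one, sub_zero]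
      have hdd : η (b • f - e) (b • f - e) = -(b + σ b) := by
        simp only [hs.sub_left, hs.sub_right, hs.smul_left, hs.smul_right, hee, hff, hef, hfe]; ring
      obtain ⟨R, hR, hRd, hRa⟩ := exists_quasiReflection hf (d := b • f - e) (c := (σ b)⁻¹) (by
        rw [hdd, map_inv₀, hf.involutive]; field_simp; ring)
      refine ⟨R, hR, ?_, ?_, hRa⟩
      · rw [hRd, hdd]; field_simp; ring
      · rw [hRa, hed, inv_mul_cancel₀ hσb, one_smul, add_sub_cancel]
    obtain ⟨R₀, hR₀, hd₀, hm₀, hR₀a⟩ := refl hN hf₀f he₀ hfe₀ a ha0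
    obtain ⟨R₁, hR₁, hd₁, hm₁, hR₁a⟩ := refl hN₁ hf₁f he₁ hfe₁ (σ a) hσa0
    have hkeep : ∀ {w : V} {r : Fin 2}, w ∈ D r → ∀ (p : Fin 2) (y : V), y ∈ D p → ∀ s : F,
        y + (s * η y w) • w ∈ D p := by
      intro w r hw p y hy s
      rcases eq_or_ne p r with rfl | hpr
      · exact (D p).add_mem hy ((D p).smul_mem _ hw)
      · rw [horth p r hpr y hy w hw, mul_zero, zero_smul, add_zero]; exact hy
    have hw₀ : a • f₀ - c₀ ∈ D 0 := (D 0).sub_mem ((D 0).smul_mem _ hf₀) hc₀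
    have hw₁ : σ a • f₁ - c₁ ∈ D 1 := (D 1).sub_mem ((D 1).smul_mem _ hf₁) hc₁
    have hmem : R₁ * R₀ ∈ decompositionStabilizer D ⊓ SU := by
      refine ⟨mem_decomp_of_forall hf hD fun p y hy => ?_, (Cfsg.GU n F q).mul_mem hR₁ hR₀, (su_det hf).mpr ?_⟩
      · rw [Units.val_mul, ← mulVec_mulVec, hR₁a, hR₀a]
        exact hkeep hw₁ p _ (hkeep hw₀ p y hy _) _
      · rw [Units.val_mul, det_mul, hd₀, hd₁, hf.involutive]; field_simp
    have hmove : ((R₁ * R₀ : GL (Fin n) F) : Mat) *ᵥ x = a • f₀ + σ a • f₁ := by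
      rw [← hx, Units.val_mul, ← mulVec_mulVec, mulVec_add, hm₀, hR₀a c₁, o10 c₁ hc₁ _ hw₀, mul_zero,
        zero_smul, add_zero, mulVec_add, hm₁, hR₁a (a • f₀), o01 _ ((D 0).smul_mem _ hf₀) _ hw₁, mul_zero,
        zero_smul, add_zero]
    have hc' := centreIn_map hf hcx hmem.2.1 (hHM hmem)
    rw [hmove] at hc'
    have hz : δ • c₀ + a • f₀ ∈ D 0 := (D 0).add_mem ((D 0).smul_mem _ hc₀) ((D 0).smul_mem _ hf₀)
    have hz' : δ • c₁ + σ a • f₁ ∈ D 1 := (D 1).add_mem ((D 1).smul_mem _ hc₁) ((D 1).smul_mem _ hf₁)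
    have hn₀ : η (δ • c₀ + a • f₀) (δ • c₀ + a • f₀) = δ * (σ a - a) := by
      simp only [hs.add_left, hs.add_right, hs.smul_left, hs.smul_right, hN, hf₀f, he₀, hfe₀, hδ]; ring
    have hn₁ : η (δ • c₁ + σ a • f₁) (δ • c₁ + σ a • f₁) = δ * (a - σ a) := by
      simp only [hs.add_left, hs.add_right, hs.smul_left, hs.smul_right, hN₁, hf₁f, he₁, hfe₁, hδ, hf.involutive]
      ring
    have hiso : η ((δ • c₀ + a • f₀) + (δ • c₁ + σ a • f₁)) ((δ • c₀ + a • f₀) + (δ • c₁ + σ a • f₁)) = 0 := by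
      rw [hnorm _ hz _ hz', hn₀, hn₁]; ring
    refine ⟨_, hz, _, hz', by rw [hn₀]; exact mul_ne_zero hδ0 (sub_ne_zero.mpr ha'), hiso, ?_⟩
    have hsum : δ • c₀ + a • f₀ + (δ • c₁ + σ a • f₁) = δ • x + (a • f₀ + σ a • f₁) := by rw [← hx]; module
    rw [hsum] at hiso ⊢
    refine centreIn_add hf (centreIn_smul hf hcx δ) hc' (by rw [hs.smul_left, hs.smul_right, hxx, mul_zero, mul_zero])
      ?_ ?_ hiso
    · rw [hnorm _ ((D 0).smul_mem _ hf₀) _ ((D 1).smul_mem _ hf₁), hs.smul_left, hs.smul_right, hf₀f,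
        hs.smul_left, hs.smul_right, hf₁f]
      ring
    · rw [← hx, hs.smul_left, hs.add_left, hs.add_right, hs.add_right, o01 _ hc₀ _ ((D 1).smul_mem _ hf₁),
        o10 _ hc₁ _ ((D 0).smul_mem _ hf₀), hs.smul_right, hs.smul_right, he₀, he₁, hf.involutive]
      intro h
      exact hδ0 (by linear_combination h - δ * ha)
  -- all centres with non-isotropic components
  have hchange : ∀ (p r : Fin 2), r ≠ p → ∀ a ∈ D p, ∀ a' ∈ D p, ∀ b ∈ D r, η a a ≠ 0 → η a a = η a' a' →
      η (a + b) (a + b) = 0 → CentreIn q σ M (a + b) → CentreIn q σ M (a' + b) := by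
    intro p r hrp a ha a' ha' b hb hN hN' hiso hc
    have hbb : η b b ≠ 0 := fun h => hN (by
      rw [hs.add_left, hs.add_right, hs.add_right, horth r p hrp b hb a ha, horth p r (Ne.symm hrp) a ha b hb, h] at hiso
      linear_combination hiso)
    have hne : orthIn hf (D r) b ≠ ⊥ := fun h => by
      have := finrank_orthIn hf hb hbb
      rw [h, finrank_bot, hdim] at this
      omega
    obtain ⟨e, he, hee⟩ := exists_norm_one hf (nondeg_orthIn hf (hU r) hb hbb) hne
    rw [mem_orthIn] at he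
    refine decomp_change hf hD hHM (fun y hy d hd => ⟨r, e, he.1, by rw [hee]; exact one_ne_zero, he.2,
      horth r p hrp e he.1 y hy, horth r p hrp e he.1 d hd⟩) ha ha' (fun h => hN (by rw [h, hs.zero_left]))
      (fun h => hN (by rw [hN', h, hs.zero_left])) (fun z hz => horth r p hrp b hb z hz) hN' hiso hc
  have hreg : ∀ a ∈ D 0, ∀ b ∈ D 1, η a a ≠ 0 → η (a + b) (a + b) = 0 → CentreIn q σ M (a + b) := by
    intro a ha b hb hN hab
    obtain ⟨s, hs'⟩ := norm_surjective hf.ne_refl hf.involutive (a := η a a / η A A)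
      (by rw [map_div₀, herm_self hf, herm_self hf])
    have h1 : η (s • A) (s • A) = η a a := by
      rw [hs.smul_left, hs.smul_right, ← mul_assoc, hs', div_mul_cancel₀ _ hAN]
    have hisoA : η (s • A + s • B) (s • A + s • B) = 0 := by
      rw [← smul_add, hs.smul_left, hs.smul_right, hAB, mul_zero, mul_zero]
    have h2 := centreIn_smul hf hcAB s
    rw [smul_add] at h2
    have h3 := hchange 0 1 (by decide) _ ((D 0).smul_mem _ hA) a ha _ ((D 1).smul_mem _ hB)
      (by rwa [h1]) h1 hisoA h2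
    have hiso3 : η (s • B + a) (s • B + a) = 0 := by
      rw [add_comm, hnorm a ha _ ((D 1).smul_mem _ hB), ← h1, ← hnorm _ ((D 0).smul_mem _ hA) _ ((D 1).smul_mem _ hB),
        hisoA]
    have hbB : η (s • B) (s • B) = η b b := by
      rw [hnorm a ha b hb] at hab
      rw [hnorm _ ((D 0).smul_mem _ hA) _ ((D 1).smul_mem _ hB), h1] at hisoA
      linear_combination hisoA - hab
    have hbN : η b b ≠ 0 := fun h => hN (by rwa [hnorm a ha b hb, h, add_zero] at hab)
    rw [add_comm]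
    exact hchange 1 0 (by decide) _ ((D 1).smul_mem _ hB) b hb a ha (by rwa [hbB]) hbB hiso3 (by rwa [add_comm])
  -- the remaining centres
  refine su_le_of_forall_uTv hf hσ hF hn fun w hw => ?_
  obtain ⟨a, ha, b, hb, rfl⟩ := hdec w
  by_cases hN : η a a ≠ 0
  · exact hreg a ha b hb hN hw
  rw [not_not] at hN
  have hNb : η b b = 0 := by rwa [hnorm a ha b hb, hN, zero_add] at hw
  rcases eq_or_ne a 0 with rfl | ha0
  · rw [zero_add]; exact hcD 1 b hb hNb
  rcases eq_or_ne b 0 with rfl | hb0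
  · rw [add_zero]; exact hcD 0 a ha hN
  obtain ⟨f, hf', hff, haf⟩ := exists_iso_pairing hf (hU 0) (hdim 0).ge ha ha0
  obtain ⟨f', hf'', hf'f, hbf⟩ := exists_iso_pairing hf (hU 1) (hdim 1).ge hb hb0
  have hfa : η f a = 1 := by rw [hf.herm, haf, map_one]
  have hfb : η f' b = 1 := by rw [hf.herm, hbf, map_one]
  obtain ⟨s, hσs, hs0, hs1⟩ := exists_fixed_scalar hf hσ hF hq
  obtain ⟨m, hm⟩ := trace_surjective hf.ne_refl hf.involutive (a := (1 : F)) (map_one σ)
  have h1s : 1 + s ≠ 0 := fun h => hs1 (by linear_combination h)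
  set c := -s * δ with hc
  set c' := (1 + s) * δ with hc'
  have hcc : c ≠ 0 := mul_ne_zero (neg_ne_zero.mpr hs0) hδ0
  have hcc' : c' ≠ 0 := mul_ne_zero h1s hδ0
  set t₀ := m / σ c with ht₀
  set t₁ := -m / σ c' with ht₁
  have hσc : σ c = -c := by rw [hc, map_mul, map_neg, hσs, hδ]; ring
  have hσc' : σ c' = -c' := by rw [hc', map_mul, map_add, map_one, hσs, hδ]; ring
  have e₀ : t₀ * σ c = m := div_mul_cancel₀ _ ((map_ne_zero_iff σ σ.injective).mpr hcc)
  have e₁ : t₁ * σ c' = -m := div_mul_cancel₀ _ ((map_ne_zero_iff σ σ.injective).mpr hcc')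
  have e₀' : c * σ t₀ = σ m := by rw [← e₀, map_mul, hf.involutive]; ring
  have e₁' : c' * σ t₁ = -σ m := by rw [← map_neg, ← e₁, map_mul, hf.involutive]; ring
  set P := t₀ • a + c • f with hP
  set R := t₁ • b + c' • f' with hR
  have hPm : P ∈ D 0 := (D 0).add_mem ((D 0).smul_mem _ ha) ((D 0).smul_mem _ hf')
  have hRm : R ∈ D 1 := (D 1).add_mem ((D 1).smul_mem _ hb) ((D 1).smul_mem _ hf'')
  have hPP : η P P = 1 := by
    simp only [hP, hs.add_left, hs.add_right, hs.smul_left, hs.smul_right, hN, hff, haf, hfa]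
    linear_combination e₀ + e₀' + hm
  have hRR : η R R = -1 := by
    simp only [hR, hs.add_left, hs.add_right, hs.smul_left, hs.smul_right, hNb, hf'f, hbf, hfb]
    linear_combination e₁ + e₁' - hm
  have haP : η a P = σ c := by rw [hP, hs.add_right, hs.smul_right, hs.smul_right, hN, haf]; ring
  have hPa : η P a = c := by rw [hf.herm, haP, hf.involutive]
  have hbR : η b R = σ c' := by rw [hR, hs.add_right, hs.smul_right, hs.smul_right, hNb, hbf]; ring
  have hRb : η R b = c' := by rw [hf.herm, hbR, hf.involutive]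
  have hP' : η (a - P) (a - P) = 1 := by
    rw [hs.sub_left, hs.sub_right, hs.sub_right, hN, haP, hPa, hPP, hσc]; ring
  have hR' : η (b - R) (b - R) = -1 := by
    rw [hs.sub_left, hs.sub_right, hs.sub_right, hNb, hbR, hRb, hRR, hσc']; ring
  have i₁ : η (P + R) (P + R) = 0 := by rw [hnorm P hPm R hRm, hPP, hRR]; ring
  have i₂ : η ((a - P) + (b - R)) ((a - P) + (b - R)) = 0 := by
    rw [hnorm _ ((D 0).sub_mem ha hPm) _ ((D 1).sub_mem hb hRm), hP', hR']; ring
  have k₁ := hreg P hPm R hRm (by rw [hPP]; exact one_ne_zero) i₁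
  have k₂ := hreg _ ((D 0).sub_mem ha hPm) _ ((D 1).sub_mem hb hRm) (by rw [hP']; exact one_ne_zero) i₂
  rw [show a + b = P + R + (a - P + (b - R)) by abel] at hw ⊢
  refine centreIn_add hf k₁ k₂ i₁ i₂ ?_ hw
  rw [hs.add_left, hs.add_right, hs.add_right, o01 P hPm _ ((D 1).sub_mem hb hRm),
    o10 R hRm _ ((D 0).sub_mem ha hPm), hs.sub_right, hs.sub_right, hPa, hPP, hRb, hRR, hc, hc']
  intro h
  exact hδ0 (by linear_combination h)

end CfsgLib.SUFour
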