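import Cfsg.Agent.MaxSub.UnitaryDecompositionOne

/-!
# Four orthonormal lines in a unitary space

For `q ≥ 4` a subgroup above the monomial group contains an element with a zero entry, hence a non-monomial
element fixing a coordinate line. For `q = 2` it moves a centre with two coordinates to one with four.
-/

set_option autoImplicit false
set_option linter.unusedSectionVars false

namespace CfsgLib.SUFour

open Matrix Cfsg.Geo CfsgLib.MaxSub CfsgLib.MaxSub.UC CfsgLib.MaxSub.UMono CfsgLib.MaxSub.Monomial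
  CfsgLib.MaxSub.Circle

variable {F : Type*} [Field F] [Fintype F] {q : ℕ} {σ : F ≃+* F}

local notation "V" => (Fin 4 → F)
local notation "η" => Cfsg.hermForm 4 F q
local notation "Mat" => Matrix (Fin 4) (Fin 4) F
local notation "ε⟦" r "⟧" => (Pi.single r (1 : F) : Fin 4 → F)
local notation "SU" => (Cfsg.GU 4 F q ⊓ specialLinear (Fin 4) F)

variable (hf : IsUnitaryForm σ (Cfsg.hermForm 4 F q)) (hb : IsBar q σ)
include hf hb

/-- Two zeros in a row give a fixed line. -/
theorem two_zeros_four (hq : 4 ≤ q) {M : Subgroup (GL (Fin 4) F)} (hM : UMonoIn σ M) (hMU : M ≤ Cfsg.GU 4 F q)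
    {g : GL (Fin 4) F} (hg : g ∈ M) (hg' : ¬ Mono g) {k c c' : Fin 4} (hcc : c ≠ c')
    (h1 : (g : Mat) k c = 0) (h2 : (g : Mat) k c' = 0) : Fixer M := by
  classical
  rcases pair_zero hf hb hM hMU hg hg' hcc h1 h2 with h | ⟨S, -, hS2, hcol⟩
  · exact h
  have hS := hS2 (by omega)
  by_contra hno
  obtain ⟨l, hl, hlord⟩ := exists_order hb
  have hl0 := ne_zero_of_mem hb hl
  have hl4 : l ^ 4 ≠ 1 := hlord 4 hq (by norm_num)
  have hl2 : l ^ 2 ≠ 1 := hlord 2 (by omega) (by norm_num)
  have hl1 : l ≠ 1 := fun e => hl2 (by rw [e, one_pow])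
  have hgU := hMU hg
  set P := (g : Mat) *ᵥ ε⟦c⟧ with hP
  set Q := (g : Mat) *ᵥ ε⟦c'⟧ with hQ
  obtain ⟨hPP, hQQ, hPQ, href⟩ := dref_conj hf hb (dref_single hf hb hM hcc) hg hgU
  rw [← hP, ← hQ] at hPQ
  rw [← hP] at hPP
  rw [← hQ] at hQQ
  obtain ⟨u, hu, hua⟩ := href l hl
  simp only [← hP, ← hQ] at hua
  have hout : ∀ p, p ∉ S → P p = 0 ∧ Q p = 0 := fun p hp => by
    rw [hP, hQ, col_apply' hf hb, col_apply' hf hb]; exact hcol p hp
  have hfixS : ∀ p, p ∉ S → (u : Mat) *ᵥ ε⟦p⟧ = ε⟦p⟧ := fun p hp => by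
    rw [hua, herm_single_left hf hb, herm_single_left hf hb, (hout p hp).1, (hout p hp).2]
    simp
  obtain ⟨k', hk'⟩ : ∃ k', k' ∉ S := by
    by_contra hcon
    push Not at hcon
    have := Finset.card_le_card (fun x _ => hcon x : (Finset.univ : Finset (Fin 4)) ⊆ S)
    simp at this
    omega
  have hmono : Mono u := by
    by_contra hm
    exact hno ⟨k', u, hu, hm, 1, by rw [hfixS k' hk', one_smul]⟩
  obtain ⟨π, δ, hπ⟩ := hmono.eq_monEl
  have hcP : ∀ p, δ (π.symm p) * P (π.symm p) = l * P p := fun p => by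
    have := congrFun (hua P) p
    rw [hπ, monEl_mulVec, hPP, hPQ] at this
    rw [this]; simp; ring
  have hcQ : ∀ p, δ (π.symm p) * Q (π.symm p) = l⁻¹ * Q p := fun p => by
    have := congrFun (hua Q) p
    rw [hπ, monEl_mulVec, hQQ, unitary_orth_symm hf hPQ] at this
    rw [this]; simp; ring
  have hπfix : ∀ p, p ∉ S → π p = p := fun p hp => by
    have e := hfixS p hp
    rw [hπ, monEl_single] at e
    by_contra hne
    have := congrFun e (π p)
    simp [hne, (δ p).ne_zero] at this
  have hnocol : ∀ (a : Fin 4) (r : Fin 4), ¬ ∀ p, p ≠ r → (g : Mat) p a = 0 := fun a r h =>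
    hno (fixer_of_single_col hf hb hM hg hg' (c := a) (r := r) h)
  have hne : ∀ (a : Fin 4), ∀ r, ∃ p, p ≠ r ∧ ((g : Mat) *ᵥ ε⟦a⟧) p ≠ 0 := fun a r => by
    by_contra hcon
    push Not at hcon
    exact hnocol a r fun p hp => by rw [← col_apply' hf hb]; exact hcon p hp
  by_cases hdiag : ∀ r, π r = r
  · -- both columns are coordinate vectors
    have hP' : ∀ p, P p ≠ 0 → (δ p : F) = l := fun p hp => by
      have := hcP p
      rw [show π.symm p = p by rw [Equiv.symm_apply_eq, hdiag]] at this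
      exact mul_right_cancel₀ hp this
    have hQ' : ∀ p, Q p ≠ 0 → (δ p : F) = l⁻¹ := fun p hp => by
      have := hcQ p
      rw [show π.symm p = p by rw [Equiv.symm_apply_eq, hdiag]] at this
      exact mul_right_cancel₀ hp this
    obtain ⟨p₁, -, hp₁⟩ := hne c k'
    obtain ⟨p₂, hp₂₁, hp₂⟩ := hne c p₁
    obtain ⟨p₃, -, hp₃⟩ := hne c' k'
    have m₁ : p₁ ∈ S := by_contra fun h => hp₁ (hout p₁ h).1
    have m₂ : p₂ ∈ S := by_contra fun h => hp₂ (hout p₂ h).1
    have m₃ : p₃ ∈ S := by_contra fun h => hp₃ (hout p₃ h).2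
    have e : p₃ = p₁ ∨ p₃ = p₂ := by
      by_contra hcon
      push Not at hcon
      have := Finset.card_le_card (show ({p₁, p₂, p₃} : Finset (Fin 4)) ⊆ S by
        simp [Finset.insert_subset_iff, m₁, m₂, m₃])
      rw [Finset.card_insert_of_notMem (by simp [Ne.symm hp₂₁, Ne.symm hcon.1]),
        Finset.card_pair (Ne.symm hcon.2)] at this
      omega
    refine hl2 ?_
    have hll : l = l⁻¹ := by
      rcases e with e | e
      · exact (hP' p₁ hp₁).symm.trans (e ▸ hQ' p₃ hp₃)
      · exact (hP' p₂ hp₂).symm.trans (e ▸ hQ' p₃ hp₃)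
    rw [pow_two]
    nth_rewrite 2 [hll]
    exact mul_inv_cancel₀ hl0
  push Not at hdiag
  obtain ⟨r, hr⟩ := hdiag
  have hrS : r ∈ S := by_contra fun h => hr (hπfix r h)
  have hr'S : π r ∈ S := by_contra fun h => hr (π.injective (hπfix _ h))
  have hSeq : S = {r, π r} := (Finset.eq_of_subset_of_card_le (by
    simp [Finset.insert_subset_iff, hrS, hr'S]) (by rw [Finset.card_pair (Ne.symm hr)]; exact hS)).symm
  have hππ : π (π r) = r := by
    have h' : π (π r) ∈ S := by_contra fun h => hr (π.injective (π.injective (hπfix _ h)))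
    rw [hSeq, Finset.mem_insert, Finset.mem_singleton] at h'
    exact h'.resolve_right fun e => hr (π.injective e)
  have prod : ∀ (X : V) (μ : F), μ ≠ 0 → X ≠ 0 → (∀ p, p ∉ S → X p = 0) →
      (∀ p, δ (π.symm p) * X (π.symm p) = μ * X p) → (δ r : F) * δ (π r) = μ ^ 2 := by
    intro X μ hμ hX hXout hXeq
    have f1 := hXeq (π r)
    have f2 := hXeq r
    rw [Equiv.symm_apply_apply] at f1
    rw [show π.symm r = π r by rw [Equiv.symm_apply_eq, hππ]] at f2
    have hXr : X r ≠ 0 := by
      intro h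
      rw [h, mul_zero] at f1
      have h' := (mul_eq_zero.mp f1.symm).resolve_left hμ
      refine hX (funext fun p => ?_)
      by_cases hp : p ∈ S
      · rw [hSeq, Finset.mem_insert, Finset.mem_singleton] at hp
        rcases hp with rfl | rfl
        · exact h
        · exact h'
      · exact hXout p hp
    refine mul_right_cancel₀ hXr ?_
    linear_combination (δ (π r) : F) * f1 + μ * f2
  have hP0 : P ≠ 0 := fun h => by rw [h, (sesqForm_of_unitary hf).zero_left] at hPP; exact zero_ne_one hPP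
  have hQ0 : Q ≠ 0 := fun h => by rw [h, (sesqForm_of_unitary hf).zero_left] at hQQ; exact zero_ne_one hQQ
  have e1 := prod P l hl0 hP0 (fun p hp => (hout p hp).1) hcP
  have e2 := prod Q l⁻¹ (inv_ne_zero hl0) hQ0 (fun p hp => (hout p hp).2) hcQ
  refine hl4 ?_
  rw [e1, inv_pow] at e2
  rw [show l ^ 4 = l ^ 2 * l ^ 2 by ring]
  nth_rewrite 1 [e2]
  exact inv_mul_cancel₀ (pow_ne_zero _ hl0)

/-- A zero entry gives a fixed line. -/
theorem one_zero_four (hq : 4 ≤ q) {M : Subgroup (GL (Fin 4) F)} (hM : UMonoIn σ M) (hMU : M ≤ Cfsg.GU 4 F q)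
    {g : GL (Fin 4) F} (hg : g ∈ M) (hg' : ¬ Mono g) {k l : Fin 4} (hkl : (g : Mat) k l = 0) : Fixer M := by
  classical
  have hgi' : ¬ Mono g⁻¹ := fun h => hg' (by simpa using h.inv)
  by_cases hrow : ∃ j, j ≠ l ∧ (g : Mat) k j = 0
  · obtain ⟨j, hjl, hj⟩ := hrow
    exact two_zeros_four hf hb hq hM hMU hg hg' (Ne.symm hjl) hkl hj
  by_cases hcol : ∃ p, p ≠ k ∧ (g : Mat) p l = 0
  · obtain ⟨p, hpk, hp⟩ := hcol
    exact two_zeros_four hf hb hq hM hMU (M.inv_mem hg) hgi' (k := l) (Ne.symm hpk)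
      (by rw [inv_entry hf hb (hMU hg), hkl, map_zero]) (by rw [inv_entry hf hb (hMU hg), hp, map_zero])
  push Not at hrow hcol
  have hgU := hMU hg
  set w := ((g⁻¹ : GL (Fin 4) F) : Mat) *ᵥ ε⟦k⟧ with hw
  have hwv : ∀ s, w s = σ ((g : Mat) k s) := fun s => by rw [hw, col_apply' hf hb, inv_entry hf hb hgU]
  have hgw : (g : Mat) *ᵥ w = ε⟦k⟧ := by rw [hw, mulVec_mulVec, Units.mul_inv, one_mulVec]
  obtain ⟨ζ, hζ, hord⟩ := exists_order hb
  have hζn : ζ ^ 4 ≠ 1 := hord 4 hq (by norm_num)
  set ζu : Fˣ := Units.mk0 ζ (ne_zero_of_mem hb hζ) with hζu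
  set d : Fin 4 → Fˣ := fun s => if s = l then (ζu ^ 3)⁻¹ else ζu with hd
  have hDM : monEl 1 d ∈ M := by
    refine hM _ _ (fun r => ?_) ?_
    · by_cases hr : r = l
      · simp only [hd, if_pos hr, hζu, Units.val_inv_eq_inv_val, Units.val_pow_eq_pow_val, Units.val_mk0]
        exact Circle.inv_mem hb (Circle.pow_mem hb hζ _)
      · simpa [hd, hr, hζu] using hζ
    · rw [det_monEl, map_one, Units.val_one, Int.cast_one, one_mul, ← Units.coe_prod, hd,
        ← Finset.mul_prod_erase _ _ (Finset.mem_univ l), if_pos rfl,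
        Finset.prod_congr rfl (g := fun _ => ζu) (fun s hs => if_neg (Finset.ne_of_mem_erase hs)),
        Finset.prod_const, Finset.card_erase_of_mem (Finset.mem_univ l), Finset.card_univ, Fintype.card_fin,
        inv_mul_cancel, Units.val_one]
  set b := g * monEl 1 d * g⁻¹ with hb'
  have hbk : (b : Mat) *ᵥ ε⟦k⟧ = ζ • ε⟦k⟧ := by
    rw [hb', Units.val_mul, ← mulVec_mulVec, ← hw, Units.val_mul, ← mulVec_mulVec,
      show (monEl 1 d : Mat) *ᵥ w = ζ • w by
        funext s
        rw [monEl_mulVec, show (1 : Equiv.Perm (Fin 4)).symm = 1 from rfl, Equiv.Perm.one_apply]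
        by_cases hs : s = l
        · subst hs; simp [hwv, hkl]
        · simp [hd, hs, hζu], mulVec_smul, hgw]
  refine ⟨k, b, M.mul_mem (M.mul_mem hg hDM) (M.inv_mem hg), ?_, ζ, hbk⟩
  rintro ⟨π, hπ⟩
  set μ : F := ((ζu ^ 3)⁻¹ : Fˣ) / ζ with hμ
  have hμ1 : μ ≠ 1 := by
    intro e
    rw [hμ, div_eq_one_iff_eq (ne_zero_of_mem hb hζ), Units.val_inv_eq_inv_val, Units.val_pow_eq_pow_val,
      hζu, Units.val_mk0] at e
    refine hζn ?_
    rw [show (4 : ℕ) = 3 + 1 by norm_num, pow_succ]
    nth_rewrite 2 [← e]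
    exact mul_inv_cancel₀ (pow_ne_zero _ (ne_zero_of_mem hb hζ))
  have hent : ∀ p r, p ≠ r → (b : Mat) p r = ζ * ((μ - 1) * ((g : Mat) p l * σ ((g : Mat) r l))) := by
    intro p r hpr
    have hsum : (b : Mat) p r = ∑ s, (g : Mat) p s * ((d s : F) * ((g⁻¹ : GL (Fin 4) F) : Mat) s r) := by
      rw [← col_apply' hf hb b p r, hb', Units.val_mul, ← mulVec_mulVec, Units.val_mul, ← mulVec_mulVec,
        diag_mulVec₀]
      show ∑ s, (g : Mat) p s * ((d s : F) * (((g⁻¹ : GL (Fin 4) F) : Mat) *ᵥ ε⟦r⟧) s) = _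
      exact Finset.sum_congr rfl fun s _ => by rw [col_apply' hf hb]
    have e : ∑ s, (g : Mat) p s * ((g⁻¹ : GL (Fin 4) F) : Mat) s r = 0 := by
      rw [← Matrix.mul_apply, Units.mul_inv, Matrix.one_apply_ne hpr]
    have key : ∀ s, (g : Mat) p s * ((d s : F) * ((g⁻¹ : GL (Fin 4) F) : Mat) s r) =
        ζ * ((g : Mat) p s * ((g⁻¹ : GL (Fin 4) F) : Mat) s r) +
          if s = l then ζ * ((μ - 1) * ((g : Mat) p l * σ ((g : Mat) r l))) else 0 := by
      intro s
      by_cases hs : s = l
      · subst hs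
        have := ne_zero_of_mem hb hζ
        rw [if_pos rfl, inv_entry hf hb hgU]
        simp only [hd, if_pos, hμ]
        field_simp
        ring
      · rw [if_neg hs, add_zero]; simp [hd, hs, hζu]; ring
    rw [hsum, Finset.sum_congr rfl fun s _ => key s, Finset.sum_add_distrib, ← Finset.mul_sum, e, mul_zero,
      zero_add, Finset.sum_ite_eq', if_pos (Finset.mem_univ l)]
  obtain ⟨r, -, hr⟩ := Finset.exists_mem_notMem_of_card_lt_card (s := ({k} : Finset (Fin 4))) (t := Finset.univ)
    (by simp)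
  obtain ⟨p, -, hp⟩ := Finset.exists_mem_notMem_of_card_lt_card (s := ({k, r, π r} : Finset (Fin 4)))
    (t := Finset.univ) (Finset.card_le_three.trans_lt (by simp))
  simp only [Finset.mem_insert, Finset.mem_singleton, not_or] at hr hp
  refine hp.2.2 (hπ p r ?_)
  rw [hent p r hp.2.1]
  exact mul_ne_zero (ne_zero_of_mem hb hζ) (mul_ne_zero (sub_ne_zero.mpr hμ1)
    (mul_ne_zero (hcol p hp.1) ((map_ne_zero_iff σ σ.injective).mpr (hcol r hr))))

/-- Circles through points of different sizes have a common trace other than zero. -/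
theorem exists_common_trace (hq : 4 ≤ q) (h2 : (2 : F) ≠ 0) {u v : F} (hu : u ≠ 0) (hv : v ≠ 0)
    (hfix : ∃ x ∈ normOne σ, σ (x * u) = x * u) :
    ∃ x ∈ normOne σ, ∃ y ∈ normOne σ, x * u + σ (x * u) + (y * v + σ (y * v)) = 0 ∧
      x * u + σ (x * u) ≠ 0 ∧ (σ (x * u) ≠ x * u ∨ σ (y * v) ≠ y * v) := by
  classical
  let t : F → F → F := fun u x => x * u + σ (x * u)
  have hC := card_normOne hb
  have hfib : ∀ {u : F}, u ≠ 0 → ∀ x ∈ normOne σ, ∀ y ∈ normOne σ, t u x = t u y →
      y = x ∨ y * u = σ (x * u) := by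
    intro u hu x hx y hy h
    have hx0 := ne_zero_of_mem hb hx
    have hy0 := ne_zero_of_mem hb hy
    simp only [t, map_mul, bar_eq_inv hb hx, bar_eq_inv hb hy] at h ⊢
    field_simp at h ⊢
    have e : (y - x) * (u * y * x - σ u) = 0 := by linear_combination -h
    rcases mul_eq_zero.mp e with e | e
    · exact Or.inl (sub_eq_zero.mp e)
    · exact Or.inr (by linear_combination e)
  by_cases hN : u * σ u = v * σ v
  · -- circles of the same size
    obtain ⟨x₀, hx₀, hx₀'⟩ := hfix
    obtain ⟨y₀, hy₀, hy₀'⟩ := exists_rot hb hN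
    obtain ⟨ν, hν, hord⟩ := exists_order hb
    have hν0 := ne_zero_of_mem hb hν
    have hxu : x₀ * u ≠ 0 := mul_ne_zero (ne_zero_of_mem hb hx₀) hu
    have key : σ (ν * x₀ * u) = ν⁻¹ * (x₀ * u) := by
      rw [mul_assoc, map_mul, bar_eq_inv hb hν, hx₀']
    have hν2 : ν ^ 2 ≠ 1 := hord 2 (by omega) (by norm_num)
    refine ⟨ν * x₀, Circle.mul_mem hb hν hx₀, -(ν * x₀ * y₀⁻¹), Circle.neg_mem hb (Circle.mul_mem hb (Circle.mul_mem hb hν hx₀) (Circle.inv_mem hb hy₀)),
      ?_, ?_, Or.inl ?_⟩
    · have : -(ν * x₀ * y₀⁻¹) * v = -(ν * x₀ * u) := by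
        rw [← hy₀']
        field_simp [ne_zero_of_mem hb hy₀]
      rw [this, map_neg]; ring
    · rw [key]
      intro h
      refine hord 4 hq (by norm_num) ?_
      have h' : (ν ^ 2 + 1) * (x₀ * u) = 0 := by
        field_simp at h
        linear_combination h
      linear_combination (ν ^ 2 - 1) * ((mul_eq_zero.mp h').resolve_right hxu)
    · rw [key]
      intro h
      refine hν2 ?_
      field_simp at h
      have h' : (ν ^ 2 - 1) * x₀ = 0 := by linear_combination -h
      exact sub_eq_zero.mp ((mul_eq_zero.mp h').resolve_right (ne_zero_of_mem hb hx₀))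
  have hA : (normOne σ).card + 2 ≤ 2 * ((normOne σ).image (t u)).card := by
    obtain ⟨x₀, hx₀, hx₀'⟩ := hfix
    set bad : Finset F := {x₀, -x₀} with hbad
    have hx₀0 := ne_zero_of_mem hb hx₀
    have hne : x₀ ≠ -x₀ := fun h => h2 (mul_right_cancel₀ hx₀0 (by linear_combination h : (2 : F) * x₀ = 0 * x₀))
    have hbadC : bad ⊆ normOne σ := by simp [hbad, Finset.insert_subset_iff, hx₀, Circle.neg_mem hb hx₀]
    have hbfix : ∀ y ∈ bad, σ (y * u) = y * u := by
      intro y hy
      simp only [hbad, Finset.mem_insert, Finset.mem_singleton] at hy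
      rcases hy with rfl | rfl
      · exact hx₀'
      · rw [neg_mul, map_neg, hx₀']
    have hdis : Disjoint (((normOne σ) \ bad).image (t u)) (bad.image (t u)) := by
      rw [Finset.disjoint_left]
      intro r hr hr'
      obtain ⟨x, hx, rfl⟩ := Finset.mem_image.mp hr
      obtain ⟨y, hy, he⟩ := Finset.mem_image.mp hr'
      rw [Finset.mem_sdiff] at hx
      rcases hfib hu y (hbadC hy) x hx.1 he with e | e
      · exact hx.2 (e ▸ hy)
      · rw [hbfix y hy] at e
        exact hx.2 ((mul_right_cancel₀ hu e) ▸ hy)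
    have h1 : ((normOne σ) \ bad).card ≤ 2 * (((normOne σ) \ bad).image (t u)).card := by
      refine Finset.card_le_mul_card_image _ 2 fun r hr => ?_
      obtain ⟨x, hx, rfl⟩ := Finset.mem_image.mp hr
      have hxC := (Finset.mem_sdiff.mp hx).1
      refine (Finset.card_le_card (t := {x, σ (x * u) / u}) fun y hy => ?_).trans Finset.card_le_two
      rw [Finset.mem_filter, Finset.mem_sdiff] at hy
      rcases hfib hu x hxC y hy.1.1 hy.2.symm with e | e
      · simp [e]
      · simp [← e, hu]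
    have h2' : (bad.image (t u)).card = 2 := by
      rw [Finset.card_image_of_injOn, hbad, Finset.card_pair hne]
      intro x hx y hy h
      rcases hfib hu x (hbadC hx) y (hbadC hy) h with e | e
      · exact e.symm
      · rw [hbfix x hx] at e
        exact (mul_right_cancel₀ hu e).symm
    have h3 : ((normOne σ).image (t u)).card =
        (((normOne σ) \ bad).image (t u)).card + (bad.image (t u)).card := by
      rw [← Finset.card_union_of_disjoint hdis, ← Finset.image_union, Finset.sdiff_union_of_subset hbadC]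
    have h4 := Finset.card_sdiff_of_subset hbadC
    rw [show bad.card = 2 from by rw [hbad, Finset.card_pair hne]] at h4
    omega
  have hB : (normOne σ).card ≤ 2 * ((normOne σ).image (t v)).card := by
    refine Finset.card_le_mul_card_image _ 2 fun r hr => ?_
    obtain ⟨x, hx, rfl⟩ := Finset.mem_image.mp hr
    refine (Finset.card_le_card (t := {x, σ (x * v) / v}) fun y hy => ?_).trans Finset.card_le_two
    rw [Finset.mem_filter] at hy
    rcases hfib hv x hx y hy.1 hy.2.symm with e | e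
    · simp [e]
    · simp [← e, hv]
  set A := (normOne σ).image (t u) with hAdef
  set B := ((normOne σ).image (t v)).image (fun r => -r) with hBdef
  have hBc : B.card = ((normOne σ).image (t v)).card :=
    Finset.card_image_of_injective _ fun a b h => by simpa using h
  have hU := card_fixed hb (s := A ∪ B) fun r hr => by
    rcases Finset.mem_union.mp hr with h | h
    · obtain ⟨x, -, rfl⟩ := Finset.mem_image.mp h
      simp only [t, map_add, hb.involutive, add_comm]
    · obtain ⟨_, h', rfl⟩ := Finset.mem_image.mp h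
      obtain ⟨x, -, rfl⟩ := Finset.mem_image.mp h'
      simp only [t, map_neg, map_add, hb.involutive, add_comm]
  have hI := Finset.card_union_add_card_inter A B
  obtain ⟨r, hr, hr0⟩ : ∃ r ∈ A ∩ B, r ≠ 0 := Finset.exists_mem_ne (by omega) 0
  obtain ⟨hrA, hrB⟩ := Finset.mem_inter.mp hr
  obtain ⟨x, hx, rfl⟩ := Finset.mem_image.mp hrA
  obtain ⟨_, h', hxy⟩ := Finset.mem_image.mp hrB
  obtain ⟨y, hy, rfl⟩ := Finset.mem_image.mp h'
  simp only [t] at hxy hr0
  refine ⟨x, hx, y, hy, by linear_combination -hxy, hr0, ?_⟩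
  by_contra hcon
  push Not at hcon
  rw [hcon.1, hcon.2] at hxy
  have e : x * u = -(y * v) := by
    have h0 : (2 : F) * (x * u + y * v) = 0 := by linear_combination -hxy
    linear_combination (mul_eq_zero.mp h0).resolve_left h2
  have ex := congrArg (fun z => z * σ z) e
  simp only [map_neg, map_mul] at ex
  exact hN (by linear_combination ex - u * σ u * (mem_normOne hb).mp hx + v * σ v * (mem_normOne hb).mp hy)

/-- Conjugates of small diagonal elements by elements without zeros are not monomial. -/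
theorem not_mono_conj {g : GL (Fin 4) F} (hG : ∀ p r, (g : Mat) p r ≠ 0) {δ : Fin 4 → Fˣ} {i k l : Fin 4}
    (hkl : k ≠ l) {μ : F} (hμ2 : μ ^ 2 ≠ 1)
    (hi : (δ i : F) = μ) (hk : δ k = 1) (hl : δ l = 1) :
    ¬ Mono (g * monEl 1 δ * g⁻¹) := by
  classical
  intro hm
  obtain ⟨π, c, hπ⟩ := hm.eq_monEl
  have hcol : ∀ s r, (c r : F) * (g : Mat) r s = (δ s : F) * (g : Mat) (π r) s := by
    intro s r
    have e : ((g * monEl 1 δ * g⁻¹ : GL (Fin 4) F) : Mat) *ᵥ ((g : Mat) *ᵥ ε⟦s⟧) = (δ s : F) • ((g : Mat) *ᵥ ε⟦s⟧) := by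
      rw [Units.val_mul, Units.val_mul, ← mulVec_mulVec, ← mulVec_mulVec,
        mulVec_mulVec ε⟦s⟧ ((g⁻¹ : GL (Fin 4) F) : Mat) (g : Mat), Units.inv_mul, one_mulVec, monEl_single,
        Equiv.Perm.one_apply, mulVec_smul]
    have h := congrFun e (π r)
    rw [hπ, monEl_mulVec, Equiv.symm_apply_apply, Pi.smul_apply, col_apply' hf hb, col_apply' hf hb] at h
    exact h
  have hμ1 : μ ≠ 1 := fun e => hμ2 (by rw [e, one_pow])
  have hnofix : ∀ r, π r ≠ r := fun r hr => by
    have e1 := hcol i r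
    have e2 := hcol k r
    rw [hr, hi] at e1
    rw [hr, hk, Units.val_one] at e2
    exact hμ1 (mul_right_cancel₀ (hG r i) (e1.symm.trans (by rw [mul_right_cancel₀ (hG r k) e2])))
  by_cases h2 : ∀ r, π (π r) = r
  · have e1 := hcol i 0
    have e1' := hcol i (π 0)
    have e2 := hcol k 0
    have e2' := hcol k (π 0)
    rw [h2 0, hi] at e1'
    rw [hi] at e1
    rw [h2 0, hk, Units.val_one] at e2'
    rw [hk, Units.val_one] at e2
    refine hμ2 (mul_right_cancel₀ (hG 0 i) ?_)
    have hcc : ((c (π 0) : F) * c 0 - 1) * (g : Mat) 0 k = 0 := by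
      linear_combination (c (π 0) : F) * e2 + e2'
    have hcc' : (c (π 0) : F) * c 0 = 1 := sub_eq_zero.mp ((mul_eq_zero.mp hcc).resolve_right (hG 0 k))
    linear_combination (-(c (π 0) : F)) * e1 - μ * e1' + (g : Mat) 0 i * hcc'
  · push Not at h2
    obtain ⟨s, hs⟩ := h2
    have hcover : ∀ π : Equiv.Perm (Fin 4), (∀ x, π x ≠ x) → ∀ s, π (π s) ≠ s → ∀ r,
        r = s ∨ r = π s ∨ r = π (π s) ∨ r = π (π (π s)) := by decide
    obtain ⟨a, ha⟩ : ∃ a, a = (g : Mat) s k / (g : Mat) s l := ⟨_, rfl⟩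
    have hstep : ∀ r, (g : Mat) r k - a * (g : Mat) r l = 0 →
        (g : Mat) (π r) k - a * (g : Mat) (π r) l = 0 := fun r h => by
      have e1 := hcol k r
      have e2 := hcol l r
      rw [hk, Units.val_one] at e1
      rw [hl, Units.val_one] at e2
      linear_combination (c r : F) * h - e1 + a * e2
    have h0 : (g : Mat) s k - a * (g : Mat) s l = 0 := by rw [ha, div_mul_cancel₀ _ (hG s l), sub_self]
    have hz : (1 : F) • ((g : Mat) *ᵥ ε⟦k⟧) + (-a) • ((g : Mat) *ᵥ ε⟦l⟧) = 0 := funext fun r => by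
      have hr : (g : Mat) r k - a * (g : Mat) r l = 0 := by
        rcases hcover π hnofix s hs r with rfl | rfl | rfl | rfl
        · exact h0
        · exact hstep _ h0
        · exact hstep _ (hstep _ h0)
        · exact hstep _ (hstep _ (hstep _ h0))
      rw [Pi.add_apply, Pi.smul_apply, Pi.smul_apply, col_apply' hf hb, col_apply' hf hb]
      simp only [smul_eq_mul, Pi.zero_apply]
      linear_combination hr
    exact one_ne_zero (pair_indep hf hb hkl hz).1

/-- An element without zeros gives one with a zero. -/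
theorem no_zero_four (hq : 4 ≤ q) {M : Subgroup (GL (Fin 4) F)} (hM : UMonoIn σ M) (hMU : M ≤ Cfsg.GU 4 F q)
    {g : GL (Fin 4) F} (hg : g ∈ M) (hG : ∀ p r, (g : Mat) p r ≠ 0) :
    ∃ b ∈ M, ¬ Mono b ∧ ∃ k c, (b : Mat) k c = 0 := by
  classical
  have hgU := hMU hg
  have hσ0 : ∀ s, σ ((g : Mat) 0 s) ≠ 0 := fun s => (map_ne_zero_iff σ σ.injective).mpr (hG 0 s)
  -- two coordinates whose circle meets the fixed field
  obtain ⟨a, b, hab, hfx⟩ : ∃ a b : Fin 4, a ≠ b ∧ ((2 : F) ≠ 0 →
      ∃ x ∈ normOne σ, σ (x * ((g : Mat) 0 b * σ ((g : Mat) 0 a))) = x * ((g : Mat) 0 b * σ ((g : Mat) 0 a))) := by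
    set C2 := (normOne σ).image fun x => x ^ 2 with hC2
    have hC2c : (normOne σ).card ≤ 2 * C2.card := by
      refine Finset.card_le_mul_card_image _ 2 fun r hr => ?_
      obtain ⟨x, -, rfl⟩ := Finset.mem_image.mp hr
      refine (Finset.card_le_card (t := {x, -x}) fun y hy => ?_).trans Finset.card_le_two
      rw [Finset.mem_filter] at hy
      rcases sq_eq_sq_iff_eq_or_eq_neg.mp hy.2 with e | e <;> simp [e]
    let e : Fin 4 → F := fun s => (g : Mat) 0 s / σ ((g : Mat) 0 s)
    have he : ∀ s, e s ∈ normOne σ := fun s => by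
      rw [mem_normOne hb]
      simp only [e, map_div₀, hb.involutive]
      field_simp [hσ0 s, hG 0 s]
    let T : Fin 4 → Finset F := fun s => C2.image fun z => e s * z
    have hTc : ∀ s, (T s).card = C2.card := fun s =>
      Finset.card_image_of_injective _ fun x y h => mul_left_cancel₀ (ne_zero_of_mem hb (he s)) h
    obtain ⟨a, b, hab, z, hza, hzb⟩ : ∃ a b : Fin 4, a ≠ b ∧ ∃ z, z ∈ T a ∧ z ∈ T b := by
      by_contra hcon
      push Not at hcon
      have hd : ∀ a b : Fin 4, a ≠ b → Disjoint (T a) (T b) := fun a b h =>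
        Finset.disjoint_left.mpr (hcon a b h)
      have h1 : ((Finset.univ : Finset (Fin 4)).biUnion T).card ≤ (normOne σ).card := by
        refine Finset.card_le_card fun z hz => ?_
        obtain ⟨s, -, hz⟩ := Finset.mem_biUnion.mp hz
        obtain ⟨w, hw, rfl⟩ := Finset.mem_image.mp hz
        obtain ⟨x, hx, rfl⟩ := Finset.mem_image.mp hw
        exact Circle.mul_mem hb (he s) (Circle.pow_mem hb hx 2)
      rw [Finset.card_biUnion fun a _ b _ h => hd a b h, Fin.sum_univ_four, hTc, hTc, hTc, hTc] at h1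
      have := card_normOne hb
      omega
    obtain ⟨_, hwa, rfl⟩ := Finset.mem_image.mp hza
    obtain ⟨x, hx, rfl⟩ := Finset.mem_image.mp hwa
    obtain ⟨_, hwb, hzb'⟩ := Finset.mem_image.mp hzb
    obtain ⟨y, hy, rfl⟩ := Finset.mem_image.mp hwb
    refine ⟨a, b, hab, fun _ => ⟨y * x⁻¹, Circle.mul_mem hb hy (Circle.inv_mem hb hx), ?_⟩⟩
    have hx0 := ne_zero_of_mem hb hx
    have hy0 := ne_zero_of_mem hb hy
    simp only [e] at hzb'
    field_simp [hσ0 a, hσ0 b] at hzb'
    simp only [map_mul, map_inv₀, bar_eq_inv hb hx, bar_eq_inv hb hy, hb.involutive, inv_inv]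
    field_simp
    linear_combination -hzb'
  obtain ⟨ρ, hρ0, hρ1⟩ := LinDecomp.exists_perm_two (show (0 : Fin 4) ≠ 1 by decide) hab
  set τ : Equiv.Perm (Fin 4) := Equiv.swap 0 1 * Equiv.swap 2 3 with hτ
  set π := ρ * τ * ρ⁻¹ with hπ
  set z : Fin 4 → F := fun s => (g : Mat) 0 (ρ (τ s)) * σ ((g : Mat) 0 (ρ s)) with hz
  have hz0 : ∀ s, z s ≠ 0 := fun s => mul_ne_zero (hG _ _) (hσ0 _)
  have t0 : τ 0 = 1 := by rw [hτ]; decide
  have t1 : τ 1 = 0 := by rw [hτ]; decide
  have t2 : τ 2 = 3 := by rw [hτ]; decide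
  have t3 : τ 3 = 2 := by rw [hτ]; decide
  have h10 : σ (z 1) = z 0 := by simp only [hz, t0, t1, map_mul, hb.involutive]; ring
  have h32 : σ (z 3) = z 2 := by simp only [hz, t2, t3, map_mul, hb.involutive]; ring
  -- two traces
  obtain ⟨x, hx, y, hy, hsum, hgood⟩ : ∃ x ∈ normOne σ, ∃ y ∈ normOne σ,
      x * z 0 + σ (x * z 0) + (y * z 2 + σ (y * z 2)) = 0 ∧
      ((σ (x * z 0) ≠ x * z 0 ∧ x * z 0 + σ (x * z 0) ≠ 0) ∨
        (σ (y * z 2) ≠ y * z 2 ∧ y * z 2 + σ (y * z 2) ≠ 0)) := by
    by_cases h2 : (2 : F) = 0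
    · obtain ⟨x, hx, y, hy, h1, h⟩ := exists_two_traces hf hb (hz0 0) (hz0 2) (T := 0) (map_zero σ)
      refine ⟨x, hx, y, hy, h1, ?_⟩
      have key : ∀ w : F, σ w ≠ w → w + σ w ≠ 0 := fun w hw e => hw (by linear_combination e - w * h2)
      exact h.imp (fun h => ⟨h, key _ h⟩) (fun h => ⟨h, key _ h⟩)
    · obtain ⟨x, hx, y, hy, h1, h3, h⟩ := exists_common_trace hf hb hq h2 (hz0 0) (hz0 2) (by
        simpa [hz, t0, hρ0, hρ1] using hfx h2)
      refine ⟨x, hx, y, hy, h1, h.imp (fun h => ⟨h, h3⟩) fun h => ⟨h, fun e => h3 ?_⟩⟩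
      linear_combination h1 - e
  let mk : Fˣ → Fˣ → Fin 4 → Fˣ := fun a c s => ![a, a⁻¹, c, c⁻¹] (ρ.symm s)
  have main : ∀ a c : Fˣ, (a : F) ∈ normOne σ → (c : F) ∈ normOne σ →
      (a : F) * z 0 + σ ((a : F) * z 0) + ((c : F) * z 2 + σ ((c : F) * z 2)) = 0 →
      monEl π (mk a c) ∈ M ∧ ((g * monEl π (mk a c) * g⁻¹ : GL (Fin 4) F) : Mat) 0 0 = 0 := by
    intro a c ha hc hac
    have hdn : ∀ s, (mk a c s : F) ∈ normOne σ := fun s => by
      simp only [mk]
      generalize ρ.symm s = i
      fin_cases i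
      · simpa using ha
      · simpa using Circle.inv_mem hb ha
      · simpa using hc
      · simpa using Circle.inv_mem hb hc
    refine ⟨hM _ _ hdn ?_, ?_⟩
    · rw [det_monEl, ← Units.coe_prod, ← Equiv.prod_comp ρ, Fin.prod_univ_four]
      simp only [mk, Equiv.symm_apply_apply]
      have hsgn : Equiv.Perm.sign π = 1 := by
        rw [hπ, map_mul, map_mul, map_inv, mul_right_comm, mul_inv_cancel, one_mul, hτ]; decide
      rw [hsgn]
      simp
    · rw [← col_apply' hf hb (g * monEl π (mk a c) * g⁻¹) 0 0, Units.val_mul, Units.val_mul, ← mulVec_mulVec,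
        ← mulVec_mulVec]
      show ∑ j, (g : Mat) 0 j * _ = 0
      rw [← Equiv.sum_comp π, ← Equiv.sum_comp ρ]
      have hterm : ∀ s, (g : Mat) 0 (π (ρ s)) * ((monEl π (mk a c) : GL (Fin 4) F) : Mat).mulVec
          (((g⁻¹ : GL (Fin 4) F) : Mat) *ᵥ Pi.single 0 1) (π (ρ s)) = (![a, a⁻¹, c, c⁻¹] s : Fˣ) * z s := fun s => by
        rw [monEl_mulVec, Equiv.symm_apply_apply, col_apply' hf hb, inv_entry hf hb hgU, hz,
          show π (ρ s) = ρ (τ s) by simp [hπ]]
        simp only [mk, Equiv.symm_apply_apply]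
        ring
      rw [Finset.sum_congr rfl fun s _ => hterm s, Fin.sum_univ_four]
      simp only [map_mul, bar_eq_inv hb ha, bar_eq_inv hb hc] at hac
      rw [← h10, ← h32] at hac ⊢
      simp only [hb.involutive] at hac
      simp only [Matrix.cons_val_zero, Matrix.cons_val_one, Matrix.cons_val, Units.val_inv_eq_inv_val]
      linear_combination hac
  by_contra hcon
  push Not at hcon
  have mono : ∀ m ∈ M, ((g * m * g⁻¹ : GL (Fin 4) F) : Mat) 0 0 = 0 → Mono (g * m * g⁻¹) := fun m hm h0 => by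
    by_contra hnm
    exact hcon _ (M.mul_mem (M.mul_mem hg hm) (M.inv_mem hg)) hnm 0 0 h0
  -- a second solution
  have flip : ∀ {w u : F}, w ∈ normOne σ → u ≠ 0 →
      σ (w * u) ≠ w * u → w * u + σ (w * u) ≠ 0 →
      ∃ w' ∈ normOne σ, w' * u = σ (w * u) ∧ (w / w') ^ 2 ≠ 1 := by
    intro w u hw hu h1 h2
    have hσu : σ u ≠ 0 := (map_ne_zero_iff σ σ.injective).mpr hu
    have e : σ (w * u) / u * u = σ (w * u) := div_mul_cancel₀ _ hu
    have hmem : σ (w * u) / u ∈ normOne σ := by
      have hw' := (mem_normOne hb).mp hw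
      rw [mem_normOne hb, map_div₀, map_mul, map_mul, hb.involutive, hb.involutive]
      field_simp
      linear_combination hw'
    refine ⟨_, hmem, e, fun h => ?_⟩
    have hne := ne_zero_of_mem hb hmem
    rcases sq_eq_one_iff.mp h with h | h <;> rw [div_eq_iff hne] at h
    · apply h1
      nth_rewrite 2 [h]
      rw [one_mul, e]
    · apply h2
      nth_rewrite 1 [h]
      rw [neg_one_mul, neg_mul, e, neg_add_cancel]
  have diff : ∀ a c a' c' : Fˣ, monEl π (mk a c) ∈ M → monEl π (mk a' c') ∈ M →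
      ((g * monEl π (mk a c) * g⁻¹ : GL (Fin 4) F) : Mat) 0 0 = 0 →
      ((g * monEl π (mk a' c') * g⁻¹ : GL (Fin 4) F) : Mat) 0 0 = 0 →
      Mono (g * monEl 1 (fun s => (mk a' c' s)⁻¹ * mk a c s) * g⁻¹) := by
    intro a c a' c' hm hm' hmz hmz'
    have e : (monEl π (mk a' c'))⁻¹ * monEl π (mk a c) = monEl 1 (fun s => (mk a' c' s)⁻¹ * mk a c s) := by
      rw [inv_mul_eq_iff_eq_mul]
      refine Units.ext ?_
      show monMat π _ = monMat π _ * monMat 1 _
      rw [monMat_mul, mul_one]
      congr 1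
      funext s
      simp
    rw [← e, show g * ((monEl π (mk a' c'))⁻¹ * monEl π (mk a c)) * g⁻¹ =
      (g * monEl π (mk a' c') * g⁻¹)⁻¹ * (g * monEl π (mk a c) * g⁻¹) by group]
    exact (mono _ hm' hmz').inv.mul (mono _ hm hmz)
  have hρne : ∀ {s t : Fin 4}, s ≠ t → ρ s ≠ ρ t := fun h e => h (ρ.injective e)
  rcases hgood with ⟨h1, h2⟩ | ⟨h1, h2⟩
  · obtain ⟨x', hx', hx'e, hne⟩ := flip hx (hz0 0) h1 h2
    set a := Units.mk0 x (ne_zero_of_mem hb hx)
    set a' := Units.mk0 x' (ne_zero_of_mem hb hx')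
    set c := Units.mk0 y (ne_zero_of_mem hb hy)
    obtain ⟨hm, hmz⟩ := main a c hx hy hsum
    obtain ⟨hm', hmz'⟩ := main a' c hx' hy (by
      show x' * z 0 + σ (x' * z 0) + _ = 0
      rw [hx'e, hb.involutive, add_comm (σ (x * z 0))]; exact hsum)
    refine not_mono_conj hf hb hG (i := ρ 0) (k := ρ 2) (l := ρ 3) (hρne (by decide)) (μ := x / x')
      hne ?_ ?_ ?_ (diff a c a' c hm hm' hmz hmz')
    · simp [mk, a, a', div_eq_inv_mul]
    · simp [mk]
    · simp [mk]
  · obtain ⟨y', hy', hy'e, hne⟩ := flip hy (hz0 2) h1 h2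
    set a := Units.mk0 x (ne_zero_of_mem hb hx)
    set c' := Units.mk0 y' (ne_zero_of_mem hb hy')
    set c := Units.mk0 y (ne_zero_of_mem hb hy)
    obtain ⟨hm, hmz⟩ := main a c hx hy hsum
    obtain ⟨hm', hmz'⟩ := main a c' hx hy' (by
      show _ + (y' * z 2 + σ (y' * z 2)) = 0
      rw [hy'e, hb.involutive, add_comm (σ (y * z 2))]; exact hsum)
    refine not_mono_conj hf hb hG (i := ρ 2) (k := ρ 0) (l := ρ 1) (hρne (by decide)) (μ := y / y')
      hne ?_ ?_ ?_ (diff a c a c' hm hm' hmz hmz')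
    · simp [mk, c, c', div_eq_inv_mul]
    · simp [mk]
    · simp [mk]

/-- For `q = 2` an overgroup contains all transvections. -/
theorem centres_two_four (hq2 : q = 2) {M : Subgroup (GL (Fin 4) F)} (hM : UMonoIn σ M) (hMU : M ≤ Cfsg.GU 4 F q)
    {g : GL (Fin 4) F} (hg : g ∈ M) (hg' : ¬ Mono g) : ∀ w : V, η w w = 0 → CentreIn q σ M w := by
  classical
  have hs := sesqForm_of_unitary hf
  have hgU := hMU hg
  have h2 : (2 : F) = 0 := two_zero hf hb hq2
  have hcpair : ∀ (w : V) (a b : Fin 4), a ≠ b → η w w = 0 → (∀ x, x ≠ a → x ≠ b → w x = 0) →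
      CentreIn q σ M w := by
    intro w a b hab hww hw c hc
    have hU := (uTv_mem hf hww hc).1
    have hmem : (uTv q w c) ∈ Cfsg.GU 4 F q ⊓ specialLinear (Fin 4) F := uTv_mem hf hww hc
    rcases eq_or_ne w 0 with rfl | hw0
    · exact centreIn_zero hf M c hc
    rcases eq_or_ne c 0 with rfl | hc0
    · rw [uTv, zero_smul, tv_zero_left]; exact M.one_mem
    have hsum : w a * σ (w a) + w b * σ (w b) = 0 := by
      rw [← hww, UMono.sum_norm hf hb, Finset.sum_eq_add a b hab (fun x _ hx => by rw [hw x hx.1 hx.2, zero_mul])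
        (by simp) (by simp)]
    have hwa : w a ≠ 0 := fun h => by
      rw [h, zero_mul, zero_add] at hsum
      refine hw0 (funext fun x => ?_)
      by_cases x1 : x = a
      · exact x1 ▸ h
      by_cases x2 : x = b
      · subst x2; by_contra hne; exact UMono.norm_pos hf hb hne hsum
      exact hw x x1 x2
    have hwb : w b ≠ 0 := fun h => by
      rw [h, zero_mul, add_zero] at hsum; exact UMono.norm_pos hf hb hwa hsum
    have hna : w a * σ (w a) = 1 := (mem_normOne hb).mp (mem_normOne_two hf hb hq2 hwa)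
    have hnb : w b * σ (w b) = 1 := (mem_normOne hb).mp (mem_normOne_two hf hb hq2 hwb)
    have hc1 : c = 1 := fixed_two hf hb hq2 (by rw [hc]; linear_combination -c * h2) hc0
    subst hc1
    -- the transvection is monomial
    have hmono : Mono (uTv q w (1 : F)) := ⟨Equiv.swap a b, fun p r h => by
      rw [← col_apply' hf hb, uTv_mulVec hf hww, herm_single_left hf hb, one_mul, Pi.add_apply, Pi.smul_apply,
        smul_eq_mul] at h
      by_cases hra : r = a
      · subst hra
        rw [Equiv.swap_apply_left]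
        by_contra hpb
        by_cases hpa : p = r
        · subst hpa; apply h; rw [Pi.single_eq_same]; linear_combination hna + h2
        · apply h; rw [Pi.single_eq_of_ne hpa, hw p hpa hpb]; ring
      by_cases hrb : r = b
      · subst hrb
        rw [Equiv.swap_apply_right]
        by_contra hpa
        by_cases hpb : p = r
        · subst hpb; apply h; rw [Pi.single_eq_same]; linear_combination hnb + h2
        · apply h; rw [Pi.single_eq_of_ne hpb, hw p hpa hpb]; ring
      rw [Equiv.swap_apply_of_ne_of_ne hra hrb]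
      by_contra hpr
      apply h
      rw [Pi.single_eq_of_ne hpr, hw r hra hrb, map_zero]; ring⟩
    obtain ⟨π, d, hd, e⟩ := mono_unitary hf hb hU hmono
    rw [e] at hmem ⊢
    exact hM π d hd ((su_det hf).mp hmem.2)
  -- a centre with four coordinates
  obtain ⟨z, hzz, hz4, hcz⟩ : ∃ z : V, η z z = 0 ∧ (∀ x, z x ≠ 0) ∧ CentreIn q σ M z := by
    by_contra hcon
    push Not at hcon
    have hsupp4 : ∀ w : V, η w w = 0 → CentreIn q σ M w → (supp w).card ≤ 2 := by
      intro w hww hc
      have he := supp_even hf hb hq2 hww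
      have hle : (supp w).card ≤ 4 := (Finset.card_le_univ _).trans (by simp)
      by_contra h
      have h4 : (supp w).card = 4 := by
        obtain ⟨k, hk⟩ := he; omega
      have hu : supp w = Finset.univ := Finset.eq_univ_of_card _ (by simpa using h4)
      exact hcon w hww (fun x => (mem_supp hf hb).mp (by rw [hu]; exact Finset.mem_univ x)) hc
    obtain ⟨a, ha⟩ : ∃ a, 2 ≤ (supp ((g : Mat) *ᵥ ε⟦a⟧)).card := by
      by_contra h
      push Not at h
      have h1 : ∀ d, ∃ p, supp ((g : Mat) *ᵥ ε⟦d⟧) = {p} := fun d => Finset.card_eq_one.mp (by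
        have h0 := supp_card_pos hf hb (w := (g : Mat) *ᵥ ε⟦d⟧) fun e => by
          simpa using congrFun (UC.mulVec_eq_zero hf e) d
        have := h d
        omega)
      choose π hπ using h1
      have hin : ∀ p d, (g : Mat) p d ≠ 0 → p = π d := fun p d h => by
        rw [← Finset.mem_singleton, ← hπ d, mem_supp hf hb, col_apply' hf hb]; exact h
      have hself : ∀ d, (g : Mat) (π d) d ≠ 0 := fun d => by
        rw [← col_apply' hf hb, ← mem_supp hf hb, hπ d]; exact Finset.mem_singleton_self _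
      have hinj : Function.Injective π := by
        intro a b hab
        by_contra hne
        have := col_herm hf hb hgU a b
        rw [if_neg hne, UMono.herm_apply hf hb, Finset.sum_eq_single (π a)] at this
        · rw [col_apply' hf hb, col_apply' hf hb] at this
          exact mul_ne_zero (hself a) ((map_ne_zero_iff σ σ.injective).mpr (hab ▸ hself b)) this
        · intro x _ hx
          rw [col_apply' hf hb, col_apply' hf hb]
          have : (g : Mat) x a = 0 := by_contra fun h => hx (hin x a h)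
          rw [this, zero_mul]
        · simp
      exact hg' ⟨Equiv.ofBijective π (Finite.injective_iff_bijective.mp hinj), hin⟩
    set P := (g : Mat) *ᵥ ε⟦a⟧ with hP
    have hcube : (supp P).card = 3 := by
      have hPP : η P P = 1 := by rw [hP, col_herm hf hb hgU, if_pos rfl]
      have hle : (supp P).card ≤ 4 := (Finset.card_le_univ _).trans (by simp)
      have hcast : ((supp P).card : F) = 1 := by
        rw [← hPP, UMono.sum_norm hf hb, ← Finset.sum_subset (Finset.subset_univ (supp P)) (fun x _ hx => by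
          rw [mem_supp hf hb, not_not] at hx; rw [hx, zero_mul]), Finset.sum_congr rfl (g := fun _ => (1 : F))
          (fun x hx => (mem_normOne hb).mp (mem_normOne_two hf hb hq2 ((mem_supp hf hb).mp hx))),
          Finset.sum_const, nsmul_eq_mul, mul_one]
      rcases (by omega : (supp P).card = 2 ∨ (supp P).card = 3 ∨ (supp P).card = 4) with h | h | h
      · rw [h, Nat.cast_two, h2] at hcast; exact absurd hcast zero_ne_one
      · exact h
      · rw [h, show ((4 : ℕ) : F) = 2 * 2 by norm_num, h2, zero_mul] at hcast; exact absurd hcast zero_ne_one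
    -- all columns live in the support of `P`
    have hsub : ∀ b p, p ∉ supp P → (g : Mat) p b = 0 := by
      intro b p hp
      rcases eq_or_ne b a with rfl | hba
      · rw [← col_apply' hf hb, ← hP]; exact not_not.mp fun h => hp ((mem_supp hf hb).mpr h)
      by_contra hne
      obtain ⟨ζ, hζ, hζ'⟩ := exists_order hb
      have hζ1 : ζ ≠ 1 := by simpa using hζ' 1 (by omega) one_pos
      have hPp : P p = 0 := not_not.mp fun h => hp ((mem_supp hf hb).mpr h)
      set Q := (g : Mat) *ᵥ ε⟦b⟧ with hQ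
      have hQp : Q p ≠ 0 := by rw [hQ, col_apply' hf hb]; exact hne
      -- each phase kills two coordinates of the support of `P`
      have key : ∀ ω : F, ω ≠ 0 → 2 ≤ ((supp P).filter fun x => P x + ω * Q x = 0).card := by
        intro ω hω
        have hww : η (ε⟦a⟧ + ω • ε⟦b⟧) (ε⟦a⟧ + ω • ε⟦b⟧) = 0 := by
          simp only [hs.add_left, hs.add_right, hs.smul_left, hs.smul_right, herm_single_right hf hb,
            Pi.single_eq_same, Pi.single_eq_of_ne hba, Pi.single_eq_of_ne (Ne.symm hba)]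
          linear_combination h2 + (mem_normOne hb).mp (mem_normOne_two hf hb hq2 hω)
        have hc := centreIn_map hf (hcpair _ a b (Ne.symm hba) hww fun x x1 x2 => by simp [x1, x2]) hgU hg
        have hc2 := hsupp4 _ (by rw [mem_GU_iff_forall.mp hgU, hww]) hc
        rw [mulVec_add, mulVec_smul, ← hP, ← hQ] at hc2
        have hsub : insert p ((supp P).filter fun x => ¬ P x + ω * Q x = 0) ⊆ supp (P + ω • Q) := by
          intro x hx
          rw [mem_supp hf hb]
          rcases Finset.mem_insert.mp hx with rfl | hx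
          · simp [hPp, hω, hQp]
          · simpa using (Finset.mem_filter.mp hx).2
        have h1 := Finset.card_le_card hsub
        rw [Finset.card_insert_of_notMem (fun h => hp (Finset.mem_filter.mp h).1)] at h1
        have h3 := Finset.card_filter_add_card_filter_not (s := supp P) (fun x => P x + ω * Q x = 0)
        omega
      have hd : Disjoint ((supp P).filter fun x => P x + 1 * Q x = 0) ((supp P).filter fun x => P x + ζ * Q x = 0) := by
        rw [Finset.disjoint_left]
        intro x hx hx'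
        rw [Finset.mem_filter, mem_supp hf hb] at hx hx'
        have e : (1 - ζ) * Q x = 0 := by linear_combination hx.2 - hx'.2
        rw [(mul_eq_zero.mp e).resolve_left (sub_ne_zero.mpr (Ne.symm hζ1)), mul_zero, add_zero] at hx
        exact hx.1 hx.2
      have k1 := key 1 one_ne_zero
      have k2 := key ζ (ne_zero_of_mem hb hζ)
      have h3 := Finset.card_le_card (Finset.union_subset
        (Finset.filter_subset (fun x => P x + 1 * Q x = 0) (supp P))
        (Finset.filter_subset (fun x => P x + ζ * Q x = 0) (supp P)))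
      rw [Finset.card_union_of_disjoint hd] at h3
      omega
    obtain ⟨p, -, hp⟩ := Finset.exists_mem_notMem_of_card_lt_card
      (show (supp P).card < (Finset.univ : Finset (Fin 4)).card by rw [hcube]; simp)
    have e : ((g⁻¹ : GL (Fin 4) F) : Mat) *ᵥ ε⟦p⟧ = 0 := funext fun r => by
      rw [col_apply' hf hb, inv_entry hf hb hgU, hsub r p hp, map_zero]; rfl
    simpa using congrFun (UC.mulVec_eq_zero hf e) p
  intro w hww
  have he := supp_even hf hb hq2 hww
  have hle : (supp w).card ≤ 4 := (Finset.card_le_univ _).trans (by simp)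
  rcases (by obtain ⟨k, hk⟩ := he; omega : (supp w).card = 0 ∨ (supp w).card = 2 ∨ (supp w).card = 4) with h | h | h
  · have : w = 0 := by
      by_contra hne
      have := supp_card_pos hf hb hne
      omega
    rw [this]; exact centreIn_zero hf M
  · obtain ⟨a, b, hab, hS⟩ := Finset.card_eq_two.mp h
    refine hcpair w a b hab hww fun x x1 x2 => ?_
    by_contra hne
    have := (mem_supp hf hb).mpr hne
    rw [hS] at this
    simp [x1, x2] at this
  · have hu : supp w = Finset.univ := Finset.eq_univ_of_card _ (by simpa using h)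
    have hw : ∀ x, w x ≠ 0 := fun x => (mem_supp hf hb).mp (by rw [hu]; exact Finset.mem_univ x)
    let d : Fin 4 → Fˣ := fun x => Units.mk0 (w x / z x) (div_ne_zero (hw x) (hz4 x))
    set D := ∏ x, d x with hD
    have hD3 : D ^ 3 = 1 := Units.ext (by simpa using cube_one hf hb hq2 D.ne_zero)
    have hmem : monEl 1 (fun x => D⁻¹ * d x) ∈ M := by
      refine hM _ _ (fun r => mem_normOne_two hf hb hq2 (Units.ne_zero _)) ?_
      rw [det_monEl, map_one, Units.val_one, Int.cast_one, one_mul, ← Units.coe_prod, Finset.prod_mul_distrib,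
        Finset.prod_const, Finset.card_univ, Fintype.card_fin, ← hD, inv_pow,
        show (D ^ 4)⁻¹ * D = (D ^ 3)⁻¹ by group, hD3, inv_one, Units.val_one]
    have := centreIn_smul hf (centreIn_map hf hcz (monEl_mem_GU' hf hb (φ := 1)
      (fun r => mem_normOne_two hf hb hq2 (Units.ne_zero _))) hmem) (D : F)
    convert this using 1
    funext x
    rw [Pi.smul_apply, monEl_mulVec, show (1 : Equiv.Perm (Fin 4)).symm = 1 from rfl, Equiv.Perm.one_apply,
      smul_eq_mul, Units.val_mul, Units.val_inv_eq_inv_val, ← mul_assoc, ← mul_assoc,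
      mul_inv_cancel₀ D.ne_zero, one_mul]
    simp [d, div_mul_cancel₀ _ (hz4 x)]

/-- A subgroup properly above the monomial group is `SU`, unless `q = 3`. -/
theorem su_le_of_not_mono_four (hq3 : q ≠ 3) {M : Subgroup (GL (Fin 4) F)} (hM : UMonoIn σ M)
    (hMU : M ≤ Cfsg.GU 4 F q) {g : GL (Fin 4) F} (hg : g ∈ M) (hg' : ¬ Mono g) : SU ≤ M := by
  refine su_le_of_forall_uTv hf hb.eq_pow hb.card le_rfl ?_
  have := two_le hb
  rcases Nat.lt_or_ge q 4 with hq | hq
  · exact centres_two_four hf hb (by omega) hM hMU hg hg'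
  refine centres_of_fixer hf hb le_rfl (by omega) hM hMU ?_
  by_cases h1 : ∃ k l, (g : Mat) k l = 0
  · obtain ⟨k, l, h⟩ := h1
    exact one_zero_four hf hb hq hM hMU hg hg' h
  push Not at h1
  obtain ⟨b, hb', hb'', k, c, h⟩ := no_zero_four hf hb hq hM hMU hg h1
  exact one_zero_four hf hb hq hM hMU hb' hb'' h

/-- The stabiliser of four orthogonal lines is maximal in `SU` unless `q = 3`. -/
theorem isMaximalIn_uLines (hq3 : q ≠ 3) {t : ℕ} {D : Fin t → Submodule F V}
    (hD : IsNondegenerateMDecomposition η 1 D) : IsMaximalIn SU (decompositionStabilizer D ⊓ SU) :=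
  isMaximalIn_uDecomposition_one_of hf hb le_rfl
    (fun _ hM hMU _ hg hg' => su_le_of_not_mono_four hf hb hq3 hM hMU hg hg') hD

end CfsgLib.SUFour
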