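import Cfsg.Agent.MaxSub.LagrangianPairMax
import Cfsg.Agent.MaxSub.UnitaryDecomposition

/-!
# Pairs of complementary totally isotropic planes in a four-dimensional unitary space

An overgroup of the stabiliser of the pair either has a transvection with centre in one of the two
members or permutes the two members.
-/

set_option autoImplicit false
set_option linter.unusedSectionVars false

namespace CfsgLib.SUFour

open Matrix Cfsg.Geo CfsgLib.MaxSub CfsgLib.MaxSub.UC CfsgLib.MaxSub.LPair CfsgLib.AschbacherForms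

variable {F : Type*} [Field F] [Fintype F] {n q : ℕ} {σ : F ≃+* F}

local notation "V" => (Fin n → F)
local notation "η" => Cfsg.hermForm n F q
local notation "Mat" => Matrix (Fin n) (Fin n) F
local notation "SU" => (Cfsg.GU n F q ⊓ specialLinear (Fin n) F)

variable (hf : IsUnitaryForm σ (Cfsg.hermForm n F q))
include hf

omit hf in
theorem gl_ext {g h : GL (Fin n) F} (hgh : ∀ x, (g : Mat) *ᵥ x = (h : Mat) *ᵥ x) : g = h :=
  Units.ext (Matrix.ext_iff_mulVec.2 hgh)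

theorem su_mem_of_iso {g : GL (Fin n) F} (hg : Iso η (g : Mat)) (hd : (g : Mat).det = 1) : g ∈ SU :=
  ⟨mem_GU_iff_forall.mpr hg, (su_det hf).mpr hd⟩

omit hf in
theorem eq_zero_of_mulVec {g : GL (Fin n) F} {v : V} (h : (g : Mat) *ᵥ v = 0) : v = 0 := by
  simpa [mulVec_mulVec] using congrArg (fun y => ((g⁻¹ : GL (Fin n) F) : Mat) *ᵥ y) h

omit hf in
/-- The Eichler element of an orthogonal pair of isotropic vectors. -/
def IsE (q : ℕ) (g : GL (Fin n) F) (a b : V) : Prop :=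
  ∀ x, (g : Mat) *ᵥ x = x + Cfsg.hermForm n F q x a • b - Cfsg.hermForm n F q x b • a

theorem isE_conj {g h : GL (Fin n) F} (hg : g ∈ Cfsg.GU n F q) {a b : V} (hh : IsE q h a b) :
    IsE q (g * h * g⁻¹) ((g : Mat) *ᵥ a) ((g : Mat) *ᵥ b) := fun x => by
  have e : ∀ w, η (((g⁻¹ : GL (Fin n) F) : Mat) *ᵥ x) w = η x ((g : Mat) *ᵥ w) := fun w => by
    rw [← mem_GU_iff_forall.mp hg, mulVec_mulVec, Units.mul_inv, one_mulVec]
  rw [Units.val_mul, Units.val_mul, ← mulVec_mulVec, ← mulVec_mulVec, hh, e, e, mulVec_sub, mulVec_add,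
    mulVec_smul, mulVec_smul, mulVec_mulVec, Units.mul_inv, one_mulVec]

variable {X Y : Submodule F (Fin n → F)} {M : Subgroup (GL (Fin n) F)}

theorem exists_E (hp : IsPair η X Y) (hfix : FixIn SU M X Y) {a b : V} (ha : a ∈ X) (hb : b ∈ Y)
    (hab : η a b = 0) : ∃ h ∈ M, h ∈ SU ∧ IsE q h a b := by
  obtain ⟨g, hg, hgX, hgY, hga⟩ := exists_eich_fix (isReflexive_unitary hf) (K := SU)
    (fun g hg hd => su_mem_of_iso hf hg hd) hp ha hb hab
  exact ⟨g, hfix g hg hgX hgY, hg, fun x => by rw [hga, map_one, one_mul]⟩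

omit hf in
/-- A non-trivial transvection with centre in one of the members. -/
def Small (q : ℕ) (σ : F ≃+* F) (M : Subgroup (GL (Fin n) F)) (X Y : Submodule F V) : Prop :=
  ∃ z : V, (z ∈ X ∨ z ∈ Y) ∧ z ≠ 0 ∧ ∃ c : F, σ c = -c ∧ c ≠ 0 ∧ uTv q z c ∈ M

omit hf in
theorem Small.symm (h : Small q σ M X Y) : Small q σ M Y X := by
  obtain ⟨z, hz, h⟩ := h
  exact ⟨z, hz.symm, h⟩

/-- The vectors of one member orthogonal to a non-zero vector of the other form a line. -/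
theorem mem_line (hp : IsPair η X Y) (hdim : Module.finrank F X = 2) {x y z : V} (hx : x ∈ X) (hx0 : x ≠ 0)
    (hy : y ∈ Y) (hy0 : y ≠ 0) (hz : z ∈ Y) (hxy : η x y = 0) (hxz : η x z = 0) :
    ∃ c : F, z = c • y := by
  have hs := sesqForm_of_unitary hf
  by_contra hne
  push Not at hne
  have hli : LinearIndependent F ![y, z] :=
    (LinearIndependent.pair_iff' hy0).mpr fun a h => hne a h.symm
  have hdY : Module.finrank F Y = 2 := by rw [← finrank_right (isReflexive_unitary hf) hp, hdim]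
  have hspan : Submodule.span F (Set.range ![y, z]) = Y := by
    refine Submodule.eq_of_le_of_finrank_eq (Submodule.span_le.2 ?_) ?_
    · rintro _ ⟨i, rfl⟩; fin_cases i <;> assumption
    · rw [finrank_span_eq_card hli, Fintype.card_fin, hdY]
  obtain ⟨w, hw, hxw⟩ := exists_pair_one (isReflexive_unitary hf) hp hx hx0
  rw [← hspan, Matrix.range_cons, Matrix.range_cons, Matrix.range_empty, Set.union_empty,
    Set.singleton_union, Submodule.mem_span_pair] at hw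
  obtain ⟨a, b, rfl⟩ := hw
  rw [hs.add_right, hs.smul_right, hs.smul_right, hxy, hxz, mul_zero, mul_zero, add_zero] at hxw
  exact zero_ne_one hxw

/-- Dual bases adapted to the pair and to a non-zero vector of the first member. -/
theorem exists_basis (hp : IsPair η X Y) (hdim : Module.finrank F X = 2) {x : V} (hx : x ∈ X) (hx0 : x ≠ 0) :
    ∃ x₂ ∈ X, ∃ y₁ ∈ Y, ∃ y₂ ∈ Y, η x y₁ = 1 ∧ η x y₂ = 0 ∧ η x₂ y₁ = 0 ∧ η x₂ y₂ = 1 ∧
      ∀ z, z = η z y₁ • x + η z y₂ • x₂ + (η z x • y₁ + η z x₂ • y₂) := by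
  have hs := sesqForm_of_unitary hf
  have hr := isReflexive_unitary hf
  obtain ⟨x₂, hx₂, hx₂x⟩ : ∃ x₂ ∈ X, x₂ ∉ Submodule.span F {x} := by
    by_contra h
    push Not at h
    have h1 := Submodule.finrank_mono (h : X ≤ _)
    rw [finrank_span_singleton hx0, hdim] at h1
    omega
  have hxx₂ : x ∉ Submodule.span F {x₂} := fun h => by
    obtain ⟨c, hc⟩ := Submodule.mem_span_singleton.mp h
    have hc0 : c ≠ 0 := fun h0 => hx0 (by rw [← hc, h0, zero_smul])
    exact hx₂x (Submodule.mem_span_singleton.mpr ⟨c⁻¹, by rw [← hc, inv_smul_smul₀ hc0]⟩)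
  obtain ⟨y₁, hy₁, e11, h1⟩ := exists_sep hr hp ((Submodule.span_singleton_le_iff_mem _ _).2 hx₂) hx hxx₂
  obtain ⟨y₂, hy₂, e22, h2⟩ := exists_sep hr hp ((Submodule.span_singleton_le_iff_mem _ _).2 hx) hx₂ hx₂x
  have e21 := h1 x₂ (Submodule.mem_span_singleton_self _)
  have e12 := h2 x (Submodule.mem_span_singleton_self _)
  refine ⟨x₂, hx₂, y₁, hy₁, y₂, hy₂, e11, e12, e21, e22, fun z => ?_⟩
  have hdY : Module.finrank F Y = 2 := by rw [← finrank_right hr hp, hdim]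
  have hy₁0 : y₁ ≠ 0 := fun h => by rw [h, hs.zero_right] at e11; exact zero_ne_one e11
  have hx₂0 : x₂ ≠ 0 := fun h => hx₂x (h ▸ Submodule.zero_mem _)
  obtain ⟨p, hpX, r, hrY, rfl⟩ := hp.decomp z
  have eP : p = η p y₁ • x + η p y₂ • x₂ := by
    obtain ⟨c, hc⟩ := mem_line hf hp.symm hdY hy₁ hy₁0 hx₂ hx₂0 (z := p - η p y₁ • x)
      (X.sub_mem hpX (X.smul_mem _ hx)) (unitary_orth_symm hf e21)
      (unitary_orth_symm hf (by rw [hs.sub_left, hs.smul_left, e11, mul_one, sub_self]))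
    have hcv : η p y₂ = c := by
      have := congrArg (fun w => η w y₂) hc
      simpa [hs.sub_left, hs.smul_left, e12, e22] using this
    rw [hcv, ← hc, add_sub_cancel]
  have eR : r = η r x • y₁ + η r x₂ • y₂ := by
    have hy₂0 : y₂ ≠ 0 := fun h => by rw [h, hs.zero_right] at e22; exact zero_ne_one e22
    have e11' : η y₁ x = 1 := by rw [hf.herm, e11, map_one]
    have e22' : η y₂ x₂ = 1 := by rw [hf.herm, e22, map_one]
    obtain ⟨c, hc⟩ := mem_line hf hp hdim hx hx0 hy₂ hy₂0 (z := r - η r x • y₁)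
      (Y.sub_mem hrY (Y.smul_mem _ hy₁)) e12
      (unitary_orth_symm hf (by rw [hs.sub_left, hs.smul_left, e11', mul_one, sub_self]))
    have hcv : η r x₂ = c := by
      have := congrArg (fun w => η w x₂) hc
      simpa [hs.sub_left, hs.smul_left, unitary_orth_symm hf e21, e22'] using this
    rw [hcv, ← hc, add_sub_cancel]
  simp only [hs.add_left, hp.left p hpX x hx, hp.left p hpX x₂ hx₂, hp.right r hrY y₁ hy₁,
    hp.right r hrY y₂ hy₂, add_zero, zero_add]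
  rw [← eP, ← eR]

/-- An element of the stabiliser scaling one vector of `X` by a fixed scalar. -/
theorem exists_torus (hp : IsPair η X Y) {x w : V} (hx : x ∈ X) (hw : w ∈ Y) (hxw : η x w = 1) {r : F}
    (hr : r ≠ 0) (hσr : σ r = r) :
    ∃ h ∈ SU, (∀ v ∈ X, (h : Mat) *ᵥ v ∈ X) ∧ (∀ v ∈ Y, (h : Mat) *ᵥ v ∈ Y) ∧ (h : Mat) *ᵥ x = r • x ∧
      ∀ z, η z x = 0 → η z w = 0 → (h : Mat) *ᵥ z = z := by
  classical
  have hs := sesqForm_of_unitary hf
  have hwx : η w x = 1 := by rw [hf.herm, hxw, map_one]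
  have hxx := hp.left x hx x hx
  have hww := hp.right w hw w hw
  let U : Matrix (Fin n) (Fin 2) F := Matrix.of fun k s =>
    (![(r - 1) • x, (r⁻¹ - 1) • w] : Fin 2 → V) s k
  let W : Matrix (Fin 2) (Fin n) F := Matrix.of ![leftVec η w, leftVec η x]
  set A : Mat := 1 + U * W with hA
  have happ : ∀ z, A *ᵥ z = z + ((r - 1) * η z w) • x + ((r⁻¹ - 1) * η z x) • w := by
    intro z
    rw [hA, add_mulVec, one_mulVec, ← mulVec_mulVec, add_assoc]
    congr 1
    ext k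
    have h0 : (W *ᵥ z) 0 = η z w := by rw [← hs.dot_leftVec]; rfl
    have h1 : (W *ᵥ z) 1 = η z x := by rw [← hs.dot_leftVec]; rfl
    show ∑ s, U k s * (W *ᵥ z) s = _
    rw [Fin.sum_univ_two, h0, h1]
    simp only [U, Matrix.of_apply, Matrix.cons_val_zero, Matrix.cons_val_one, Matrix.cons_val_fin_one,
      Pi.smul_apply, Pi.add_apply, smul_eq_mul]
    ring
  have hdet : A.det = 1 := by
    rw [hA, det_one_add_mul_comm, Matrix.det_fin_two]
    have hWU : ∀ s t, (W * U) s t =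
        η ((![(r - 1) • x, (r⁻¹ - 1) • w] : Fin 2 → V) t) ((![w, x] : Fin 2 → V) s) := by
      intro s t
      rw [← hs.dot_leftVec]
      fin_cases s <;> rfl
    simp only [Matrix.add_apply, hWU, Matrix.cons_val_zero, Matrix.cons_val_one, Matrix.cons_val_fin_one,
      hs.smul_left, hxw, hwx, hxx, hww, Matrix.one_apply_eq,
      Matrix.one_apply_ne (show (0 : Fin 2) ≠ 1 by decide),
      Matrix.one_apply_ne (show (1 : Fin 2) ≠ 0 by decide)]
    field_simp
    ring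
  have hiso : Iso η A := by
    intro u v
    simp only [happ, hs.add_left, hs.add_right, hs.smul_left, hs.smul_right, hxx, hww, hxw, hwx, map_mul,
      map_sub, map_one, map_inv₀, hσr]
    rw [← hf.herm w v, ← hf.herm x v]
    field_simp
    ring
  obtain ⟨g, hg⟩ := exists_gl_of_iso (isReflexive_unitary hf) hiso
  refine ⟨g, su_mem_of_iso hf (hg ▸ hiso) (hg ▸ hdet), fun v hv => ?_, fun v hv => ?_, ?_, fun z h1 h2 => ?_⟩
  · rw [hg, happ, hp.left v hv x hx, mul_zero, zero_smul, add_zero]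
    exact X.add_mem hv (X.smul_mem _ hx)
  · rw [hg, happ, hp.right v hv w hw, mul_zero, zero_smul, add_zero]
    exact Y.add_mem hv (Y.smul_mem _ hw)
  · rw [hg, happ, hxx, hxw]; module
  · rw [hg, happ, h1, h2]; simp

theorem uTv_zero (v : V) : uTv q v (0 : F) = 1 := by rw [uTv, zero_smul, tv_zero_left]

theorem small_of_pair (h4 : ∃ r : F, r ≠ 0 ∧ σ r = r ∧ r * r ≠ 1) (hp : IsPair η X Y)
    (hfix : FixIn SU M X Y) {x y : V} (hx : x ∈ X) (hy : y ∈ Y) (hx0 : x ≠ 0) (hy0 : y ≠ 0)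
    (hxy : η x y = 0) {a c : F} (ha : σ a = -a) (hc : σ c = -c) (hac : a ≠ 0 ∨ c ≠ 0)
    (hM : uTv q x a * uTv q y c ∈ M) : Small q σ M X Y := by
  have hs := sesqForm_of_unitary hf
  rcases eq_or_ne a 0 with rfl | ha0
  · exact ⟨y, Or.inr hy, hy0, c, hc, hac.resolve_left fun h => h rfl, by rwa [uTv_zero hf, one_mul] at hM⟩
  obtain ⟨r, hr0, hσr, hr1⟩ := h4
  obtain ⟨w, hw, hxw⟩ := exists_pair_one (isReflexive_unitary hf) hp hx hx0
  obtain ⟨h, hh, hX, hY, hhx, hhfix⟩ := exists_torus hf hp hx hw hxw hr0 hσr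
  have hyx := unitary_orth_symm hf hxy
  have hhy : (h : Mat) *ᵥ y = y := hhfix y hyx (hp.right y hy w hw)
  have hhM := hfix h hh hX hY
  have hxx := hp.left x hx x hx
  have hyy := hp.right y hy y hy
  have hE : h * (uTv q x a * uTv q y c) * h⁻¹ = uTv q x (a * (r * r)) * uTv q y c := by
    rw [show h * (uTv q x a * uTv q y c) * h⁻¹ = h * uTv q x a * h⁻¹ * (h * uTv q y c * h⁻¹) by group,
      conj_uTv hf hh.1, conj_uTv hf hh.1, hhy, hhx, uTv_smul hf, hσr]
  have key : uTv q x (a * (r * r - 1)) * (uTv q x a * uTv q y c) = uTv q x (a * (r * r)) * uTv q y c :=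
    gl_ext fun z => by
      simp only [Units.val_mul, ← mulVec_mulVec, uTv_mulVec hf hxx, uTv_mulVec hf hyy]
      simp only [hs.add_left, hs.smul_left, hxx, hyx, mul_zero, add_zero]
      match_scalars <;> ring
  refine ⟨x, Or.inl hx, hx0, a * (r * r - 1), ?_, mul_ne_zero ha0 (sub_ne_zero.2 hr1), ?_⟩
  · rw [map_mul, ha, map_sub, map_mul, hσr, map_one]; ring
  rw [eq_mul_inv_of_mul_eq key, ← hE]
  exact M.mul_mem (M.mul_mem (M.mul_mem hhM hM) (M.inv_mem hhM)) (M.inv_mem hM)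

/-- A member vector moved to an isotropic vector with two orthogonal components gives a transvection. -/
theorem small_of_mixed (h4 : ∃ r : F, r ≠ 0 ∧ σ r = r ∧ r * r ≠ 1) (hp : IsPair η X Y)
    (hdim : Module.finrank F X = 2) (hfix : FixIn SU M X Y) (hMK : M ≤ SU) {g : GL (Fin n) F} (hg : g ∈ M)
    {v x y : V} (hv : v ∈ X) (hv0 : v ≠ 0) (hx : x ∈ X) (hx0 : x ≠ 0) (hy : y ∈ Y) (hy0 : y ≠ 0)
    (hxy : η x y = 0) (hgv : (g : Mat) *ᵥ v = x + y) : Small q σ M X Y := by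
  have hs := sesqForm_of_unitary hf
  have hdY : Module.finrank F Y = 2 := by rw [← finrank_right (isReflexive_unitary hf) hp, hdim]
  have hgi := mem_GU_iff_forall.mp (hMK hg).1
  obtain ⟨v₂, hv₂, -, -, w, hw, -, hvw, -, hw1, -⟩ := exists_basis hf hp hdim hv hv0
  have hw0 : w ≠ 0 := fun h => by rw [h, hs.zero_right] at hw1; exact zero_ne_one hw1
  -- the conjugates of the Eichler elements at `v`
  have hA : ∀ r : F, ∃ A ∈ M, IsE q A (x + y) (r • ((g : Mat) *ᵥ w)) := by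
    intro r
    obtain ⟨H, hH, -, hHE⟩ := exists_E hf hp hfix hv (Y.smul_mem r hw)
      (by rw [hs.smul_right, hvw, mul_zero])
    have h := isE_conj hf (hMK hg).1 hHE
    rw [hgv, mulVec_smul] at h
    exact ⟨_, M.mul_mem (M.mul_mem hg hH) (M.inv_mem hg), h⟩
  obtain ⟨e, he⟩ : ∃ e, e = (g : Mat) *ᵥ w := ⟨_, rfl⟩
  rw [← he] at hA
  have hxx := hp.left x hx x hx
  have hyy := hp.right y hy y hy
  have hyx := unitary_orth_symm hf hxy
  have hee : η e e = 0 := by rw [he, hgi]; exact hp.right w hw w hw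
  have heu : η e (x + y) = 0 := by rw [← hgv, he, hgi, unitary_orth_symm hf hvw]
  obtain ⟨t, ht⟩ : ∃ t, η e x = t := ⟨_, rfl⟩
  have hey : η e y = -t := by rw [hs.add_right, ht] at heu; linear_combination heu
  rcases eq_or_ne t 0 with t0 | t0
  swap
  · obtain ⟨m, hm⟩ := trace_surjective hf.ne_refl hf.involutive (a := (1 : F)) (map_one σ)
    obtain ⟨s, hsmv⟩ := exists_moved hf.ne_refl
    obtain ⟨r, hr⟩ : ∃ r, r * t = m := ⟨m / t, div_mul_cancel₀ _ t0⟩
    obtain ⟨A, hAM, hAE⟩ := hA r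
    obtain ⟨B, hB, hBK, hBE⟩ := exists_E hf hp hfix hx (Y.smul_mem s hy) (by rw [hs.smul_right, hxy, mul_zero])
    obtain ⟨b, hb⟩ : ∃ b, b = s * (m - σ m) - m * (σ m * (σ s - s)) := ⟨_, rfl⟩
    obtain ⟨C, hC, -, hCE⟩ := exists_E hf hp hfix hx (Y.smul_mem b hy) (by rw [hs.smul_right, hxy, mul_zero])
    have hBu : (B : Mat) *ᵥ (x + y) = x + y := by
      rw [hBE]; simp [hs.add_left, hs.smul_right, hxx, hyy, hyx, hxy]
    have hBe : (B : Mat) *ᵥ (r • e) = r • e + ((m * s) • y + (m * σ s) • x) := by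
      rw [hBE, hs.smul_left, hs.smul_left, hs.smul_right, hey, ht, ← hr]; module
    have hK := isE_conj hf hBK.1 hAE
    rw [hBu, hBe] at hK
    obtain ⟨a', ha'⟩ : ∃ a', a' = m * σ s - σ m * s - m * (σ m * (σ s - s)) := ⟨_, rfl⟩
    obtain ⟨c', hc'⟩ : ∃ c', c' = m * s - σ m * σ s - m * (σ m * (σ s - s)) := ⟨_, rfl⟩
    have key : B * A * B⁻¹ = uTv q x a' * uTv q y c' * C * A := gl_ext fun z => by
      rw [hK]
      simp only [Units.val_mul, ← mulVec_mulVec]
      rw [hAE, hCE, uTv_mulVec hf hxx, uTv_mulVec hf hyy]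
      simp only [hs.add_left, hs.add_right, hs.sub_left, hs.smul_left, hs.smul_right, hxx, hyy, hxy, hyx, hey,
        ht, hb, ha', hc', map_mul, map_sub, hf.involutive]
      match_scalars <;> grind
    refine small_of_pair hf h4 hp hfix hx hy hx0 hy0 hxy (a := a') (c := c') ?_ ?_ ?_ ?_
    · rw [ha']; simp only [map_sub, map_mul, hf.involutive]; ring
    · rw [hc']; simp only [map_sub, map_mul, hf.involutive]; ring
    · by_contra h
      push Not at h
      have h2 : (σ s - s) * (m + σ m) = 0 := by linear_combination h.1 - h.2 - ha' + hc'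
      rw [hm, mul_one] at h2
      exact hsmv (sub_eq_zero.mp h2)
    · rw [eq_mul_inv_of_mul_eq (eq_mul_inv_of_mul_eq key.symm)]
      exact M.mul_mem (M.mul_mem (M.mul_mem (M.mul_mem hB hAM) (M.inv_mem hB)) (M.inv_mem hAM)) (M.inv_mem hC)
  obtain ⟨eX, heX, eY, heY, hsum⟩ := hp.decomp e
  obtain ⟨α, rfl⟩ : ∃ α, eX = α • x := by
    refine mem_line hf hp.symm hdY hy hy0 hx hx0 heX hyx (unitary_orth_symm hf ?_)
    have h := hey
    rwa [t0, neg_zero, ← hsum, hs.add_left, hp.right eY heY y hy, add_zero] at h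
  obtain ⟨β, rfl⟩ : ∃ β, eY = β • y := by
    refine mem_line hf hp hdim hx hx0 hy hy0 heY hxy (unitary_orth_symm hf ?_)
    have h := ht
    rwa [t0, ← hsum, hs.add_left, hs.smul_left, hxx, mul_zero, zero_add] at h
  obtain ⟨r, hr⟩ : ∃ r : F, σ (r * α) ≠ r * α ∨ σ (r * β) ≠ r * β := by
    obtain ⟨d, hd⟩ := exists_moved hf.ne_refl
    rcases eq_or_ne α 0 with h0 | h0
    · rcases eq_or_ne β 0 with h1 | h1
      · exfalso
        refine hw0 (eq_zero_of_mulVec (g := g) ?_)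
        rw [← he, ← hsum, h0, h1, zero_smul, zero_smul, add_zero]
      · exact ⟨d / β, Or.inr (by rwa [div_mul_cancel₀ _ h1])⟩
    · exact ⟨d / α, Or.inl (by rwa [div_mul_cancel₀ _ h0])⟩
  obtain ⟨A, hAM, hAE⟩ := hA r
  obtain ⟨C, hC, -, hCE⟩ := exists_E hf hp hfix hx (Y.smul_mem (r * β - σ (r * α)) hy)
    (by rw [hs.smul_right, hxy, mul_zero])
  have key : A = C * (uTv q x (r * α - σ (r * α)) * uTv q y (r * β - σ (r * β))) := gl_ext fun z => by
    rw [hAE, Units.val_mul, Units.val_mul, ← mulVec_mulVec, ← mulVec_mulVec, hCE, uTv_mulVec hf hxx,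
      uTv_mulVec hf hyy, ← hsum]
    simp only [hs.add_left, hs.add_right, hs.smul_left, hs.smul_right, hxx, hyy, hxy, hyx, map_sub, map_mul,
      hf.involutive]
    match_scalars <;> grind
  refine small_of_pair hf h4 hp hfix hx hy hx0 hy0 hxy (a := r * α - σ (r * α)) (c := r * β - σ (r * β))
    (by rw [map_sub, hf.involutive]; ring) (by rw [map_sub, hf.involutive]; ring) ?_ ?_
  · rcases hr with h | h
    · exact Or.inl (sub_ne_zero.mpr (Ne.symm h))
    · exact Or.inr (sub_ne_zero.mpr (Ne.symm h))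
  · rw [eq_inv_mul_of_mul_eq key.symm]
    exact M.mul_mem (M.inv_mem hC) hAM

/-- If a member vector stays in its member then so does the opposite orthogonal part. -/
theorem mapsTo_opposite (h4 : ∃ r : F, r ≠ 0 ∧ σ r = r ∧ r * r ≠ 1) (hp : IsPair η X Y)
    (hdim : Module.finrank F X = 2) (hfix : FixIn SU M X Y) (hMK : M ≤ SU) (hS : ¬ Small q σ M X Y)
    {g : GL (Fin n) F} (hg : g ∈ M) {v w : V} (hv : v ∈ X) (hv0 : v ≠ 0) (hgv : (g : Mat) *ᵥ v ∈ X)
    (hw : w ∈ Y) (hw0 : w ≠ 0) (hvw : η v w = 0) : (g : Mat) *ᵥ w ∈ Y := by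
  have hs := sesqForm_of_unitary hf
  have hdY : Module.finrank F Y = 2 := by rw [← finrank_right (isReflexive_unitary hf) hp, hdim]
  have hgi := mem_GU_iff_forall.mp (hMK hg).1
  set u := (g : Mat) *ᵥ v with hu
  set e := (g : Mat) *ᵥ w with he
  have heu : η e u = 0 := by rw [hu, he, hgi, unitary_orth_symm hf hvw]
  have hu0 : u ≠ 0 := fun h => hv0 (eq_zero_of_mulVec h)
  have huu := hp.left u hgv u hgv
  obtain ⟨H, hH, -, hHE⟩ := exists_E hf hp hfix hv hw hvw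
  have hAE := isE_conj hf (hMK hg).1 hHE
  rw [← hu, ← he] at hAE
  have hA : g * H * g⁻¹ ∈ M := M.mul_mem (M.mul_mem hg hH) (M.inv_mem hg)
  have horth : ∀ w' ∈ Y, η u w' = 0 → η e w' = 0 := by
    intro w' hw' huw'
    by_contra ht
    obtain ⟨d, hd⟩ := exists_moved hf.ne_refl
    set s := σ (d / η e w') with hsdef
    have hst : σ s * η e w' = d := by rw [hsdef, hf.involutive, div_mul_cancel₀ _ ht]
    obtain ⟨B, hB, hBK, hBE⟩ := exists_E hf hp hfix hgv (Y.smul_mem s hw') (by rw [hs.smul_right, huw', mul_zero])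
    have hBu : (B : Mat) *ᵥ u = u := by rw [hBE]; simp [huu, hs.smul_right, huw']
    have hBe : (B : Mat) *ᵥ e = e + (-d) • u := by
      rw [hBE, hs.smul_right, hst, heu]; module
    have hK := isE_conj hf hBK.1 hAE
    rw [hBu, hBe] at hK
    have key : B * (g * H * g⁻¹) * B⁻¹ = uTv q u (σ d - d) * (g * H * g⁻¹) := gl_ext fun z => by
      rw [hK, Units.val_mul, ← mulVec_mulVec, hAE, uTv_mulVec hf huu]
      simp only [hs.add_right, hs.add_left, hs.sub_left, hs.smul_left, hs.smul_right, huu, heu, map_neg,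
        mul_zero, add_zero, sub_zero]
      match_scalars <;> ring
    refine hS ⟨u, Or.inl hgv, hu0, σ d - d, by rw [map_sub, hf.involutive]; ring, sub_ne_zero.mpr hd, ?_⟩
    rw [eq_mul_inv_of_mul_eq key.symm]
    exact M.mul_mem (M.mul_mem (M.mul_mem hB hA) (M.inv_mem hB)) (M.inv_mem hA)
  obtain ⟨eX, heX, eY, heY, hsum⟩ := hp.decomp e
  obtain ⟨u₂, hu₂, y₁, hy₁, y₂, hy₂, -, huy₂, -, hu₂y₂, -⟩ := exists_basis hf hp hdim hgv hu0
  have hy₂0 : y₂ ≠ 0 := fun h => by rw [h, hs.zero_right] at hu₂y₂; exact zero_ne_one hu₂y₂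
  obtain ⟨α, rfl⟩ : ∃ α, eX = α • u := by
    refine mem_line hf hp.symm hdY hy₂ hy₂0 hgv hu0 heX (unitary_orth_symm hf huy₂) (unitary_orth_symm hf ?_)
    have h := horth y₂ hy₂ huy₂
    rwa [← hsum, hs.add_left, hp.right eY heY y₂ hy₂, add_zero] at h
  rcases eq_or_ne α 0 with rfl | hα
  · rw [← hsum, zero_smul, zero_add]; exact heY
  by_cases hY0 : eY = 0
  · have h1 : w = α • v := by
      refine sub_eq_zero.mp (eq_zero_of_mulVec (g := g) ?_)
      rw [mulVec_sub, mulVec_smul, ← hu, ← he, ← hsum, hY0, add_zero, sub_self]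
    exact absurd (hp.disjoint (h1 ▸ X.smul_mem α hv) hw) hw0
  exfalso
  have hYu : η eY u = 0 := by
    have h := heu
    rwa [← hsum, hs.add_left, hs.smul_left, huu, mul_zero, zero_add] at h
  refine hS (small_of_mixed hf h4 hp.symm hdY hfix.symm hMK hg hw hw0 heY hY0 (X.smul_mem α hgv)
    (smul_ne_zero hα hu0) (by rw [hs.smul_right, hYu, mul_zero]) ?_).symm
  rw [← he, ← hsum, add_comm]

/-- An element keeping one member vector in its member keeps both members. -/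
theorem mapsTo_both (h4 : ∃ r : F, r ≠ 0 ∧ σ r = r ∧ r * r ≠ 1) (hp : IsPair η X Y)
    (hdim : Module.finrank F X = 2) (hfix : FixIn SU M X Y) (hMK : M ≤ SU) (hS : ¬ Small q σ M X Y)
    {g : GL (Fin n) F} (hg : g ∈ M) {v : V} (hv : v ∈ X) (hv0 : v ≠ 0) (hgv : (g : Mat) *ᵥ v ∈ X) :
    (∀ x ∈ X, (g : Mat) *ᵥ x ∈ X) ∧ ∀ y ∈ Y, (g : Mat) *ᵥ y ∈ Y := by
  have hs := sesqForm_of_unitary hf
  have hr := isReflexive_unitary hf
  have hgi := mem_GU_iff_forall.mp (hMK hg).1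
  obtain ⟨v₂, hv₂, w₁, hw₁, w₂, hw₂, b11, b12, b21, b22, bdec⟩ := exists_basis hf hp hdim hv hv0
  have hw₂0 : w₂ ≠ 0 := fun h => by rw [h, hs.zero_right] at b22; exact zero_ne_one b22
  have hgw := mapsTo_opposite hf h4 hp hdim hfix hMK hS hg hv hv0 hgv hw₂ hw₂0 b12
  set x₁ := (g : Mat) *ᵥ v with hx₁
  set y₂ := (g : Mat) *ᵥ w₂ with hy₂
  have hx₁0 : x₁ ≠ 0 := fun h => hv0 (eq_zero_of_mulVec h)
  have hy₂0 : y₂ ≠ 0 := fun h => hw₂0 (eq_zero_of_mulVec h)
  obtain ⟨x₂', hx₂', y₁', hy₁', y₂', hy₂', c11, c12, c21, c22, -⟩ := exists_basis hf hp hdim hgv hx₁0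
  have hxy : η x₁ y₂ = 0 := by rw [hx₁, hy₂, hgi, b12]
  obtain ⟨s, hs₂⟩ := mem_line hf hp hdim hgv hx₁0 hy₂' (fun h => by
    rw [h, hs.zero_right] at c22; exact zero_ne_one c22) hgw c12 hxy
  have hs0 : s ≠ 0 := fun h => hy₂0 (by rw [hs₂, h, zero_smul])
  -- a basis with `g v` and `g w₂` among its members
  set x₂ := (σ s)⁻¹ • x₂' with hx₂
  set y₁ := y₁' with hy₁
  have hx₂X : x₂ ∈ X := X.smul_mem _ hx₂'
  have d11 : η x₁ y₁ = 1 := c11
  have d21 : η x₂ y₁ = 0 := by rw [hx₂, hs.smul_left, c21, mul_zero]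
  have d22 : η x₂ y₂ = 1 := by
    rw [hx₂, hs.smul_left, hs₂, hs.smul_right, c22, mul_one,
      inv_mul_cancel₀ ((map_ne_zero_iff σ σ.injective).mpr hs0)]
  -- the element of the Levi subgroup
  obtain ⟨h, hhiso, hha⟩ := exists_coord_iso hr (X := X) (Y := Y) (e := ![v, v₂]) (w := ![w₁, w₂])
    (fun z => by
      conv_lhs => rw [bdec z]
      simp [Fin.sum_univ_two])
    ![x₁, x₂] ![y₁, y₂]
    (fun i j => by fin_cases i <;> fin_cases j <;>
      simp [hp.left _ hgv _ hgv, hp.left _ hgv _ hx₂X, hp.left _ hx₂X _ hgv, hp.left _ hx₂X _ hx₂X,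
        hp.left _ hv _ hv, hp.left _ hv _ hv₂, hp.left _ hv₂ _ hv, hp.left _ hv₂ _ hv₂])
    (fun i j => by fin_cases i <;> fin_cases j <;> simp [d11, hxy, d21, d22, b11, b12, b21, b22])
    (fun i j => by fin_cases i <;> fin_cases j <;>
      simp [hp.right _ hy₁' _ hy₁', hp.right _ hy₁' _ hgw, hp.right _ hgw _ hy₁', hp.right _ hgw _ hgw,
        hp.right _ hw₁ _ hw₁, hp.right _ hw₁ _ hw₂, hp.right _ hw₂ _ hw₁, hp.right _ hw₂ _ hw₂])
    (fun i => by fin_cases i <;> simp [hgv, hx₂X])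
    (fun i => by fin_cases i <;> simp [hy₁', hgw])
  have b11' : η w₁ v = 1 := by rw [hf.herm, b11, map_one]
  have b22' : η w₂ v₂ = 1 := by rw [hf.herm, b22, map_one]
  have hh₁ : (h : Mat) *ᵥ v = x₁ := by
    rw [hha]; simp [Fin.sum_univ_two, b11, b12, hp.left _ hv _ hv, hp.left _ hv _ hv₂]
  have hh₄ : (h : Mat) *ᵥ w₂ = y₂ := by
    rw [hha]
    simp [Fin.sum_univ_two, unitary_orth_symm hf b12, b22', hp.right _ hw₂ _ hw₁, hp.right _ hw₂ _ hw₂]
  have hhX : ∀ z ∈ X, (h : Mat) *ᵥ z ∈ X := fun z hz => by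
    rw [hha]
    simp [Fin.sum_univ_two, hp.left z hz v hv, hp.left z hz v₂ hv₂,
      X.add_mem (X.smul_mem _ hgv) (X.smul_mem _ hx₂X)]
  have hhY : ∀ z ∈ Y, (h : Mat) *ᵥ z ∈ Y := fun z hz => by
    rw [hha]
    simp [Fin.sum_univ_two, hp.right z hz w₁ hw₁, hp.right z hz w₂ hw₂,
      Y.add_mem (Y.smul_mem _ hy₁') (Y.smul_mem _ hgw)]
  obtain ⟨k, hk⟩ : ∃ k, k = h⁻¹ * g := ⟨_, rfl⟩
  have hgk : g = h * k := by rw [hk, mul_inv_cancel_left]
  have hk1 : (k : Mat) *ᵥ v = v := by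
    rw [hk, Units.val_mul, ← mulVec_mulVec, ← hx₁, ← hh₁, mulVec_mulVec, Units.inv_mul, one_mulVec]
  have hk4 : (k : Mat) *ᵥ w₂ = w₂ := by
    rw [hk, Units.val_mul, ← mulVec_mulVec, ← hy₂, ← hh₄, mulVec_mulVec, Units.inv_mul, one_mulVec]
  have hhU : h ∈ Cfsg.GU n F q := mem_GU_iff_forall.mpr hhiso
  have hki := mem_GU_iff_forall.mp (show k ∈ Cfsg.GU n F q from
    hk ▸ (Cfsg.GU n F q).mul_mem ((Cfsg.GU n F q).inv_mem hhU) (hMK hg).1)
  have q1 : ∀ z, η ((k : Mat) *ᵥ z) v = η z v := fun z => by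
    conv_lhs => rw [← hk1]
    exact hki _ _
  have q4 : ∀ z, η ((k : Mat) *ᵥ z) w₂ = η z w₂ := fun z => by
    conv_lhs => rw [← hk4]
    exact hki _ _
  obtain ⟨a, ha⟩ : ∃ a, a = η ((k : Mat) *ᵥ v₂) w₁ := ⟨_, rfl⟩
  obtain ⟨p, hp'⟩ : ∃ p, p = η ((k : Mat) *ᵥ v₂) v₂ := ⟨_, rfl⟩
  obtain ⟨c, hc⟩ : ∃ c, c = η ((k : Mat) *ᵥ w₁) w₁ := ⟨_, rfl⟩
  obtain ⟨d, hd⟩ : ∃ d, d = η ((k : Mat) *ᵥ w₁) v₂ := ⟨_, rfl⟩
  have kx : (k : Mat) *ᵥ v₂ = a • v + v₂ + p • w₂ := by
    conv_lhs => rw [bdec ((k : Mat) *ᵥ v₂), q4, b22, one_smul, q1, hp.left _ hv₂ _ hv, zero_smul, zero_add,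
      ← ha, ← hp']
  have ky : (k : Mat) *ᵥ w₁ = c • v + w₁ + d • w₂ := by
    conv_lhs => rw [bdec ((k : Mat) *ᵥ w₁), q4, hp.right _ hw₁ _ hw₂, zero_smul, add_zero, q1, b11',
      one_smul, ← hc, ← hd, ← add_assoc]
  have had : a + σ d = 0 := by
    have h1 := hki v₂ w₁
    rw [kx, ky, b21] at h1
    simp only [hs.add_left, hs.add_right, hs.smul_left, hs.smul_right, hp.left _ hv _ hv, hp.left _ hv₂ _ hv,
      b11, b12, b21, b22, unitary_orth_symm hf b12, hp.right _ hw₂ _ hw₁, hp.right _ hw₂ _ hw₂,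
      mul_zero, add_zero, zero_add, mul_one] at h1
    linear_combination h1
  have hpp : σ p = -p := by
    have h1 := hki v₂ v₂
    rw [kx] at h1
    simp only [hs.add_left, hs.add_right, hs.smul_left, hs.smul_right, hp.left _ hv _ hv, hp.left _ hv₂ _ hv,
      hp.left _ hv _ hv₂, hp.left _ hv₂ _ hv₂, b12, b22, b22', unitary_orth_symm hf b12,
      hp.right _ hw₂ _ hw₂, mul_zero, add_zero, zero_add, mul_one] at h1
    linear_combination h1
  have hcc : σ c = -c := by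
    have h1 := hki w₁ w₁
    rw [ky] at h1
    simp only [hs.add_left, hs.add_right, hs.smul_left, hs.smul_right, hp.left _ hv _ hv, b11, b11', b12,
      unitary_orth_symm hf b12, hp.right _ hw₁ _ hw₁, hp.right _ hw₁ _ hw₂, hp.right _ hw₂ _ hw₁,
      hp.right _ hw₂ _ hw₂, mul_zero, add_zero, zero_add, mul_one] at h1
    linear_combination h1
  obtain ⟨C, hC, hCK, hCE⟩ := exists_E hf hp hfix hv (Y.smul_mem d hw₂) (by rw [hs.smul_right, b12, mul_zero])
  have hvv := hp.left v hv v hv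
  have hww := hp.right w₂ hw₂ w₂ hw₂
  have key : k = C * (uTv q v c * uTv q w₂ p) := gl_ext fun z => by
    conv_lhs => rw [bdec z]
    rw [mulVec_add, mulVec_add, mulVec_add, mulVec_smul, mulVec_smul, mulVec_smul, mulVec_smul, hk1, hk4, kx,
      ky, Units.val_mul, Units.val_mul, ← mulVec_mulVec, ← mulVec_mulVec, hCE, uTv_mulVec hf hvv,
      uTv_mulVec hf hww, eq_neg_of_add_eq_zero_left had]
    conv_rhs => arg 1; arg 1; rw [bdec z]
    simp only [hs.add_left, hs.smul_left, hs.smul_right, hvv, hww, b12, unitary_orth_symm hf b12, b11', b22,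
      hp.left _ hv₂ _ hv, hp.right _ hw₁ _ hw₂, mul_zero, add_zero, zero_add, mul_one]
    match_scalars <;> ring
  have hTK : uTv q v c * uTv q w₂ p ∈ SU := Subgroup.mul_mem SU (uTv_mem hf hvv hcc) (uTv_mem hf hww hpp)
  have hhK : h ∈ SU := by
    rw [show h = g * k⁻¹ by rw [hgk]; group]
    exact Subgroup.mul_mem SU (hMK hg) (Subgroup.inv_mem SU (key ▸ Subgroup.mul_mem SU hCK hTK))
  have hhM := hfix h hhK hhX hhY
  have hkM : k ∈ M := hk ▸ M.mul_mem (M.inv_mem hhM) hg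
  have hT : uTv q v c * uTv q w₂ p ∈ M := by
    rw [show uTv q v c * uTv q w₂ p = C⁻¹ * k by rw [key]; group]
    exact M.mul_mem (M.inv_mem hC) hkM
  have h0 : ¬(c ≠ 0 ∨ p ≠ 0) := fun h =>
    hS (small_of_pair hf h4 hp hfix hv hw₂ hv0 hw₂0 b12 hcc hpp h hT)
  push Not at h0
  have kC : k = C := by rw [key, h0.1, h0.2, uTv_zero hf, uTv_zero hf, mul_one, mul_one]
  refine ⟨fun x hx => ?_, fun y hy => ?_⟩
  · rw [hgk, Units.val_mul, ← mulVec_mulVec, kC, hCE, hp.left x hx _ hv, zero_smul, add_zero]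
    exact hhX _ (X.sub_mem hx (X.smul_mem _ hv))
  · rw [hgk, Units.val_mul, ← mulVec_mulVec, kC, hCE, hs.smul_right, hp.right y hy _ hw₂, mul_zero,
      zero_smul, sub_zero]
    exact hhY _ (Y.add_mem hy (Y.smul_mem _ (Y.smul_mem _ hw₂)))

/-- Some non-zero vector of `X` has orthogonal components under `g`. -/
theorem exists_null (hp : IsPair η X Y) (hdim : Module.finrank F X = 2) {g : GL (Fin n) F}
    (hg : g ∈ Cfsg.GU n F q) :
    ∃ v ∈ X, v ≠ 0 ∧ ∃ x ∈ X, ∃ y ∈ Y, η x y = 0 ∧ (g : Mat) *ᵥ v = x + y := by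
  have hs := sesqForm_of_unitary hf
  have hgi := mem_GU_iff_forall.mp hg
  let P : V →ₗ[F] V := X.projection Y hp.compl ∘ₗ (g : Mat).mulVecLin
  let Q : V →ₗ[F] V := Y.projection X hp.compl.symm ∘ₗ (g : Mat).mulVecLin
  have hPX : ∀ v, P v ∈ X := fun v => Submodule.coe_projectionOnto_apply hp.compl _ ▸ Submodule.coe_mem _
  have hQY : ∀ v, Q v ∈ Y := fun v =>
    Submodule.coe_projectionOnto_apply hp.compl.symm _ ▸ Submodule.coe_mem _
  have hPQ : ∀ v, P v + Q v = (g : Mat) *ᵥ v := fun v =>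
    Submodule.projection_add_projection_eq_self hp.compl _
  have hskew : ∀ v ∈ X, ∀ w ∈ X, η (P v) (Q w) + σ (η (P w) (Q v)) = 0 := by
    intro v hv w hw
    have h1 : η (P v + Q v) (P w + Q w) = 0 := by rw [hPQ, hPQ, hgi]; exact hp.left v hv w hw
    rw [hs.add_left, hs.add_right, hs.add_right, hp.left _ (hPX v) _ (hPX w), hp.right _ (hQY v) _ (hQY w),
      hf.herm (Q v) (P w)] at h1
    linear_combination h1
  suffices ∃ v ∈ X, v ≠ 0 ∧ η (P v) (Q v) = 0 by
    obtain ⟨v, hv, hv0, h⟩ := this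
    exact ⟨v, hv, hv0, P v, hPX v, Q v, hQY v, h, (hPQ v).symm⟩
  obtain ⟨v₁, hv₁, hv₁0⟩ := Submodule.exists_mem_ne_zero_of_ne_bot (p := X) fun h => by
    rw [h, finrank_bot] at hdim; omega
  obtain ⟨v₂, hv₂, hv₂v⟩ : ∃ v₂ ∈ X, v₂ ∉ Submodule.span F {v₁} := by
    by_contra h
    push Not at h
    have h1 := Submodule.finrank_mono (h : X ≤ _)
    rw [finrank_span_singleton hv₁0, hdim] at h1
    omega
  by_cases h11 : η (P v₁) (Q v₁) = 0
  · exact ⟨v₁, hv₁, hv₁0, h11⟩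
  obtain ⟨w, hw⟩ : ∃ w, w = v₂ - (η (P v₂) (Q v₁) / η (P v₁) (Q v₁)) • v₁ := ⟨_, rfl⟩
  have hwX : w ∈ X := hw ▸ X.sub_mem hv₂ (X.smul_mem _ hv₁)
  have hw1 : η (P w) (Q v₁) = 0 := by
    rw [hw, map_sub, map_smul, hs.sub_left, hs.smul_left, div_mul_cancel₀ _ h11, sub_self]
  have h1w : η (P v₁) (Q w) = 0 := by
    have := hskew v₁ hv₁ w hwX
    rwa [hw1, map_zero, add_zero] at this
  have hsk : ∀ v ∈ X, σ (η (P v) (Q v)) = -η (P v) (Q v) := fun v hv => by
    linear_combination hskew v hv v hv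
  obtain ⟨t, ht⟩ := norm_surjective hf.ne_refl hf.involutive (a := -η (P w) (Q w) / η (P v₁) (Q v₁))
    (by rw [map_div₀, map_neg, hsk w hwX, hsk v₁ hv₁, neg_div_neg_eq, neg_div])
  refine ⟨t • v₁ + w, X.add_mem (X.smul_mem _ hv₁) hwX, fun h => hv₂v ?_, ?_⟩
  · refine Submodule.mem_span_singleton.mpr ⟨η (P v₂) (Q v₁) / η (P v₁) (Q v₁) - t, ?_⟩
    rw [hw] at h
    linear_combination (norm := module) -h
  · simp only [map_add, map_smul, hs.add_left, hs.add_right, hs.smul_left, hs.smul_right, hw1, h1w]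
    rw [← mul_assoc, ht, div_mul_cancel₀ _ h11]
    ring

/-- Without such transvections every element permutes the members. -/
theorem permutes_of_not_small (h4 : ∃ r : F, r ≠ 0 ∧ σ r = r ∧ r * r ≠ 1) (hp : IsPair η X Y)
    (hdim : Module.finrank F X = 2) (hfix : FixIn SU M X Y) (hMK : M ≤ SU) (hS : ¬ Small q σ M X Y)
    {J : GL (Fin n) F} (hJ : J ∈ M) (hJX : ∀ x ∈ X, (J : Mat) *ᵥ x ∈ Y) (hJY : ∀ y ∈ Y, (J : Mat) *ᵥ y ∈ X)
    {g : GL (Fin n) F} (hg : g ∈ M) :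
    ((∀ x ∈ X, (g : Mat) *ᵥ x ∈ X) ∧ ∀ y ∈ Y, (g : Mat) *ᵥ y ∈ Y) ∨
      ((∀ x ∈ X, (g : Mat) *ᵥ x ∈ Y) ∧ ∀ y ∈ Y, (g : Mat) *ᵥ y ∈ X) := by
  have hr := isReflexive_unitary hf
  obtain ⟨v, hv, hv0, x, hx, y, hy, hxy, hgv⟩ := exists_null hf hp hdim (hMK hg).1
  rcases eq_or_ne y 0 with rfl | hy0
  · exact Or.inl (mapsTo_both hf h4 hp hdim hfix hMK hS hg hv hv0 (by rw [hgv, add_zero]; exact hx))
  rcases eq_or_ne x 0 with rfl | hx0
  · have hJgv : ((J * g : GL (Fin n) F) : Mat) *ᵥ v ∈ X := by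
      rw [Units.val_mul, ← mulVec_mulVec, hgv, zero_add]; exact hJY y hy
    obtain ⟨hX', hY'⟩ := mapsTo_both hf h4 hp hdim hfix hMK hS (M.mul_mem hJ hg) hv hv0 hJgv
    have hinv : ∀ z : V, ∀ W W' : Submodule F V,
        W.map (toLin' (J : Mat)) = W' → (J : Mat) *ᵥ z ∈ W' → z ∈ W := by
      intro z W W' hW hw
      rw [← hW] at hw
      obtain ⟨z', hz', he⟩ := hw
      rw [toLin'_apply] at he
      rwa [← mulVec_injective_iff_isUnit.mpr J.isUnit he]
    have mX := map_eq_of_le hr hJX (LPair.finrank_right hr hp)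
    have mY := map_eq_of_le hr hJY (LPair.finrank_right hr hp).symm
    refine Or.inr ⟨fun a ha => ?_, fun a ha => ?_⟩
    · have := hX' a ha
      rw [Units.val_mul, ← mulVec_mulVec] at this
      exact hinv _ Y X mY this
    · have := hY' a ha
      rw [Units.val_mul, ← mulVec_mulVec] at this
      exact hinv _ X Y mX this
  exact absurd (small_of_mixed hf h4 hp hdim hfix hMK hg hv hv0 hx hx0 hy hy0 hxy hgv) hS

/-- A non-trivial transvection with centre in `X` makes all isotropic vectors centres. -/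
theorem centreIn_of_small (hp : IsPair η X Y) (hdim : Module.finrank F X = 2) (hfix : FixIn SU M X Y)
    (hMK : M ≤ SU) {J : GL (Fin n) F} (hJ : J ∈ M) (hJX : ∀ x ∈ X, (J : Mat) *ᵥ x ∈ Y)
    {z : V} (hz : z ∈ X) (hz0 : z ≠ 0) {c : F} (hσc : σ c = -c) (hc : c ≠ 0) (hM : uTv q z c ∈ M) :
    ∀ v, η v v = 0 → CentreIn q σ M v := by
  have hs := sesqForm_of_unitary hf
  have hr := isReflexive_unitary hf
  have step : ∀ p ∈ X, ∀ p' ∈ X, p ≠ 0 → p' ∉ Submodule.span F {p} → uTv q p c ∈ M → uTv q p' c ∈ M := by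
    intro p hpX p' hp' hp0 hind hpM
    have hd0 : p' - p ≠ 0 := fun h => hind (by rw [sub_eq_zero.mp h]; exact Submodule.mem_span_singleton_self p)
    have hsep : p ∉ Submodule.span F {p' - p} := fun h => by
      obtain ⟨a, ha⟩ := Submodule.mem_span_singleton.mp h
      have ha0 : a ≠ 0 := fun h0 => hp0 (by rw [← ha, h0, zero_smul])
      refine hind (Submodule.mem_span_singleton.mpr ⟨1 + a⁻¹, ?_⟩)
      rw [add_smul, one_smul]
      nth_rewrite 2 [← ha]
      rw [inv_smul_smul₀ ha0, add_sub_cancel]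
    obtain ⟨y, hy, hpy, hdy⟩ := exists_sep hr hp
      ((Submodule.span_singleton_le_iff_mem _ _).mpr (X.sub_mem hp' hpX)) hpX hsep
    have hdy' : η (p' - p) y = 0 := hdy _ (Submodule.mem_span_singleton_self _)
    obtain ⟨h, hhM, hhK, hhE⟩ := exists_E hf hp hfix (X.neg_mem (X.sub_mem hp' hpX)) hy
      (by rw [hs.neg_left, hdy', neg_zero])
    have hmove : (h : Mat) *ᵥ p = p' := by
      rw [hhE, hs.neg_right, hp.left p hpX _ (X.sub_mem hp' hpX), hpy, neg_zero]; module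
    rw [← hmove, ← conj_uTv hf hhK.1]
    exact M.mul_mem (M.mul_mem hhM hpM) (M.inv_mem hhM)
  have all : ∀ p ∈ X, p ≠ 0 → uTv q p c ∈ M := by
    intro p hpX hp0
    by_cases hind : p ∈ Submodule.span F {z}
    · obtain ⟨u, hu, huz⟩ : ∃ u ∈ X, u ∉ Submodule.span F {z} := by
        by_contra h
        push Not at h
        have h1 := Submodule.finrank_mono (h : X ≤ _)
        rw [finrank_span_singleton hz0, hdim] at h1
        omega
      refine step u hu p hpX (fun h => huz (h ▸ Submodule.zero_mem _)) (fun h => huz ?_)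
        (step z hz u hu hz0 huz hM)
      obtain ⟨a, ha⟩ := Submodule.mem_span_singleton.mp h
      obtain ⟨b, hb⟩ := Submodule.mem_span_singleton.mp hind
      have ha0 : a ≠ 0 := fun h0 => hp0 (by rw [← ha, h0, zero_smul])
      exact Submodule.mem_span_singleton.mpr ⟨a⁻¹ * b, by rw [← smul_smul, hb, ← ha, inv_smul_smul₀ ha0]⟩
    · exact step z hz p hpX hz0 hind hM
  have hX : ∀ p ∈ X, CentreIn q σ M p := by
    intro p hpX d hd
    rcases eq_or_ne p 0 with rfl | hp0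
    · exact centreIn_zero hf M d hd
    obtain ⟨l, hl⟩ := norm_surjective hf.ne_refl hf.involutive (a := d / c)
      (by rw [map_div₀, hd, hσc, neg_div_neg_eq])
    rcases eq_or_ne l 0 with rfl | hl0
    · rw [zero_mul, eq_comm, div_eq_zero_iff, or_iff_left hc] at hl
      rw [hl, uTv_zero hf]; exact M.one_mem
    have := all _ (X.smul_mem l hpX) (smul_ne_zero hl0 hp0)
    rwa [uTv_smul hf, hl, mul_div_cancel₀ _ hc] at this
  have hY : ∀ y ∈ Y, CentreIn q σ M y := by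
    intro y hy
    rw [← map_eq_of_le hr hJX (LPair.finrank_right hr hp)] at hy
    obtain ⟨x, hx, rfl⟩ := hy
    rw [toLin'_apply]
    exact centreIn_map hf (hX x hx) (hMK hJ).1 hJ
  intro v hv
  obtain ⟨p, hp1, r, hr1, rfl⟩ := hp.decomp v
  have hpp := hp.left p hp1 p hp1
  have hrr := hp.right r hr1 r hr1
  rcases eq_or_ne p 0 with rfl | hp0
  · rw [zero_add]; exact hY r hr1
  by_cases hpr : η p r = 0
  · obtain ⟨δ, hδ0, hδ⟩ := exists_traceZero hf.ne_refl hf.involutive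
    obtain ⟨r', hr', h1⟩ := exists_pair_one hr hp hp1 hp0
    obtain ⟨b, hb⟩ : ∃ b, b = σ δ • r' := ⟨_, rfl⟩
    have hbY : b ∈ Y := hb ▸ Y.smul_mem _ hr'
    have e1 : η p b = δ := by rw [hb, hs.smul_right, h1, hf.involutive, mul_one]
    have hsum : η (p + b) (p + b) = 0 := by
      rw [hs.add_left, hs.add_right, hs.add_right, hpp, hp.right b hbY b hbY, hf.herm b p, e1, hδ]; ring
    have hrb : r - b ∈ Y := Y.sub_mem hr1 hbY
    have := centreIn_add hf (centreIn_add hf (hX p hp1) (hY b hbY) hpp (hp.right b hbY b hbY) (e1 ▸ hδ0) hsum)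
      (hY _ hrb) hsum (hp.right _ hrb _ hrb) (by
        rw [hs.add_left, hs.sub_right, hpr, e1, hp.right b hbY _ hrb, add_zero, zero_sub]
        exact neg_ne_zero.mpr hδ0)
      (by rwa [add_assoc, add_sub_cancel])
    rwa [add_assoc, add_sub_cancel] at this
  · exact centreIn_add hf (hX p hp1) (hY r hr1) hpp hrr hpr hv

/-- A fixed scalar whose square is not one, for `q ≥ 4`. -/
theorem exists_fixed_square (hσ : ∀ a, σ a = a ^ q) (hF : Fintype.card F = q ^ 2) (hq : 4 ≤ q) :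
    ∃ r : F, r ≠ 0 ∧ σ r = r ∧ r * r ≠ 1 := by
  classical
  obtain ⟨g, hg⟩ := IsCyclic.exists_ofOrder_eq_natCard (α := Fˣ)
  rw [Nat.card_eq_fintype_card, Fintype.card_units, hF] at hg
  refine ⟨(g : F) * σ (g : F), mul_ne_zero g.ne_zero ((map_ne_zero_iff σ σ.injective).mpr g.ne_zero),
    by rw [map_mul, hf.involutive, mul_comm], fun h => ?_⟩
  rw [hσ, ← pow_succ', ← pow_add] at h
  have h2 := Nat.le_of_dvd (by omega)
    (orderOf_dvd_of_pow_eq_one (Units.ext (by simpa using h) : g ^ (q + 1 + (q + 1)) = 1))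
  rw [hg] at h2
  have h4 : 4 * q ≤ q ^ 2 := by rw [pow_two]; exact Nat.mul_le_mul_right q hq
  omega

/-- The stabiliser of a pair of complementary totally isotropic planes is maximal in `SU` for `q ≥ 4`. -/
theorem isMaximalIn_uPair (hσ : ∀ a, σ a = a ^ q) (hF : Fintype.card F = q ^ 2) (hn : 4 ≤ n) (hq : 4 ≤ q)
    {D : Fin 2 → Submodule F V} (hD : IsMDecomposition 2 D) (hts : ∀ i, IsTotallySingularFor η (D i)) :
    IsMaximalIn SU (decompositionStabilizer D ⊓ SU) := by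
  have hs := sesqForm_of_unitary hf
  have hr := isReflexive_unitary hf
  have hp := MaxSub.LPair.isPair_of hD hts
  have hdim : ∀ i, Module.finrank F (D i) = 2 := hD.finrank_eq
  obtain ⟨δ, hδ0, hδ⟩ := exists_traceZero hf.ne_refl hf.involutive
  obtain ⟨J, hJK, hJ0, hJ1⟩ : ∃ J ∈ SU, (∀ x ∈ D 0, (J : Mat) *ᵥ x ∈ D 1) ∧
      ∀ y ∈ D 1, (J : Mat) *ᵥ y ∈ D 0 := by
    obtain ⟨g, hg, h0, h1⟩ := exists_exchange hr hp ⟨⟨0, by omega⟩⟩
    have hN := det_norm hr hg
    set d := (g : Mat).det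
    obtain ⟨l, hl0, hl⟩ : ∃ l, l ≠ 0 ∧ l * (σ l)⁻¹ * d = 1 := by
      by_cases hd1 : d = -1
      · refine ⟨δ, hδ0, ?_⟩
        rw [hd1, hδ]
        field_simp
      · refine ⟨1 + σ d, fun h => hd1 ?_, ?_⟩
        · have h' := congrArg σ h
          rw [map_add, map_one, hf.involutive, map_zero] at h'
          linear_combination h'
        · have hne1 : σ (1 + σ d) ≠ 0 := by
            rw [map_add, map_one, hf.involutive]
            exact fun h => hd1 (by linear_combination h)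
          rw [mul_right_comm, mul_inv_eq_one₀ hne1, map_add, map_one, hf.involutive]
          linear_combination hN
    obtain ⟨t, ht, htd, ht0, ht1⟩ := exists_dilation hr hp (by rw [hdim]; omega) hl0
    refine ⟨t * g, su_mem_of_iso hf (fun u v => ?_) (by rw [Units.val_mul, det_mul, htd]; exact hl),
      fun x hx => ?_, fun y hy => ?_⟩
    · rw [Units.val_mul, ← mulVec_mulVec, ← mulVec_mulVec, ht, hg]
    · rw [Units.val_mul, ← mulVec_mulVec]; exact ht1 _ (h0 x hx)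
    · rw [Units.val_mul, ← mulVec_mulVec]; exact ht0 _ (h1 y hy)
  have hstab : ∀ g : GL (Fin n) F,
      ((∀ x ∈ D 0, (g : Mat) *ᵥ x ∈ D 0) ∧ ∀ y ∈ D 1, (g : Mat) *ᵥ y ∈ D 1) ∨
      ((∀ x ∈ D 0, (g : Mat) *ᵥ x ∈ D 1) ∧ ∀ y ∈ D 1, (g : Mat) *ᵥ y ∈ D 0) →
      g ∈ decompositionStabilizer D := by
    rintro g (⟨h0, h1⟩ | ⟨h0, h1⟩)
    · exact ⟨1, fun i => by
        fin_cases i <;> [exact map_eq_of_le hr h0 rfl; exact map_eq_of_le hr h1 rfl]⟩
    · exact ⟨Equiv.swap 0 1, fun i => by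
        fin_cases i <;> [exact map_eq_of_le hr h0 (by rw [hdim, hdim]);
          exact map_eq_of_le hr h1 (by rw [hdim, hdim])]⟩
  obtain ⟨a, ha, ha0⟩ := Submodule.exists_mem_ne_zero_of_ne_bot (p := D 0) fun h => by
    have := hdim 0; rw [h, finrank_bot] at this; omega
  obtain ⟨b, hb, hab⟩ := exists_pair_one hr hp ha ha0
  have haa := hp.left a ha a ha
  refine isMaximalIn_of inf_le_right ⟨uTv q a δ, uTv_mem hf haa hδ, fun h => ?_⟩ fun M hHM hMK g hg hg' => ?_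
  · obtain ⟨π, hπ⟩ := h.1
    have hmem : (uTv q a δ : Mat) *ᵥ b ∈ D (π 1) := hπ 1 ▸ ⟨b, hb, toLin'_apply _ _⟩
    rw [uTv_mulVec hf haa, hf.herm b a, hab, map_one σ, mul_one] at hmem
    obtain h0 | h1 : π 1 = 0 ∨ π 1 = 1 := by
      generalize π 1 = i; fin_cases i <;> simp
    · rw [h0, Submodule.add_mem_iff_left _ ((D 0).smul_mem _ ha)] at hmem
      rw [hp.disjoint hmem hb, hs.zero_right] at hab
      exact zero_ne_one hab
    · rw [h1, Submodule.add_mem_iff_right _ hb, Submodule.smul_mem_iff _ hδ0] at hmem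
      exact ha0 (hp.disjoint ha hmem)
  have hfix : FixIn SU M (D 0) (D 1) := fun h hh h0 h1 => hHM ⟨hstab h (Or.inl ⟨h0, h1⟩), hh⟩
  have hJM : J ∈ M := hHM ⟨hstab J (Or.inr ⟨hJ0, hJ1⟩), hJK⟩
  refine su_le_of_forall_uTv hf hσ hF hn fun v hv => ?_
  by_cases hS : Small q σ M (D 0) (D 1)
  · obtain ⟨z, hz | hz, hz0, d, hσd, hd, hM⟩ := hS
    · exact centreIn_of_small hf hp (hdim 0) hfix hMK hJM hJ0 hz hz0 hσd hd hM v hv
    · exact centreIn_of_small hf hp.symm (hdim 1) hfix.symm hMK hJM hJ1 hz hz0 hσd hd hM v hv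
  · exact absurd ⟨hstab g (permutes_of_not_small hf (exists_fixed_square hf hσ hF hq) hp (hdim 0) hfix hMK hS
      hJM hJ0 hJ1 hg), hMK hg⟩ hg'

end CfsgLib.SUFour
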