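import Cfsg.Agent.SUFour.SubfieldBase

/-!
# Subfield groups of odd prime index are maximal in `SU₄`

An irrational transvection at a rational centre gives all of them, the coefficients forming a ring.
Otherwise every image of a rational isotropic vector is orthogonal to one: in odd characteristic by
Dickson's lemma, in characteristic two by the central involution of a dihedral group.
-/

set_option autoImplicit false
set_option linter.unusedSectionVars false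

namespace CfsgLib.SUFour.Subfield

open Matrix Cfsg.Geo CfsgLib.MaxSub CfsgLib.FormSubfield

variable {ι : Type} [Fintype ι] [DecidableEq ι] {F : Type*} [Field F] [Fintype F]
variable {F₀ : Subfield F} {σ : F ≃+* F} {c₀ : F} {f : (ι → F) → (ι → F) → F}
variable {M : Subgroup (GL ι F)}

variable (hs : Setting F₀ σ (1 : F) c₀ f) (hc₀ : c₀ ∈ F₀) (hn : Fintype.card ι = 4)
variable (hM : Over F₀ f M) {τ₀ : F} (hτ : τ₀ ∈ F₀) (hτσ : σ τ₀ ≠ τ₀)

include hs

omit hc₀ in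
theorem sigma_c₀ : σ c₀ = -c₀ := by linear_combination hs.c₀_trace

include hτ hτσ in
theorem rat_of_traces {z : F} (h : ∀ t ∈ F₀, t * z + σ (t * z) ∈ F₀) : z ∈ F₀ := by
  have h1 := h 1 F₀.one_mem
  rw [one_mul] at h1
  have h3 := h τ₀ hτ
  rw [map_mul] at h3
  have h4 := F₀.sub_mem h3 (F₀.mul_mem (hs.sigma_mem _ hτ) h1)
  have h5 := F₀.div_mem h4 (F₀.sub_mem hτ (hs.sigma_mem _ hτ))
  convert h5 using 1
  rw [eq_div_iff (sub_ne_zero.2 (Ne.symm hτσ))]
  ring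

include hτ hτσ hc₀ in
theorem rat_of_skew_traces {s : F} (h : ∀ t ∈ F₀, s * σ t - t * σ s ∈ F₀) : s ∈ F₀ := by
  refine rat_of_traces hs hτ hτσ fun t ht => ?_
  have h1 := F₀.mul_mem (F₀.inv_mem hc₀)
    (h (σ (c₀ * t)) (hs.sigma_mem _ (F₀.mul_mem hc₀ ht)))
  convert h1 using 1
  have hc := hs.c₀_ne
  rw [hs.sigma_sigma, map_mul, map_mul, sigma_c₀ hs]
  field_simp
  ring

include hc₀ hn hM

theorem long_all {e : ι → F} (he : e ∈ ratVecs ι F₀) (he0 : e ≠ 0) (hee : f e e = 0) {c : F}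
    (hT : T f e c ∈ M) {x : ι → F} (hx : x ∈ ratVecs ι F₀) (hxx : f x x = 0) : T f x c ∈ M := by
  rcases eq_or_ne x 0 with rfl | hx0
  · rw [T, smul_zero, tv_zero_left]; exact M.one_mem
  obtain ⟨g, hg, -, rfl⟩ := exists_map hs hc₀ hM hn he he0 hee hx hx0 hxx
  exact conj_mem hs hc₀ hg hM hee hT

omit hc₀ hn hM in
/-- The scaled coefficients of transvections at all rational centres. -/
def longs (F₀ : Subfield F) (σ : F ≃+* F) (c₀ : F) (f : (ι → F) → (ι → F) → F)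
    (M : Subgroup (GL ι F)) : Set F :=
  {b | σ b = b ∧ ∀ x ∈ ratVecs ι F₀, f x x = 0 → T f x (c₀ * b) ∈ M}

theorem long_skew {b : F} (hb : σ b = b) : c₀ * b + 1 * σ (c₀ * b) = 0 := by
  rw [map_mul, hb, sigma_c₀ hs]; ring

theorem long_rat {b : F} (hb : b ∈ F₀) (hbσ : σ b = b) : b ∈ longs F₀ σ c₀ f M :=
  ⟨hbσ, fun _ hx hxx =>
    T_mem hs hc₀ hM hx hxx (F₀.mul_mem hc₀ hb) (long_skew hs hc₀ hn hM hbσ)⟩

theorem long_add {b d : F} (hb : b ∈ longs F₀ σ c₀ f M) (hd : d ∈ longs F₀ σ c₀ f M) :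
    b + d ∈ longs F₀ σ c₀ f M :=
  ⟨by rw [map_add, hb.1, hd.1], fun x hx hxx => by
    rw [mul_add, ← hs.T_add hxx]; exact M.mul_mem (hb.2 x hx hxx) (hd.2 x hx hxx)⟩

theorem long_neg {b : F} (hb : b ∈ longs F₀ σ c₀ f M) : -b ∈ longs F₀ σ c₀ f M :=
  ⟨by rw [map_neg, hb.1], fun x hx hxx => by
    have h1 : (T f x (c₀ * b))⁻¹ = T f x (c₀ * -b) := inv_eq_of_mul_eq_one_right (by
      rw [hs.T_add hxx, mul_neg, add_neg_cancel, T, zero_smul, tv_zero_left])
    rw [← h1]; exact M.inv_mem (hb.2 x hx hxx)⟩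

theorem short_of_long {b : F} (hb : b ∈ longs F₀ σ c₀ f M) :
    c₀ * b ∈ coeffs F₀ σ 1 f M := fun e e' a a' h => by
  have h1 := hs.T_add_vec h.aa h.ee h.ea (long_skew hs hc₀ hn hM hb.1)
  have h3 := hb.2 (e + a) (Submodule.add_mem _ h.re h.ra) (by
    simp only [hs.sesq.add_left, hs.sesq.add_right, h.ee, h.aa, h.ea, hs.orth_symm h.ea, add_zero])
  rw [h1] at h3
  exact (Subgroup.mul_mem_cancel_left M
    (M.mul_mem (hb.2 e h.re h.ee) (hb.2 a h.ra h.aa))).1 h3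

/-- A short and a long coefficient give a long one. -/
theorem long_trace {b s : F} (hb : b ∈ longs F₀ σ c₀ f M) (hsA : s ∈ coeffs F₀ σ 1 f M) :
    b * (s + σ s) ∈ longs F₀ σ c₀ f M := by
  refine ⟨by rw [map_mul, map_add, hb.1, hs.sigma_sigma, add_comm s], fun x hx hxx => ?_⟩
  rcases eq_or_ne x 0 with rfl | hx0
  · rw [T, smul_zero, tv_zero_left]; exact M.one_mem
  obtain ⟨e', a, a', h⟩ := exists_frame hs hc₀ hn hx hx0 hxx
  set c := c₀ * b with hc
  have hcs : σ c = -c := by linear_combination long_skew hs hc₀ hn hM hb.1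
  have hT := hb.2 a h.ra h.aa
  have hX : ∀ u ∈ coeffs F₀ σ 1 f M, S σ 1 f x a (u * σ c) * T f x (c * (u * σ u)) ∈ M := by
    intro u hu
    have h1 := hu _ _ _ _ (h.flip hs hc₀)
    have h3 := M.mul_mem (M.inv_mem h1) (M.mul_mem (M.mul_mem hT h1) (M.inv_mem hT))
    rw [hs.conj_S (hM.iso _ hT) h.a'a' h.ee h.ea'] at h3
    convert h3 using 1
    rw [eq_inv_mul_iff_mul_eq]
    refine ext_mulVec fun w => ?_
    have e1 : (T f a c : Matrix ι ι F) *ᵥ x = x := by rw [hs.T_mulVec h.aa, h.ea]; simp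
    have e2 : (T f a c : Matrix ι ι F) *ᵥ a' = a' + c • a := by
      rw [hs.T_mulVec h.aa, h.a'a, mul_one]
    have hiso : f (a' + c • a) (a' + c • a) = 0 := by
      simp only [hs.sesq.add_left, hs.sesq.add_right, hs.sesq.smul_left, hs.sesq.smul_right, h.aa,
        h.a'a', h.a'a, h.a_a' hs hc₀, hcs]
      ring
    rw [e1, e2, hs.S_mulVec hiso h.ee (by rw [hs.sesq.add_right, hs.sesq.smul_right, h.ea', h.ea,
      mul_zero, add_zero]), Units.val_mul, Units.val_mul, ← mulVec_mulVec, ← mulVec_mulVec,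
      hs.S_mulVec h.a'a' h.ee h.ea', hs.S_mulVec h.aa h.ee h.ea, hs.T_mulVec h.ee]
    simp only [hs.sesq.add_left, hs.sesq.sub_left, hs.sesq.add_right, hs.sesq.smul_left,
      hs.sesq.smul_right, h.ee, h.ea, h.ea', hs.orth_symm h.ea, h.a_a' hs hc₀, map_mul,
      hs.sigma_sigma]
    module
  have h1 : (1 : F) ∈ coeffs F₀ σ 1 f M := rat_coeffs hs hc₀ hM F₀.one_mem
  have key : S σ 1 f x a ((s + 1) * σ c) * T f x (c * ((s + 1) * σ (s + 1))) =
      (S σ 1 f x a (s * σ c) * T f x (c * (s * σ s))) *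
        (S σ 1 f x a (1 * σ c) * T f x (c * (1 * σ 1))) * T f x (c₀ * (b * (s + σ s))) := by
    refine ext_mulVec fun w => ?_
    simp only [Units.val_mul, ← mulVec_mulVec, hs.S_mulVec h.aa h.ee h.ea, hs.T_mulVec h.ee,
      hs.sesq.add_left, hs.sesq.sub_left, hs.sesq.smul_left, h.ee, h.ea, hs.orth_symm h.ea, h.aa,
      map_add, map_one, map_mul, hs.sigma_sigma, hc]
    module
  have h3 := hX _ (add_coeffs hs hc₀ hsA h1)
  rw [key] at h3
  exact (Subgroup.mul_mem_cancel_left M (M.mul_mem (hX s hsA) (hX 1 h1))).1 h3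

include hτ hτσ

theorem long_mul {b d : F} (hb : b ∈ longs F₀ σ c₀ f M) (hd : d ∈ longs F₀ σ c₀ f M) :
    b * d ∈ longs F₀ σ c₀ f M := by
  set t := τ₀ / (c₀ * (τ₀ - σ τ₀)) with ht
  have htF : t ∈ F₀ :=
    F₀.div_mem hτ (F₀.mul_mem hc₀ (F₀.sub_mem hτ (hs.sigma_mem _ hτ)))
  have h1 := long_trace hs hc₀ hn hM hb
    (mul_rat_coeffs hs hc₀ hM htF (short_of_long hs hc₀ hn hM hd))
  convert h1 using 2
  have h2 : τ₀ - σ τ₀ ≠ 0 := sub_ne_zero.2 (Ne.symm hτσ)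
  have h3 : σ τ₀ - τ₀ ≠ 0 := sub_ne_zero.2 hτσ
  have hc := hs.c₀_ne
  rw [map_mul, map_mul, ht, map_div₀, map_mul, map_sub, hs.sigma_sigma, hd.1, sigma_c₀ hs]
  field_simp
  ring

theorem longs_univ {r : ℕ} (hr : r.Prime) (hcard : Fintype.card F = Nat.card F₀ ^ r) {b : F}
    (hb : b ∈ longs F₀ σ c₀ f M) (hb' : b ∉ F₀) (z : F) :
    (∀ x ∈ ratVecs ι F₀, f x x = 0 → ∀ c, c + 1 * σ c = 0 → T f x c ∈ M) ∧
      z ∈ coeffs F₀ σ 1 f M := by
  have hd : τ₀ - σ τ₀ ≠ 0 := sub_ne_zero.2 (Ne.symm hτσ)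
  have hp : τ₀ + σ τ₀ ∈ longs F₀ σ c₀ f M := long_rat hs hc₀ hn hM
    (F₀.add_mem hτ (hs.sigma_mem _ hτ)) (by rw [map_add, hs.sigma_sigma, add_comm])
  have hq : -(τ₀ * σ τ₀) ∈ longs F₀ σ c₀ f M := long_rat hs hc₀ hn hM
    (F₀.neg_mem (F₀.mul_mem hτ (hs.sigma_mem _ hτ)))
    (by rw [map_neg, map_mul, hs.sigma_sigma, mul_comm])
  have h0 : (0 : F) ∈ longs F₀ σ c₀ f M := long_rat hs hc₀ hn hM F₀.zero_mem (map_zero σ)
  let R : Subring F :=
    { carrier := {x | ∃ u ∈ longs F₀ σ c₀ f M, ∃ v ∈ longs F₀ σ c₀ f M, x = u + τ₀ * v}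
      mul_mem' := by
        rintro _ _ ⟨u, hu, v, hv, rfl⟩ ⟨u', hu', v', hv', rfl⟩
        have hm : ∀ {x y : F}, x ∈ longs F₀ σ c₀ f M → y ∈ longs F₀ σ c₀ f M →
            x * y ∈ longs F₀ σ c₀ f M := fun hx hy => long_mul hs hc₀ hn hM hτ hτσ hx hy
        refine ⟨u * u' + -(τ₀ * σ τ₀) * (v * v'), long_add hs hc₀ hn hM (hm hu hu') (hm hq (hm hv hv')),
          u * v' + v * u' + (τ₀ + σ τ₀) * (v * v'),
          long_add hs hc₀ hn hM (long_add hs hc₀ hn hM (hm hu hv') (hm hv hu')) (hm hp (hm hv hv')),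
          by ring⟩
      one_mem' := ⟨1, long_rat hs hc₀ hn hM F₀.one_mem (map_one σ), 0, h0, by ring⟩
      add_mem' := by
        rintro _ _ ⟨u, hu, v, hv, rfl⟩ ⟨u', hu', v', hv', rfl⟩
        exact ⟨_, long_add hs hc₀ hn hM hu hu', _, long_add hs hc₀ hn hM hv hv', by ring⟩
      zero_mem' := ⟨0, h0, 0, h0, by ring⟩
      neg_mem' := by
        rintro _ ⟨u, hu, v, hv, rfl⟩
        exact ⟨_, long_neg hs hc₀ hn hM hu, _, long_neg hs hc₀ hn hM hv, by ring⟩ }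
  have hR : ∀ x : F, ∃ u ∈ longs F₀ σ c₀ f M, ∃ v ∈ longs F₀ σ c₀ f M, x = u + τ₀ * v := by
    intro x
    refine subring_eq_top_of_prime hr hcard R (fun y hy => ?_) (c := b)
      (show b ∈ R from ⟨b, hb, 0, h0, by ring⟩) hb' x
    have hd' : σ τ₀ - τ₀ ≠ 0 := sub_ne_zero.2 hτσ
    have hv : σ ((y - σ y) / (τ₀ - σ τ₀)) = (y - σ y) / (τ₀ - σ τ₀) := by
      rw [map_div₀, map_sub, map_sub, hs.sigma_sigma, hs.sigma_sigma, div_eq_div_iff hd' hd]
      ring
    have hvF : (y - σ y) / (τ₀ - σ τ₀) ∈ F₀ := F₀.div_mem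
      (F₀.sub_mem hy (hs.sigma_mem _ hy)) (F₀.sub_mem hτ (hs.sigma_mem _ hτ))
    refine ⟨y - τ₀ * ((y - σ y) / (τ₀ - σ τ₀)), long_rat hs hc₀ hn hM
      (F₀.sub_mem hy (F₀.mul_mem hτ hvF)) ?_, _, long_rat hs hc₀ hn hM hvF hv, by ring⟩
    rw [map_sub, map_mul, hv]
    field_simp
    ring
  have hall : ∀ x, σ x = x → x ∈ longs F₀ σ c₀ f M := by
    intro x hx
    obtain ⟨u, hu, v, hv, rfl⟩ := hR x
    rw [map_add, map_mul, hu.1, hv.1] at hx
    have : v = 0 := (mul_eq_zero.1 (show (τ₀ - σ τ₀) * v = 0 by linear_combination -hx)).resolve_left hd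
    rw [this, mul_zero, add_zero]
    exact hu
  refine ⟨fun x hx hxx c hc => ?_, ?_⟩
  · have := (hall (c / c₀) (by
      rw [map_div₀, sigma_c₀ hs, show σ c = -c by linear_combination hc, neg_div_neg_eq])).2 x hx hxx
    rwa [mul_div_cancel₀ _ hs.c₀_ne] at this
  · obtain ⟨u, hu, v, hv, huv⟩ := hR (z / c₀)
    have e1 : z = c₀ * u + c₀ * v * τ₀ := by
      rw [← mul_div_cancel₀ z hs.c₀_ne, huv]; ring
    rw [e1]
    exact add_coeffs hs hc₀ (short_of_long hs hc₀ hn hM hu)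
      (mul_rat_coeffs hs hc₀ hM hτ (short_of_long hs hc₀ hn hM hv))

variable (hC : ∀ e ∈ ratVecs ι F₀, e ≠ 0 → f e e = 0 → ∀ c, c + 1 * σ c = 0 → T f e c ∈ M → c ∈ F₀)

include hC

theorem short_rat {e e' a a' : ι → F} (h : Frame F₀ f e e' a a') {s d : F}
    (hm : S σ 1 f e a s * T f e d ∈ M) : s ∈ F₀ := by
  refine rat_of_skew_traces hs hc₀ hτ hτσ fun t ht => ?_
  refine hC e h.re (h.e_ne hs hc₀) h.ee _ (by
    simp only [map_sub, map_mul, hs.sigma_sigma]; ring) ?_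
  have hh := S_mem hs hc₀ hM h.re h.ra' h.ee h.a'a' h.ea' ht
  have h1 := M.mul_mem (M.mul_mem hh hm) (M.inv_mem hh)
  have key : S σ 1 f e a' t * (S σ 1 f e a s * T f e d) * (S σ 1 f e a' t)⁻¹ =
      (S σ 1 f e a s * T f e d) * T f e (s * σ t - t * σ s) := by
    have hI := hM.iso _ hh
    rw [show S σ 1 f e a' t * (S σ 1 f e a s * T f e d) * (S σ 1 f e a' t)⁻¹ =
      (S σ 1 f e a' t * S σ 1 f e a s * (S σ 1 f e a' t)⁻¹) *
        (S σ 1 f e a' t * T f e d * (S σ 1 f e a' t)⁻¹) by group,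
      hs.conj_S hI h.aa h.ee h.ea, hs.conj_T hI h.ee]
    have e1 : (S σ 1 f e a' t : Matrix ι ι F) *ᵥ e = e := by
      rw [hs.S_mulVec h.a'a' h.ee h.ea', h.ea', h.ee]; simp
    have e2 : (S σ 1 f e a' t : Matrix ι ι F) *ᵥ a = a + t • e := by
      rw [hs.S_mulVec h.a'a' h.ee h.ea', h.a_a' hs hc₀, hs.orth_symm h.ea]; simp
    rw [e1, e2, S_shift hs hc₀ h.ee h.aa h.ea]
    refine ext_mulVec fun w => ?_
    simp only [Units.val_mul, ← mulVec_mulVec, hs.T_mulVec h.ee, hs.sesq.add_left, hs.sesq.smul_left,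
      h.ee]
    congr 1
    module
  rw [key] at h1
  exact (Subgroup.mul_mem_cancel_left M hm).1 h1

theorem pair_rat {y : ι → F} (hyy : f y y = 0) (hy : T f y c₀ ∈ M) {e e' a a' : ι → F}
    (h : Frame F₀ f e e' a a') (hye : f y e = 0) {w₁ w₂ : ι → F}
    (hw₁ : w₁ ∈ ratVecs ι F₀ ∧ f w₁ w₁ = 0 ∧ f e w₁ = 0)
    (hw₂ : w₂ ∈ ratVecs ι F₀ ∧ f w₂ w₂ = 0 ∧ f e w₂ = 0) : f y w₁ * σ (f y w₂) ∈ F₀ := by
  refine rat_of_traces hs hτ hτσ fun t ht => ?_
  have hmove : ∀ {w : ι → F} {k : F}, w ∈ ratVecs ι F₀ ∧ f w w = 0 ∧ f e w = 0 → k ∈ F₀ →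
      ∀ {z : ι → F}, f z z = 0 → f z e = 0 → T f z c₀ ∈ M →
      T f (z + (k * f z w) • e) c₀ ∈ M := by
    intro w k hw hk z hzz hze hz
    have hh := S_mem hs hc₀ hM h.re hw.1 h.ee hw.2.1 hw.2.2 hk
    have e1 : (S σ 1 f e w k : Matrix ι ι F) *ᵥ z = z + (k * f z w) • e := by
      rw [hs.S_mulVec hw.2.1 h.ee hw.2.2, hze, mul_zero, zero_smul, sub_zero]
    rw [← e1]
    exact conj_mem hs hc₀ hh hM hzz hz
  set τ₁ := t * f y w₁ with hτ₁
  set τ₂ := 1 * f y w₂ with hτ₂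
  have hP₁ := hmove hw₁ ht hyy hye hy
  have hP₂ := hmove hw₂ F₀.one_mem hyy hye hy
  rw [← hτ₁] at hP₁
  rw [← hτ₂] at hP₂
  clear_value τ₁ τ₂
  have hey := hs.orth_symm hye
  have hz : f (y + τ₂ • e) (y + τ₂ • e) = 0 := by
    simp only [hs.sesq.add_left, hs.sesq.add_right, hs.sesq.smul_left, hs.sesq.smul_right, hyy, hye,
      hey, h.ee, mul_zero, add_zero]
  have hze : f (y + τ₂ • e) e = 0 := by
    rw [hs.sesq.add_left, hs.sesq.smul_left, hye, h.ee, mul_zero, add_zero]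
  have hP := hmove hw₁ ht hz hze hP₂
  rw [hs.sesq.add_left, hs.sesq.smul_left, hw₁.2.2, mul_zero, add_zero, ← hτ₁] at hP
  have key : T f (y + τ₂ • e + τ₁ • e) c₀ * T f y c₀ =
      T f (y + τ₁ • e) c₀ * T f (y + τ₂ • e) c₀ * T f e (c₀ * (τ₁ * σ τ₂ + τ₂ * σ τ₁)) := by
    have hiso : ∀ k : F, f (y + k • e) (y + k • e) = 0 := fun k => by
      simp only [hs.sesq.add_left, hs.sesq.add_right, hs.sesq.smul_left, hs.sesq.smul_right, hyy,
        hye, hey, h.ee, mul_zero, add_zero]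
    refine ext_mulVec fun u => ?_
    simp only [Units.val_mul, ← mulVec_mulVec, hs.T_mulVec hyy, hs.T_mulVec h.ee,
      hs.T_mulVec (hiso τ₁), hs.T_mulVec (hiso τ₂), add_assoc y, ← add_smul,
      hs.T_mulVec (hiso (τ₂ + τ₁))]
    simp only [hs.sesq.add_left, hs.sesq.add_right, hs.sesq.smul_left, hs.sesq.smul_right, hyy, hye,
      hey, h.ee, map_add]
    module
  have h1 := M.mul_mem hP hy
  rw [key] at h1
  have h2 := F₀.mul_mem (F₀.inv_mem hc₀) (hC e h.re (h.e_ne hs hc₀) h.ee _ (long_skew hs hc₀ hn hM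
    (by rw [map_add, map_mul, map_mul, hs.sigma_sigma, hs.sigma_sigma]; ring))
    ((Subgroup.mul_mem_cancel_left M (M.mul_mem hP₁ hP₂)).1 h1))
  rw [inv_mul_cancel_left₀ hs.c₀_ne] at h2
  convert h2 using 1
  rw [hτ₁, hτ₂]
  simp only [map_mul, map_one, hs.sigma_sigma]
  ring

/-- A conjugate centre orthogonal to a rational isotropic vector. -/
theorem good {g : GL ι F} (hg : g ∈ M) {x : ι → F} (hx : x ∈ ratVecs ι F₀) (hxx : f x x = 0)
    {z : ι → F} (hz : z ∈ ratVecs ι F₀) (hz0 : z ≠ 0) (hzz : f z z = 0)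
    (hzx : f z ((g : Matrix ι ι F) *ᵥ x) = 0) :
    ∃ k : F, ∃ v ∈ ratVecs ι F₀, (g : Matrix ι ι F) *ᵥ x = k • v := by
  refine rigid hs hc₀ hM hn hC (fun e e' a a' h s d _ hm =>
    short_rat hs hc₀ hn hM hτ hτσ hC h hm) ?_ (by rw [hM.iso g hg, hxx])
    (conj_mem hs hc₀ hg hM hxx (T_mem hs hc₀ hM hx hxx hc₀ hs.c₀_trace)) hz hz0 hzz hzx
  intro y hyy hy e e' a a' h hye
  exact ⟨pair_rat hs hc₀ hn hM hτ hτσ hC hyy hy h hye ⟨h.ra, h.aa, h.ea⟩ ⟨h.ra, h.aa, h.ea⟩,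
    pair_rat hs hc₀ hn hM hτ hτσ hC hyy hy h hye ⟨h.ra', h.a'a', h.ea'⟩ ⟨h.ra', h.a'a', h.ea'⟩,
    pair_rat hs hc₀ hn hM hτ hτσ hC hyy hy h hye ⟨h.ra, h.aa, h.ea⟩ ⟨h.ra', h.a'a', h.ea'⟩⟩

theorem not_bad_odd (h2 : (2 : F) ≠ 0) {r : ℕ} (hr : r.Prime) (hr2 : r ≠ 2)
    (hcard : Fintype.card F = Nat.card F₀ ^ r) {y : ι → F} (hyy : f y y = 0) (hty : T f y c₀ ∈ M)
    (hno : ∀ x ∈ ratVecs ι F₀, x ≠ 0 → f x x = 0 → f x y ≠ 0) : False := by
  have hN : ∀ x ∈ ratVecs ι F₀, f x x = 0 → f x y * σ (f x y) ∈ F₀ := by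
    intro x hx hxx
    by_cases hx0 : x = 0
    · rw [hx0, hs.sesq.zero_left, zero_mul]; exact F₀.zero_mem
    by_contra hnot
    have hlam : leftVec f x ⬝ᵥ (c₀ • y) * (leftVec f y ⬝ᵥ (c₀ • x)) =
        c₀ * c₀ * (f x y * σ (f x y)) := by
      rw [hs.sesq.dot_leftVec, hs.sesq.dot_leftVec, hs.sesq.smul_left, hs.sesq.smul_left, hs.herm x y]
      ring
    set lam := c₀ * c₀ * (f x y * σ (f x y)) with hlam'
    have hlamF : lam ∉ F₀ := fun h => hnot (by
      have := F₀.mul_mem (F₀.inv_mem (F₀.mul_mem hc₀ hc₀)) h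
      rwa [hlam', inv_mul_cancel_left₀ (mul_ne_zero hs.c₀_ne hs.c₀_ne)] at this)
    have h1 := exists_tv_irrational hr hr2 hcard h2
      (v₁ := c₀ • x) (φ₁ := leftVec f x) (v₂ := c₀ • y) (φ₂ := leftVec f y)
      (hs.T_dot hxx c₀) (hs.T_dot hyy c₀) (by rwa [hlam])
      (T_mem hs hc₀ hM hx hxx hc₀ hs.c₀_trace) hty
    rw [hlam, smul_smul] at h1
    have hlamσ : σ lam = lam := by
      rw [hlam', map_mul, map_mul, map_mul, hs.sigma_sigma, sigma_c₀ hs]
      ring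
    have h3 := hC x hx hx0 hxx (lam⁻¹ * c₀) (by
      rw [map_mul, map_inv₀, hlamσ]
      linear_combination lam⁻¹ * hs.c₀_trace) h1
    have h4 := F₀.mul_mem h3 (F₀.inv_mem hc₀)
    rw [mul_inv_cancel_right₀ hs.c₀_ne] at h4
    have h5 := F₀.inv_mem h4
    rw [inv_inv] at h5
    exact hlamF h5
  obtain ⟨a, a', b, b', h⟩ := exists_some_frame hs hc₀ hn
  set u := f a y with hu
  set v := f b y with hv
  have hv0 : v ≠ 0 := hno b h.ra ((h.swap hs hc₀).e_ne hs hc₀) h.aa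
  have hX : ∀ t ∈ F₀, σ t * (u * σ v) + t * (v * σ u) ∈ F₀ := by
    intro t ht
    have h1 := hN (a + t • b) (Submodule.add_mem _ h.re (smul_mem_ratVecs ht h.ra)) (by
      simp only [hs.sesq.add_left, hs.sesq.add_right, hs.sesq.smul_left, hs.sesq.smul_right, h.ee,
        h.aa, h.ea, hs.orth_symm h.ea]
      ring)
    rw [hs.sesq.add_left, hs.sesq.smul_left, ← hu, ← hv] at h1
    have h3 := F₀.sub_mem (F₀.sub_mem h1 (hN a h.re h.ee))
      (F₀.mul_mem (F₀.mul_mem ht (hs.sigma_mem t ht)) (hN b h.ra h.aa))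
    convert h3 using 1
    rw [map_add, map_mul, ← hu, ← hv]
    ring
  have hXF : u * σ v ∈ F₀ := by
    have h1 := hX 1 F₀.one_mem
    rw [map_one, one_mul, one_mul] at h1
    have h3 := F₀.sub_mem (hX τ₀ hτ) (F₀.mul_mem hτ h1)
    have h4 := F₀.div_mem h3 (F₀.sub_mem (hs.sigma_mem τ₀ hτ) hτ)
    convert h4 using 1
    rw [eq_div_iff (sub_ne_zero.2 hτσ)]
    ring
  set k := u * σ v * (v * σ v)⁻¹ with hk
  have hkF : k ∈ F₀ := F₀.mul_mem hXF (F₀.inv_mem (hN b h.ra h.aa))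
  refine hno (a - k • b) (Submodule.sub_mem _ h.re (smul_mem_ratVecs hkF h.ra)) (fun hh => ?_) ?_ ?_
  · have h1 := congrArg (fun z => f a' z) hh
    simp [hs.sesq.sub_right, hs.sesq.smul_right, hs.sesq.zero_right, h.e'e, h.e'a] at h1
  · simp only [hs.sesq.sub_left, hs.sesq.sub_right, hs.sesq.smul_left, hs.sesq.smul_right, h.ee,
      h.aa, h.ea, hs.orth_symm h.ea]
    ring
  · have hσv : σ v ≠ 0 := by simpa using hv0
    rw [hs.sesq.sub_left, hs.sesq.smul_left, ← hu, ← hv, hk]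
    field_simp
    ring

theorem not_bad_two (h2 : (2 : F) = 0) {y : ι → F} (hyy : f y y = 0) (hty : T f y c₀ ∈ M)
    (hno : ∀ x ∈ ratVecs ι F₀, x ≠ 0 → f x x = 0 → f x y ≠ 0) : False := by
  haveI : CharP F 2 := (CharP.charP_iff_prime_eq_zero Nat.prime_two).2 (by exact_mod_cast h2)
  obtain ⟨e, e', a, a', h⟩ := exists_some_frame hs hc₀ hn
  have hae := hs.orth_symm h.ea
  have he0 := h.e_ne hs hc₀
  have ha0 := (h.swap hs hc₀).e_ne hs hc₀
  have hfey : f y e ≠ 0 := hs.ne_symm (hno e h.re he0 h.ee)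
  have hy0 : y ≠ 0 := fun h0 => hfey (by rw [h0, hs.sesq.zero_left])
  have hsq : ∀ {p : ι → F}, f p p = 0 → T f p c₀ * T f p c₀ = 1 := fun hp => by
    rw [hs.T_add hp, ← two_mul, h2, zero_mul, T, zero_smul, tv_zero_left]
  set t := T f y c₀ with ht
  set i := T f e c₀ * T f a c₀ with hi
  have hiM : i ∈ M := M.mul_mem (T_mem hs hc₀ hM h.re h.ee hc₀ hs.c₀_trace)
    (T_mem hs hc₀ hM h.ra h.aa hc₀ hs.c₀_trace)
  have hix : ∀ w, (i : Matrix ι ι F) *ᵥ w = w + (c₀ * f w e) • e + (c₀ * f w a) • a := fun w => by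
    rw [hi, Units.val_mul, ← mulVec_mulVec, hs.T_mulVec h.aa, hs.T_mulVec h.ee, hs.sesq.add_left,
      hs.sesq.smul_left, hae]
    module
  have hi2 : i * i = 1 := by
    refine ext_mulVec fun w => ?_
    rw [Units.val_mul, ← mulVec_mulVec, hix, hix, Units.val_one, one_mulVec]
    simp only [hs.sesq.add_left, hs.sesq.smul_left, h.ee, h.aa, h.ea, hae, mul_zero, add_zero]
    match_scalars <;> ring_nf <;> simp [h2]
  have hnc : ∀ g : GL ι F, g * i * g⁻¹ ≠ t := by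
    intro g hg
    rw [mul_inv_eq_iff_eq_mul] at hg
    have hcol : ∀ w, (c₀ * f w e) • ((g : Matrix ι ι F) *ᵥ e) +
        (c₀ * f w a) • ((g : Matrix ι ι F) *ᵥ a) = (c₀ * f ((g : Matrix ι ι F) *ᵥ w) y) • y := by
      intro w
      have e1 := congrArg (fun g : GL ι F => (g : Matrix ι ι F) *ᵥ w) hg
      simp only [Units.val_mul, ← mulVec_mulVec] at e1
      rw [hix, ht, hs.T_mulVec hyy, mulVec_add, mulVec_add, mulVec_smul, mulVec_smul, add_assoc] at e1
      exact add_left_cancel e1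
    have h5 := hcol e'
    have h6 := hcol a'
    rw [h.e'e, h.e'a] at h5
    rw [h.a'a, hs.orth_symm h.ea'] at h6
    simp only [mul_one, mul_zero, zero_smul, add_zero, zero_add] at h5 h6
    have hne : c₀ * f ((g : Matrix ι ι F) *ᵥ e') y ≠ 0 := fun h0 => by
      rw [h0, zero_smul, smul_eq_zero] at h5
      exact mulVec_ne_zero g he0 (h5.resolve_left hs.c₀_ne)
    set p := c₀ * f ((g : Matrix ι ι F) *ᵥ e') y
    set q := c₀ * f ((g : Matrix ι ι F) *ᵥ a') y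
    have e3 : (g : Matrix ι ι F) *ᵥ (q • e - p • a) = 0 := by
      have e4 : c₀ • ((g : Matrix ι ι F) *ᵥ (q • e - p • a)) = 0 := by
        rw [mulVec_sub, mulVec_smul, mulVec_smul, smul_sub, smul_comm, smul_comm c₀ p, h5, h6]
        module
      exact (smul_eq_zero.1 e4).resolve_left hs.c₀_ne
    refine mulVec_ne_zero g (fun h0 => hne ?_) e3
    have e5 := congrArg (fun w => f a' w) h0
    simp only [hs.sesq.sub_right, hs.sesq.smul_right, hs.sesq.zero_right, h.a'a,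
      hs.orth_symm h.ea', mul_zero, mul_one, zero_sub, neg_eq_zero, map_eq_zero] at e5
    exact e5
  obtain ⟨m, hm1, hmt, hmi⟩ := exists_central_of_not_conj (hsq hyy) hi2 hnc
  set j := (t * i) ^ m with hj
  have hjM : j ∈ M := M.pow_mem (M.mul_mem hty hiM) m
  have hI := hM.iso j hjM
  have hj2 : j * j = 1 := by
    have hi' : i⁻¹ = i := inv_eq_of_mul_eq_one_right hi2
    have ht' : t⁻¹ = t := inv_eq_of_mul_eq_one_right (hsq hyy)
    have hc : i * (t * i) * i⁻¹ = (t * i)⁻¹ := by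
      rw [_root_.mul_inv_rev t i, hi', ht', mul_assoc i, mul_assoc t, hi2, mul_one]
    have h3 : i * j * i⁻¹ = j⁻¹ := by rw [hj, ← conj_pow, hc, inv_pow]
    rw [hmi, mul_inv_cancel_right] at h3
    nth_rewrite 1 [h3]
    rw [inv_mul_cancel]
  -- `j` leaves the plane of `i` invariant
  have hjW : ∀ w, (j : Matrix ι ι F) *ᵥ ((c₀ * f w e) • e + (c₀ * f w a) • a) =
      (c₀ * f ((j : Matrix ι ι F) *ᵥ w) e) • e + (c₀ * f ((j : Matrix ι ι F) *ᵥ w) a) • a := by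
    intro w
    have e1 := congrArg (fun g : GL ι F => (g : Matrix ι ι F) *ᵥ w) hmi
    simp only [Units.val_mul, ← mulVec_mulVec] at e1
    rw [hix, hix, mulVec_add, mulVec_add, add_assoc, add_assoc] at e1
    rw [mulVec_add]
    exact (add_left_cancel e1).symm
  have hje : ∀ z, z = e ∨ z = a → f e ((j : Matrix ι ι F) *ᵥ z) = 0 := by
    rintro z (rfl | rfl)
    · have e1 := hjW e'
      rw [h.e'e, h.e'a, mul_one, mul_zero, zero_smul, add_zero, mulVec_smul] at e1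
      have e2 := congrArg (fun v => f z v) e1
      simp only [hs.sesq.smul_right, hs.sesq.add_right, h.ee, h.ea, mul_zero, add_zero] at e2
      exact (mul_eq_zero.1 e2).resolve_left (by simpa using hs.c₀_ne)
    · have e1 := hjW a'
      rw [hs.orth_symm h.ea', h.a'a, mul_one, mul_zero, zero_smul, zero_add, mulVec_smul] at e1
      have e2 := congrArg (fun v => f e v) e1
      simp only [hs.sesq.smul_right, hs.sesq.add_right, h.ee, h.ea, mul_zero, add_zero] at e2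
      exact (mul_eq_zero.1 e2).resolve_left (by simpa using hs.c₀_ne)
  have hjK : j ∈ subfieldSubgroup F₀ (1 : GL ι F) := by
    refine mem_of_lines hs hc₀ hn fun x hx hx0 hxx => ?_
    obtain ⟨w, hw, hw0, hww, hwx, hwj⟩ : ∃ w ∈ ratVecs ι F₀, w ≠ 0 ∧ f w w = 0 ∧ f w x = 0 ∧
        f e ((j : Matrix ι ι F) *ᵥ w) = 0 := by
      by_cases hex : f e x = 0
      · exact ⟨e, h.re, he0, h.ee, hex, hje e (Or.inl rfl)⟩
      refine ⟨a - (f a x / f e x) • e, Submodule.sub_mem _ h.ra (smul_mem_ratVecs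
        (F₀.div_mem (hs.rat a h.ra x hx) (hs.rat e h.re x hx)) h.re), fun h0 => ?_, ?_, ?_, ?_⟩
      · have e1 := congrArg (fun v => f a' v) h0
        simp [hs.sesq.sub_right, hs.sesq.smul_right, hs.sesq.zero_right, h.a'a,
          hs.orth_symm h.ea'] at e1
      · simp [hs.sesq.sub_left, hs.sesq.sub_right, hs.sesq.smul_left, hs.sesq.smul_right, h.aa, h.ee,
          h.ea, hae]
      · rw [hs.sesq.sub_left, hs.sesq.smul_left, div_mul_cancel₀ _ hex, sub_self]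
      · rw [mulVec_sub, mulVec_smul, hs.sesq.sub_right, hs.sesq.smul_right, hje a (Or.inr rfl),
          hje e (Or.inl rfl), mul_zero, sub_zero]
    obtain ⟨k, v, hv, hjv⟩ := good hs hc₀ hn hM hτ hτσ hC hjM hw hww h.re he0 h.ee hwj
    have hjw0 := mulVec_ne_zero j hw0
    have hk : k ≠ 0 := fun hk => hjw0 (by rw [hjv, hk, zero_smul])
    have hvv : f v v = 0 := by
      have h1 : f ((j : Matrix ι ι F) *ᵥ w) ((j : Matrix ι ι F) *ᵥ w) = 0 := by rw [hI, hww]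
      rw [hjv, hs.sesq.smul_left, hs.sesq.smul_right] at h1
      simpa [hk] using h1
    refine good hs hc₀ hn hM hτ hτσ hC hjM hx hxx hv (fun hv0 => hjw0 (by rw [hjv, hv0, smul_zero]))
      hvv ?_
    have h1 : f ((j : Matrix ι ι F) *ᵥ w) ((j : Matrix ι ι F) *ᵥ x) = 0 := by rw [hI, hwx]
    rw [hjv, hs.sesq.smul_left] at h1
    exact (mul_eq_zero.1 h1).resolve_left hk
  obtain ⟨k, hk, hkR⟩ := mem_subfieldSubgroup_one_iff.1 hjK
  have hkF : k ∈ F₀ := by
    have hk2 : k * k ∈ F₀ := by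
      obtain ⟨l, hl⟩ := Function.ne_iff.1 he0
      rw [Pi.zero_apply] at hl
      have h1 := mulVec_mem_ratVecs (hkR.mul hkR) h.re l
      rw [Matrix.smul_mul, Matrix.mul_smul, smul_smul, ← Units.val_mul, hj2, Units.val_one,
        smul_mulVec, one_mulVec] at h1
      simpa [mul_div_assoc, div_self hl] using F₀.div_mem h1 (h.re l)
    have hinj : Function.Injective (fun x : F₀ => x * x) := fun x z hxz => by
      have e0 : (x : F) * x = z * z := congrArg Subtype.val hxz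
      have e1 : ((x : F) - z) * (x - z) = 0 := by
        linear_combination e0 + ((z : F) * z - x * z) * h2
      exact Subtype.ext (sub_eq_zero.1 (mul_self_eq_zero.1 e1))
    obtain ⟨s, hs'⟩ := Finite.injective_iff_surjective.1 hinj ⟨k * k, hk2⟩
    have e0 : (s : F) * s = k * k := congrArg Subtype.val hs'
    have e1 : (k - s) * (k - s) = 0 := by linear_combination -e0 + ((s : F) * s - k * s) * h2
    rw [sub_eq_zero.1 (mul_self_eq_zero.1 e1)]
    exact s.2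
  have hjR : ∀ x ∈ ratVecs ι F₀, (j : Matrix ι ι F) *ᵥ x ∈ ratVecs ι F₀ := by
    intro x hx
    have h1 := smul_mem_ratVecs (F₀.inv_mem hkF) (mulVec_mem_ratVecs hkR hx)
    rwa [smul_mulVec, inv_smul_smul₀ hk] at h1
  -- `j` fixes `y`
  have hjy : (j : Matrix ι ι F) *ᵥ y = y := by
    have hc := hs.conj_T hI hyy c₀
    rw [← ht, ← hmt, mul_inv_cancel_right] at hc
    have e1 := congrArg (fun g : GL ι F => (g : Matrix ι ι F) *ᵥ e) hc
    simp only [hs.T_mulVec hyy, hs.T_mulVec (show f ((j : Matrix ι ι F) *ᵥ y)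
      ((j : Matrix ι ι F) *ᵥ y) = 0 by rw [hI, hyy]), add_right_inj] at e1
    have h0 : c₀ * f e y ≠ 0 := mul_ne_zero hs.c₀_ne (hno e h.re he0 h.ee)
    have h0' : c₀ * f e ((j : Matrix ι ι F) *ᵥ y) ≠ 0 := fun h0' => by
      rw [h0', zero_smul, smul_eq_zero] at e1
      exact hy0 (e1.resolve_left h0)
    set μ := c₀ * f e y / (c₀ * f e ((j : Matrix ι ι F) *ᵥ y))
    have hμ : (j : Matrix ι ι F) *ᵥ y = μ • y := by
      refine smul_right_injective (ι → F) h0' ?_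
      show _ • _ = _ • (μ • y)
      rw [← e1, smul_smul, mul_div_cancel₀ _ h0']
    have hμ2 : μ * μ = 1 := by
      have h1 := congrArg (fun g : GL ι F => (g : Matrix ι ι F) *ᵥ y) hj2
      simp only [Units.val_mul, ← mulVec_mulVec, hμ, mulVec_smul, smul_smul, Units.val_one,
        one_mulVec] at h1
      have h3 : (μ * μ - 1) • y = 0 := by rw [sub_smul, one_smul, h1, sub_self]
      exact sub_eq_zero.1 ((smul_eq_zero.1 h3).resolve_right hy0)
    have e3 : (μ - 1) * (μ - 1) = 0 := by linear_combination hμ2 + (1 - μ) * h2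
    rw [hμ, sub_eq_zero.1 (mul_self_eq_zero.1 e3), one_smul]
  obtain ⟨l, hl⟩ : ∃ l, (j : Matrix ι ι F) *ᵥ Pi.single l 1 ≠ Pi.single l 1 := by
    by_contra hall
    push Not at hall
    refine hm1 (Units.ext (Matrix.ext fun p l => ?_))
    have e1 := congrFun (hall l) p
    rw [mulVec_single_one] at e1
    rw [Units.val_one, one_apply]
    exact e1.trans (Pi.single_apply l 1 p)
  set x := (Pi.single l 1 : ι → F)
  set d := (j : Matrix ι ι F) *ᵥ x - x with hd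
  have hdR : d ∈ ratVecs ι F₀ :=
    Submodule.sub_mem _ (hjR x (single_mem_ratVecs F₀ l)) (single_mem_ratVecs F₀ l)
  have hfix : ∀ z, (j : Matrix ι ι F) *ᵥ z = z → f d z = 0 := fun z hz => by
    rw [hd, hs.sesq.sub_left]
    nth_rewrite 1 [← hz]
    rw [hI, sub_self]
  have hjd : (j : Matrix ι ι F) *ᵥ d = d := by
    rw [hd, mulVec_sub, mulVec_mulVec, ← Units.val_mul, hj2, Units.val_one, one_mulVec, ← sub_eq_zero,
      show x - (j : Matrix ι ι F) *ᵥ x - ((j : Matrix ι ι F) *ᵥ x - x) =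
        (2 : F) • (x - (j : Matrix ι ι F) *ᵥ x) by module, h2, zero_smul]
  exact hno d hdR (sub_ne_zero.2 hl) (hfix d hjd) (hfix y hjy)

omit hC

theorem odd_le_or_forall_T {r : ℕ} (hr : r.Prime) (hr2 : r ≠ 2)
    (hcard : Fintype.card F = Nat.card F₀ ^ r) :
    M ≤ subfieldSubgroup F₀ (1 : GL ι F) ∨
      ∀ z, f z z = 0 → ∀ c, c + 1 * σ c = 0 → T f z c ∈ M := by
  by_cases hC : ∀ e ∈ ratVecs ι F₀, e ≠ 0 → f e e = 0 → ∀ c, c + 1 * σ c = 0 → T f e c ∈ M → c ∈ F₀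
  swap
  · push Not at hC
    obtain ⟨e, he, he0, hee, c, hc, hT, hcF⟩ := hC
    have hb : c / c₀ ∈ longs F₀ σ c₀ f M := ⟨by
        rw [map_div₀, sigma_c₀ hs, show σ c = -c by linear_combination hc, neg_div_neg_eq],
      fun x hx hxx => by
        rw [mul_div_cancel₀ _ hs.c₀_ne]; exact long_all hs hc₀ hn hM he he0 hee hT hx hxx⟩
    have hb' : c / c₀ ∉ F₀ := fun h => hcF (by
      have := F₀.mul_mem h hc₀
      rwa [div_mul_cancel₀ _ hs.c₀_ne] at this)
    have hall := longs_univ hs hc₀ hn hM hτ hτσ hr hcard hb hb'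
    exact Or.inr fun z hz c' hc' =>
      forall_T hs hc₀ hM hn (fun s => (hall s).2) (hall 0).1 hz hc'
  refine Or.inl fun g hg => mem_of_lines hs hc₀ hn fun x hx hx0 hxx => ?_
  by_cases hex : ∃ z ∈ ratVecs ι F₀, z ≠ 0 ∧ f z z = 0 ∧ f z ((g : Matrix ι ι F) *ᵥ x) = 0
  · obtain ⟨z, hz, hz0, hzz, hzx⟩ := hex
    exact good hs hc₀ hn hM hτ hτσ hC hg hx hxx hz hz0 hzz hzx
  push Not at hex
  exfalso
  have hyy : f ((g : Matrix ι ι F) *ᵥ x) ((g : Matrix ι ι F) *ᵥ x) = 0 := by rw [hM.iso g hg, hxx]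
  have hty := conj_mem hs hc₀ hg hM hxx (T_mem hs hc₀ hM hx hxx hc₀ hs.c₀_trace)
  by_cases h2 : (2 : F) = 0
  · exact not_bad_two hs hc₀ hn hM hτ hτσ hC h2 hyy hty hex
  · exact not_bad_odd hs hc₀ hn hM hτ hτσ hC h2 hr hr2 hcard hyy hty hex

omit hs hc₀ hn hM hτ hτσ

theorem isMaximalIn_subfield_odd (q : ℕ) (hF : Fintype.card F = q ^ 2) (F₀ : Subfield F) (r : ℕ)
    (P : GL (Fin 4) F) (hr : r.Prime) (hro : Odd r) (hcard : Fintype.card F = Nat.card F₀ ^ r)
    (hP : IsFormRationalStructure (Cfsg.hermForm 4 F q) F₀ 1 P) :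
    IsMaximalIn (Cfsg.GU 4 F q ⊓ specialLinear (Fin 4) F)
      (subfieldSubgroup F₀ P ⊓ (Cfsg.GU 4 F q ⊓ specialLinear (Fin 4) F)) := by
  obtain ⟨σ, hne, hinv, hσ⟩ := exists_conjEquiv hF
  have hf := isUnitaryForm_hermForm (n := 4) hne hinv hσ
  have hh := sesqForm_of_unitary hf
  have hr2 : r ≠ 2 := fun h => absurd (h ▸ hro) (by decide)
  have hmem : ∀ x ∈ F₀, σ x ∈ F₀ := fun x hx => by rw [hσ]; exact F₀.pow_mem hx q
  obtain ⟨τ₀, hτ, hτσ⟩ : ∃ t ∈ F₀, σ t ≠ t := by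
    by_contra hfix
    push Not at hfix
    exact hne (RingEquiv.ext (eq_self_of_fix hr hr2 hcard hinv hfix))
  let σ₀ : F₀ ≃+* F₀ :=
    { toFun := fun x => ⟨σ x, hmem x x.2⟩
      invFun := fun x => ⟨σ x, hmem x x.2⟩
      left_inv := fun x => Subtype.ext (hinv x)
      right_inv := fun x => Subtype.ext (hinv x)
      map_mul' := fun x y => Subtype.ext (map_mul σ _ _)
      map_add' := fun x y => Subtype.ext (map_add σ _ _) }
  have hinv₀ : ∀ a, σ₀ (σ₀ a) = a := fun a => Subtype.ext (hinv a)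
  have hne₀ : σ₀ ≠ RingEquiv.refl F₀ := fun h => hτσ
    (congrArg (fun x : F₀ => (x : F)) (RingEquiv.congr_fun h ⟨τ₀, hτ⟩))
  obtain ⟨c₀, hc₀, hc₀'⟩ := exists_traceZero hne₀ hinv₀
  have hc₀F : σ (c₀ : F) = -(c₀ : F) := congrArg Subtype.val hc₀'
  have hc₀0 : (c₀ : F) ≠ 0 := fun h => hc₀ (Subtype.ext h)
  set f' := pullForm (Cfsg.hermForm 4 F q) 1 P with hf'
  have hs' : SesqForm σ f' := sesq_pullForm hh one_ne_zero P
  have hherm : ∀ u v, f' v u = σ (f' u v) := fun u v => by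
    rw [hf', pullForm, pullForm, one_mul, one_mul, hf.herm]
  have hrat := pullForm_mem hP
  rw [← hf'] at hrat
  have hiso : ∀ U : Submodule F₀ (Fin 4 → F), U ≤ ratVecs (Fin 4) F₀ →
      2 ≤ Module.finrank F₀ U → ∃ z ∈ U, z ≠ 0 ∧ f' z z = 0 := by
    intro U hU h2
    haveI : Module.Finite F₀ (Fin 4 → F) := Module.Finite.of_finite
    have hne' : U ≠ ⊥ := fun h => by rw [h, finrank_bot] at h2; omega
    obtain ⟨w, hw, hw0⟩ := Submodule.exists_mem_ne_zero_of_ne_bot hne'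
    by_cases hww : f' w w = 0
    · exact ⟨w, hw, hw0, hww⟩
    obtain ⟨v, hv, hvw⟩ : ∃ v ∈ U, v ∉ Submodule.span F₀ {w} := by
      by_contra h
      push Not at h
      have := Submodule.finrank_mono (h : U ≤ Submodule.span F₀ {w})
      rw [finrank_span_singleton hw0] at this
      omega
    have ha : f' v w / f' w w ∈ F₀ :=
      F₀.div_mem (hrat v (hU hv) w (hU hw)) (hrat w (hU hw) w (hU hw))
    set t := v - (f' v w / f' w w) • w with ht
    have htU : t ∈ U := U.sub_mem hv (U.smul_mem (⟨_, ha⟩ : F₀) hw)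
    have htw : f' t w = 0 := by
      rw [ht, hs'.sub_left, hs'.smul_left, div_mul_cancel₀ _ hww, sub_self]
    have hwt : f' w t = 0 := by rw [hherm t w, htw, map_zero]
    have ht0 : t ≠ 0 := fun h => hvw (Submodule.mem_span_singleton.mpr
      ⟨(⟨_, ha⟩ : F₀), (sub_eq_zero.mp h).symm⟩)
    obtain ⟨l, hl⟩ := norm_surjective hne₀ hinv₀
      (a := (⟨- f' t t / f' w w, F₀.div_mem (F₀.neg_mem (hrat t (hU htU) t (hU htU)))
        (hrat w (hU hw) w (hU hw))⟩ : F₀)) (Subtype.ext (by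
          show σ (- f' t t / f' w w) = _
          rw [map_div₀, map_neg, ← hherm, ← hherm]))
    have hlF : (l : F) * σ l = - f' t t / f' w w := congrArg Subtype.val hl
    refine ⟨t + (l : F) • w, U.add_mem htU (U.smul_mem l hw), fun h => hvw ?_, ?_⟩
    · refine Submodule.mem_span_singleton.mpr ⟨((⟨_, ha⟩ : F₀) - l), ?_⟩
      show (f' v w / f' w w - (l : F)) • w = v
      rw [ht] at h
      linear_combination (norm := module) -h
    · rw [hs'.add_left, hs'.add_right, hs'.add_right, hs'.smul_right, hs'.smul_left,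
        hs'.smul_left, hs'.smul_right, htw, hwt, ← mul_assoc, hlF, div_mul_cancel₀ _ hww]
      ring
  have hs : Setting F₀ σ 1 (c₀ : F) f' := by
    refine
      { sesq := hs', eps := one_mul 1, sigma_sigma := hinv, sigma_eps := map_one σ,
        herm := fun u v => by rw [one_mul]; exact hherm u v, rat := hrat, sigma_mem := hmem,
        c₀_ne := hc₀0, c₀_trace := by rw [hc₀F]; ring,
        exists_iso := fun U hU h3 => hiso U hU (by omega), exists_iso₂ := fun _ => hiso,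
        shift := fun v hv e he hee hve => ?_, trace_gen := fun c hc => ?_ }
    · obtain ⟨m, hm⟩ := trace_surjective hne₀ hinv₀
        (a := (⟨- f' v v, F₀.neg_mem (hrat v hv v hv)⟩ : F₀)) (Subtype.ext (by
          show σ (- f' v v) = _
          rw [map_neg, ← hherm]))
      have hmF : (m : F) + σ m = - f' v v := congrArg Subtype.val hm
      have hev : f' e v ≠ 0 := fun h => hve (by rw [hherm e v, h, map_zero])
      refine ⟨(m : F) / f' e v, F₀.div_mem m.2 (hrat e he v hv), ?_⟩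
      rw [hs'.add_left, hs'.add_right, hs'.add_right, hs'.smul_left, hs'.smul_right, hs'.smul_left,
        hs'.smul_right, hee, mul_zero, mul_zero, add_zero, map_div₀, ← hherm e v,
        div_mul_cancel₀ _ hev, div_mul_cancel₀ _ hve]
      linear_combination hmF
    · rw [one_mul] at hc
      obtain ⟨t, ht⟩ := norm_surjective hne hinv (a := c / (c₀ : F)) (by
        rw [map_div₀, hc₀F, eq_neg_of_add_eq_zero_right hc, neg_div_neg_eq])
      exact AddSubgroup.subset_closure ⟨t, by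
        show (c₀ : F) * (t * σ t) = c
        rw [ht, mul_div_cancel₀ _ hc₀0]⟩
  exact isMaximalIn_of_dichotomy hs c₀.2 hh one_ne_zero P rfl (by simp) hr hcard
    (fun M hM => odd_le_or_forall_T hs c₀.2 (by simp) hM hτ hτσ hr hr2 hcard) _
    (fun g => Iff.rfl) fun M hM => su_le_of_forall_tv le_rfl hF hσ fun z hz c hc =>
      hM z hz c (by rw [div_one, one_mul]; exact hc)

end CfsgLib.SUFour.Subfield
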