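import Cfsg.Agent.SUFour.OrthBasic

/-!
# One long root element gives every transvection

All rational isotropic centres follow. A centre `P = p + c₀ q` is then the image of a centre
`p' + c₀ q'` under a transvection with centre `(p - p') + c₀ (q - q')`, the rational isotropic vectors
`p'`, `q'`, `p - p'`, `q - q'` being not orthogonal in pairs.
-/

set_option autoImplicit false
set_option linter.unusedSectionVars false

namespace CfsgLib.SUFour.Orth

open Matrix Cfsg.Geo CfsgLib.MaxSub CfsgLib.FormSubfield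

variable {ι : Type} [Fintype ι] [DecidableEq ι] {F : Type*} [Field F] [Fintype F]
variable {F₀ : Subfield F} {σ : F ≃+* F} {c₀ : F} {f : (ι → F) → (ι → F) → F}
variable {M : Subgroup (GL ι F)}

/-- All transvections at `z` lie in `M`. -/
def InZ (σ : F ≃+* F) (f : (ι → F) → (ι → F) → F) (M : Subgroup (GL ι F)) (z : ι → F) : Prop :=
  f z z = 0 ∧ ∀ c, c + 1 * σ c = 0 → T f z c ∈ M

namespace OSetting

variable (hO : OSetting F₀ σ c₀ f) (hM : Over F₀ f M)

include hO hM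

theorem inZ_rat {e : ι → F} (he : e ∈ ratVecs ι F₀) (he0 : e ≠ 0) (hee : f e e = 0) {c : F}
    (hc : c + 1 * σ c = 0) (hc0 : c ≠ 0) (hT : T f e c ∈ M) {x : ι → F} (hx : x ∈ ratVecs ι F₀)
    (hxx : f x x = 0) : InZ σ f M x := by
  have hs := hO.hs
  refine ⟨hxx, ?_⟩
  rcases eq_or_ne x 0 with rfl | hx0
  · intro d _; rw [T, smul_zero, tv_zero_left]; exact M.one_mem
  obtain ⟨g, hg, -, rfl⟩ := hO.exists_map hM he he0 hee hx hx0 hxx
  intro d hd
  rw [← hs.conj_T (hM.iso g hg) hee]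
  refine M.mul_mem (M.mul_mem hg ?_) (M.inv_mem hg)
  have hsq : ∀ j ∈ F₀, T f e (c * (j * j)) ∈ M := by
    intro j hj
    rcases eq_or_ne j 0 with rfl | hj0
    · rw [mul_zero, mul_zero, T, zero_smul, tv_zero_left]; exact M.one_mem
    obtain ⟨k, hk, -, hke⟩ := hO.exists_map hM he he0 hee (smul_mem_ratVecs hj he)
      (smul_ne_zero hj0 he0) (by rw [hs.sesq.smul_left, hs.sesq.smul_right, hee, mul_zero, mul_zero])
    have h1 := M.mul_mem (M.mul_mem hk hT) (M.inv_mem hk)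
    rwa [hs.conj_T (hM.iso k hk) hee, hke, hs.T_smul hee, hO.fix j hj] at h1
  have hdc : d / c ∈ F₀ := by
    have h1 := F₀.div_mem (hO.skew_mem hd) (hO.skew_mem hc)
    rwa [div_div_div_cancel_right₀ hs.c₀_ne] at h1
  set k := d / c with hk
  have hk2 : k / 2 ∈ F₀ := F₀.div_mem hdc (ofNat_mem F₀ 2)
  have h1 := M.mul_mem (M.mul_mem (hsq _ (F₀.add_mem hk2 F₀.one_mem)) (M.inv_mem (hsq _ hk2)))
    (M.inv_mem (hsq 1 F₀.one_mem))
  have hinv : ∀ u : F, (T f e u)⁻¹ = T f e (-u) := fun u => inv_eq_of_mul_eq_one_right (by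
    rw [hs.T_add hee, add_neg_cancel, T, zero_smul, tv_zero_left])
  rw [hinv, hinv, hs.T_add hee, hs.T_add hee] at h1
  convert h1 using 2
  have h2 := hO.two
  rw [← mul_div_cancel₀ d hc0, ← hk]
  field_simp
  ring

theorem inZ_move {z w : ι → F} (hz : InZ σ f M z) (hw : InZ σ f M w) {c : F}
    (hc : c + 1 * σ c = 0) : InZ σ f M (w + (c * f w z) • z) := by
  have hs := hO.hs
  have h := hz.2 c hc
  have e := hs.T_mulVec hz.1 c w
  rw [← e]
  refine ⟨by rw [hM.iso _ h, hw.1], fun d hd => ?_⟩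
  rw [← hs.conj_T (hM.iso _ h) hw.1]
  exact M.mul_mem (M.mul_mem h (hw.2 d hd)) (M.inv_mem h)

theorem inZ_smul {z : ι → F} (hz : InZ σ f M z) (k : F) : InZ σ f M (k • z) := by
  have hs := hO.hs
  refine ⟨by rw [hs.sesq.smul_left, hs.sesq.smul_right, hz.1, mul_zero, mul_zero], fun d hd => ?_⟩
  rw [hs.T_smul hz.1]
  refine hz.2 _ ?_
  rw [map_mul, map_mul, hs.sigma_sigma]
  linear_combination (k * σ k) * hd

variable (hZ : ∀ x ∈ ratVecs ι F₀, f x x = 0 → InZ σ f M x)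

include hZ

/-- `p + c₀ q` for rational isotropic `p`, `q` with non-zero pairing. -/
theorem inZ_pair {p q : ι → F} (hp : p ∈ ratVecs ι F₀) (hq : q ∈ ratVecs ι F₀) (hpp : f p p = 0)
    (hqq : f q q = 0) (hK : f p q ≠ 0) : InZ σ f M (p + c₀ • q) := by
  have hc : c₀ * (f p q)⁻¹ + 1 * σ (c₀ * (f p q)⁻¹) = 0 :=
    hO.skew_of_mem (F₀.inv_mem (hO.hs.rat p hp q hq))
  have h := hO.inZ_move hM (hZ q hq hqq) (hZ p hp hpp) hc
  rwa [mul_assoc, inv_mul_cancel₀ hK, mul_one] at h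

/-- The centre as an image of `p' + c₀ q'`. -/
theorem inZ_split {p q p' q' : ι → F} (hp : p ∈ ratVecs ι F₀) (hq : q ∈ ratVecs ι F₀)
    (hp' : p' ∈ ratVecs ι F₀) (hq' : q' ∈ ratVecs ι F₀) (h1 : f p' p' = 0) (h2 : f q' q' = 0)
    (h3 : f (p - p') (p - p') = 0) (h4 : f (q - q') (q - q') = 0) (h5 : f p' q' ≠ 0)
    (h6 : f (p - p') (q - q') ≠ 0) (hP : f (p + c₀ • q) (p + c₀ • q) = 0)
    (h7 : f (p' + c₀ • q') (p + c₀ • q) ≠ 0) : InZ σ f M (p + c₀ • q) := by
  have hs := hO.hs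
  set w := p' + c₀ • q' with hw
  set z := (p - p') + c₀ • (q - q') with hz
  have hwZ := hO.inZ_pair hM hZ hp' hq' h1 h2 h5
  have hzZ := hO.inZ_pair hM hZ (Submodule.sub_mem _ hp hp') (Submodule.sub_mem _ hq hq') h3 h4 h6
  have hsum : p + c₀ • q = w + z := by rw [hw, hz]; module
  rw [← hw] at hwZ
  rw [← hz] at hzZ
  clear_value w z
  rw [hsum, hs.sesq.add_left, hs.sesq.add_right, hs.sesq.add_right, hwZ.1, hzZ.1] at hP
  rw [hsum, hs.sesq.add_right, hwZ.1, zero_add] at h7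
  have hc : (f w z)⁻¹ + 1 * σ (f w z)⁻¹ = 0 := by
    rw [one_mul, map_inv₀, hs.sigma_f', show f z w = -f w z by linear_combination hP]
    ring
  have h := hO.inZ_move hM hzZ hwZ hc
  rw [inv_mul_cancel₀ h7, one_smul, ← hsum] at h
  exact h

omit hM hZ in
/-- Consequences of isotropy. -/
theorem iso_parts {p q : ι → F} (hp : p ∈ ratVecs ι F₀) (hq : q ∈ ratVecs ι F₀)
    (hP : f (p + c₀ • q) (p + c₀ • q) = 0) : f p p = c₀ * c₀ * f q q := by
  have hs := hO.hs
  simp only [hs.sesq.add_left, hs.sesq.add_right, hs.sesq.smul_left, hs.sesq.smul_right,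
    hO.sigma_c₀, hO.symm hq hp] at hP
  linear_combination hP

theorem inZ_generic {p q : ι → F} (hp : p ∈ ratVecs ι F₀) (hq : q ∈ ratVecs ι F₀)
    (hP : f (p + c₀ • q) (p + c₀ • q) = 0) (hB : f q q ≠ 0) (hK : f p q ≠ 0) :
    InZ σ f M (p + c₀ • q) := by
  have hs := hO.hs
  have hAB := hO.iso_parts hp hq hP
  set D := c₀ * c₀ with hD
  set K := f p q with hKdef
  set B := f q q with hBdef
  have hKR : K ∈ F₀ := hs.rat p hp q hq
  have hBR : B ∈ F₀ := hs.rat q hq q hq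
  have hqp : f q p = K := hO.symm hq hp
  set Δ := K * K - D * B * B with hΔdef
  have hΔ : Δ ≠ 0 := fun h => hO.sq_nonsq ⟨K / B, F₀.div_mem hKR hBR, by
    rw [hΔdef] at h; field_simp; linear_combination -h⟩
  obtain ⟨a, ha, b, hb, haa, hbb, hab, hap, haq, hbp, hbq, -⟩ := hO.exists_perp_basis hp hq
    (by rw [hAB, ← hBdef, ← hKdef]; intro h; exact hΔ (by rw [hΔdef]; linear_combination -h))
  have hba := hs.orth_symm hab
  obtain ⟨u, hu, hu0, hu2⟩ := hO.exists_sq_ne (1 / (4 * Δ))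
  set A := D * B with hA
  set α := 1 / 2 + u * K with hα
  set β := -(u * A) with hβ
  have hAR : A ∈ F₀ := F₀.mul_mem hO.sq_mem hBR
  have hαR : α ∈ F₀ := F₀.add_mem (F₀.div_mem F₀.one_mem (ofNat_mem F₀ 2)) (F₀.mul_mem hu hKR)
  have hβR : β ∈ F₀ := F₀.neg_mem (F₀.mul_mem hu hAR)
  have h2 := hO.two
  have hΔR : Δ ∈ F₀ := F₀.sub_mem (F₀.mul_mem hKR hKR) (F₀.mul_mem hAR hBR)
  have h4 : (4 : F) ≠ 0 := by
    rw [show (4 : F) = 2 * 2 by norm_num]; exact mul_ne_zero h2 h2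
  set N₁ := α * α * A + 2 * (α * β * K) + β * β * B with hN₁
  have hN₁0 : N₁ ≠ 0 := by
    rw [hN₁, hα, hβ]
    intro h
    have e : A * (1 - 4 * (u * u) * Δ) = 0 := by
      rw [hΔdef]; linear_combination (norm := (field_simp; ring)) 4 * h
    have hA0 : A ≠ 0 := mul_ne_zero (mul_ne_zero hs.c₀_ne hs.c₀_ne) hB
    apply hu2
    field_simp
    linear_combination -((mul_eq_zero.1 e).resolve_left hA0)
  obtain ⟨x₁, hx₁, y₁, hy₁, hxy₁⟩ := hO.exists_represent (v := -N₁) (hO.self_mem a) (hO.self_mem b)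
    (F₀.neg_mem (F₀.add_mem (F₀.add_mem (F₀.mul_mem (F₀.mul_mem hαR hαR) hAR)
      (F₀.mul_mem (ofNat_mem F₀ 2) (F₀.mul_mem (F₀.mul_mem hαR hβR) hKR)))
      (F₀.mul_mem (F₀.mul_mem hβR hβR) hBR))) haa hbb
  set s := x₁ • a + y₁ • b with hsdef
  have hsR : s ∈ ratVecs ι F₀ := Submodule.add_mem _ (smul_mem_ratVecs hx₁ ha) (smul_mem_ratVecs hy₁ hb)
  have hss : f s s = -N₁ := by
    rw [← hxy₁]
    simp only [hsdef, hs.sesq.add_left, hs.sesq.add_right, hs.sesq.smul_left, hs.sesq.smul_right,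
      hab, hba, hO.fix _ hx₁, hO.fix _ hy₁]
    ring
  have hsp : f s p = 0 := by simp [hsdef, hs.sesq.add_left, hs.sesq.smul_left, hap, hbp]
  have hsq : f s q = 0 := by simp [hsdef, hs.sesq.add_left, hs.sesq.smul_left, haq, hbq]
  obtain ⟨t, htR, htp, htq, htt, hst⟩ : ∃ t ∈ ratVecs ι F₀, f t p = 0 ∧ f t q = 0 ∧
      f t t = -B / 4 ∧ f s t ≠ 0 := by
    obtain ⟨x, hx, y, hy, hxy⟩ := hO.exists_represent (v := -B / 4) (hO.self_mem a) (hO.self_mem b)
      (F₀.div_mem (F₀.neg_mem hBR) (ofNat_mem F₀ 4)) haa hbb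
    set t := x • a + y • b with htdef
    have htR : t ∈ ratVecs ι F₀ := Submodule.add_mem _ (smul_mem_ratVecs hx ha) (smul_mem_ratVecs hy hb)
    have htp : f t p = 0 := by simp [htdef, hs.sesq.add_left, hs.sesq.smul_left, hap, hbp]
    have htq : f t q = 0 := by simp [htdef, hs.sesq.add_left, hs.sesq.smul_left, haq, hbq]
    have htt : f t t = -B / 4 := by
      rw [← hxy]
      simp only [htdef, hs.sesq.add_left, hs.sesq.add_right, hs.sesq.smul_left, hs.sesq.smul_right,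
        hab, hba, hO.fix _ hx, hO.fix _ hy]
      ring
    clear_value t
    by_cases hst : f s t = 0
    swap
    · exact ⟨t, htR, htp, htq, htt, hst⟩
    have hts := hs.orth_symm hst
    have hS : f s s ≠ 0 := by rw [hss]; exact neg_ne_zero.2 hN₁0
    have hT : f t t ≠ 0 := by rw [htt]; exact div_ne_zero (neg_ne_zero.2 hB) h4
    obtain ⟨j, hj, hj0, hj2⟩ := hO.exists_sq_ne (-(f s s / f t t))
    set m := s + j • t with hm
    have hmR : m ∈ ratVecs ι F₀ := Submodule.add_mem _ hsR (smul_mem_ratVecs hj htR)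
    have hmm : f m m = f s s + j * j * f t t := by
      simp only [hm, hs.sesq.add_left, hs.sesq.add_right, hs.sesq.smul_left, hs.sesq.smul_right,
        hst, hts, hO.fix j hj]
      ring
    have hmm0 : f m m ≠ 0 := fun h => hj2 (by
      rw [hmm] at h; field_simp; linear_combination h)
    have hmp : f m p = 0 := by
      rw [hm, hs.sesq.add_left, hs.sesq.smul_left, hsp, htp, mul_zero, add_zero]
    have hmq : f m q = 0 := by
      rw [hm, hs.sesq.add_left, hs.sesq.smul_left, hsq, htq, mul_zero, add_zero]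
    clear_value m
    refine ⟨(refl f m : Matrix ι ι F) *ᵥ t, mulVec_mem_ratVecs (hs.ratMat_refl hmR hmm0) htR, ?_,
      ?_, ?_, ?_⟩
    · rw [hs.refl_mulVec hmm0, hs.sesq.sub_left, hs.sesq.smul_left, htp, hmp, mul_zero, sub_zero]
    · rw [hs.refl_mulVec hmm0, hs.sesq.sub_left, hs.sesq.smul_left, htq, hmq, mul_zero, sub_zero]
    · rw [hs.refl_iso hmm0, htt]
    · rw [hs.refl_mulVec hmm0, hs.sesq.sub_right, hs.sesq.smul_right, hst, zero_sub, neg_ne_zero,
        show f t m = j * f t t by rw [hm, hs.sesq.add_right, hs.sesq.smul_right, hts, hO.fix j hj,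
          zero_add],
        show f s m = f s s by rw [hm, hs.sesq.add_right, hs.sesq.smul_right, hst, mul_zero, add_zero],
        hO.fix _ (F₀.div_mem (F₀.mul_mem (ofNat_mem F₀ 2) (F₀.mul_mem hj (hO.self_mem t))) (hO.self_mem m))]
      exact mul_ne_zero (div_ne_zero (mul_ne_zero h2 (mul_ne_zero hj0 hT)) hmm0) hS
  set k₁ := (α * K + β * B) / 2 with hk₁
  set k₂ := ((1 - α) * K - β * B) / 2 with hk₂
  have hk12 : k₁ + k₂ ≠ 0 := by
    rw [hk₁, hk₂, show (α * K + β * B) / 2 + ((1 - α) * K - β * B) / 2 = K / 2 by ring]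
    exact div_ne_zero hK h2
  obtain ⟨e, heF, hee, he1, he2⟩ : ∃ e ∈ F₀, e * e = 1 ∧ k₁ + e * f s t ≠ 0 ∧ k₂ + e * f s t ≠ 0 := by
    have hne : ∀ {x : F}, x + f s t = 0 → x - f s t = 0 → False := fun {x} ha' hb' =>
      hst ((mul_eq_zero.1 (show (2 : F) * f s t = 0 by linear_combination ha' - hb')).resolve_left h2)
    by_cases hg : k₁ + f s t ≠ 0 ∧ k₂ + f s t ≠ 0
    · exact ⟨1, F₀.one_mem, one_mul 1, by simpa using hg.1, by simpa using hg.2⟩
    refine ⟨-1, F₀.neg_mem F₀.one_mem, by ring, ?_, ?_⟩ <;>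
      rw [neg_one_mul, ← sub_eq_add_neg] <;> intro h'
    · rcases not_and_or.1 hg with h | h
      · exact hne (not_not.1 h) h'
      · exact hk12 (by linear_combination not_not.1 h + h')
    · rcases not_and_or.1 hg with h | h
      · exact hk12 (by linear_combination not_not.1 h + h')
      · exact hne (not_not.1 h) h'
  set p' := α • p + β • q + s with hp'
  set q' := (1 / 2 : F) • q + e • t with hq'
  have hhalf : (1 / 2 : F) ∈ F₀ := F₀.div_mem F₀.one_mem (ofNat_mem F₀ 2)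
  have hps : f p s = 0 := hs.orth_symm hsp
  have hqs : f q s = 0 := hs.orth_symm hsq
  have hpt : f p t = 0 := hs.orth_symm htp
  have hqt : f q t = 0 := hs.orth_symm htq
  have hts : f t s = f s t := hO.symm htR hsR
  have hσα := hO.fix _ hαR
  have hσβ := hO.fix _ hβR
  have hσe := hO.fix _ heF
  have hσh := hO.fix _ hhalf
  refine hO.inZ_split hM hZ hp hq
    (Submodule.add_mem _ (Submodule.add_mem _ (smul_mem_ratVecs hαR hp) (smul_mem_ratVecs hβR hq)) hsR)
    (Submodule.add_mem _ (smul_mem_ratVecs hhalf hq) (smul_mem_ratVecs heF htR))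
    (p' := p') (q' := q') ?_ ?_ ?_ ?_ ?_ ?_ hP ?_
  all_goals simp only [hp', hq', hs.sesq.sub_left, hs.sesq.sub_right, hs.sesq.add_left,
    hs.sesq.add_right, hs.sesq.smul_left, hs.sesq.smul_right, hσα, hσβ, hσe, hσh, hO.sigma_c₀, hAB,
    ← hKdef, ← hBdef, hqp, hsp, hsq, hps, hqs, htp, htq, hpt, hqt, hts, hss, htt]
  · rw [hN₁]; ring
  · field_simp
    linear_combination (-4 * B) * hee
  · rw [hN₁, hα, hβ]; field_simp; ring
  · field_simp
    linear_combination (-4 * B) * hee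
  · intro h; exact he1 (by rw [hk₁]; linear_combination (norm := (field_simp; ring)) h)
  · intro h; exact he2 (by rw [hk₂]; linear_combination (norm := (field_simp; ring)) h)
  · intro h
    rw [hα, hβ] at h
    have e' : c₀ * (u * Δ) = 0 := by
      rw [hΔdef]
      linear_combination (norm := (field_simp; ring)) -h
    exact mul_ne_zero hs.c₀_ne (mul_ne_zero hu0 hΔ) e'

theorem inZ_of_decomp {p q : ι → F} (hp : p ∈ ratVecs ι F₀) (hq : q ∈ ratVecs ι F₀)
    (hP : f (p + c₀ • q) (p + c₀ • q) = 0) : InZ σ f M (p + c₀ • q) := by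
  have hs := hO.hs
  have hAB := hO.iso_parts hp hq hP
  by_cases hB : f q q = 0
  swap
  · by_cases hK : f p q = 0
    swap
    · exact hO.inZ_generic hM hZ hp hq hP hB hK
    -- rescale by `j + c₀`
    obtain ⟨j, hj, hj0, hj2⟩ := hO.exists_sq_ne (-(c₀ * c₀))
    have hjc : j + c₀ ≠ 0 := fun h => hj2 (absurd (show c₀ ∈ F₀ by
      rw [eq_neg_of_add_eq_zero_right h]; exact F₀.neg_mem hj) hO.c₀_notMem)
    set p' := j • p + (c₀ * c₀) • q with hp'
    set q' := p + j • q with hq'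
    have hp'R : p' ∈ ratVecs ι F₀ :=
      Submodule.add_mem _ (smul_mem_ratVecs hj hp) (smul_mem_ratVecs hO.sq_mem hq)
    have hq'R : q' ∈ ratVecs ι F₀ := Submodule.add_mem _ hp (smul_mem_ratVecs hj hq)
    have e : (j + c₀) • (p + c₀ • q) = p' + c₀ • q' := by rw [hp', hq']; module
    have h1 : f (p' + c₀ • q') (p' + c₀ • q') = 0 := by
      rw [← e, hs.sesq.smul_left, hs.sesq.smul_right, hP, mul_zero, mul_zero]
    have hqp : f q p = 0 := by rw [hO.symm hq hp, hK]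
    have h3 : f q' q' ≠ 0 := by
      simp only [hq', hs.sesq.add_left, hs.sesq.add_right, hs.sesq.smul_left, hs.sesq.smul_right,
        hO.fix j hj, hK, hqp, hAB]
      intro h
      have h' : (j * j + c₀ * c₀) * f q q = 0 := by linear_combination h
      exact hj2 (eq_neg_of_add_eq_zero_left ((mul_eq_zero.1 h').resolve_right hB))
    have h4 : f p' q' ≠ 0 := by
      simp only [hp', hq', hs.sesq.add_left, hs.sesq.add_right, hs.sesq.smul_left,
        hs.sesq.smul_right, hO.fix j hj, hK, hqp, hAB]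
      intro h
      have h' : (2 * j) * (c₀ * c₀ * f q q) = 0 := by linear_combination h
      exact mul_ne_zero (mul_ne_zero hO.two hj0) (mul_ne_zero (mul_ne_zero hs.c₀_ne hs.c₀_ne) hB) h'
    have h5 := hO.inZ_smul hM (hO.inZ_generic hM hZ hp'R hq'R h1 h3 h4) (j + c₀)⁻¹
    rwa [← e, inv_smul_smul₀ hjc] at h5
  have hA : f p p = 0 := by rw [hAB, hB, mul_zero]
  by_cases hK : f p q = 0
  swap
  · exact hO.inZ_pair hM hZ hp hq hA hB hK
  rcases eq_or_ne q 0 with rfl | hq0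
  · rw [smul_zero, add_zero]; exact hZ p hp hA
  by_cases hdep : ∃ k : F, k • q = p
  · obtain ⟨k, rfl⟩ := hdep
    rw [← add_smul]
    exact hO.inZ_smul hM (hZ q hq hB) _
  push Not at hdep
  have hp0 : p ≠ 0 := fun h => hdep 0 (by rw [h, zero_smul])
  -- dual vectors
  obtain ⟨w₁, hw₁, hw₁p, hw₁q⟩ := hs.exists_sep hp hp0 hA (w := q) (fun k hk => by
    rcases eq_or_ne k 0 with rfl | hk0
    · exact hq0 (by rw [← hk, zero_smul])
    · exact hdep k⁻¹ (by rw [← hk, inv_smul_smul₀ hk0]))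
  obtain ⟨w₂, hw₂, hw₂q, hw₂p⟩ := hs.exists_sep hq hq0 hB hdep
  set a₁ := (f w₁ q)⁻¹ • w₁ with ha₁
  set e₁ := (f w₂ p)⁻¹ • w₂ with he₁
  have ha₁R : a₁ ∈ ratVecs ι F₀ := smul_mem_ratVecs (F₀.inv_mem (hs.rat w₁ hw₁ q hq)) hw₁
  have he₁R : e₁ ∈ ratVecs ι F₀ := smul_mem_ratVecs (F₀.inv_mem (hs.rat w₂ hw₂ p hp)) hw₂
  obtain ⟨t₁, ht₁, hiso₁⟩ := hs.shift a₁ ha₁R q hq hB (by
    rw [ha₁, hs.sesq.smul_left, inv_mul_cancel₀ hw₁q]; exact one_ne_zero)
  obtain ⟨t₂, ht₂, hiso₂⟩ := hs.shift e₁ he₁R p hp hA (by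
    rw [he₁, hs.sesq.smul_left, inv_mul_cancel₀ hw₂p]; exact one_ne_zero)
  set a₂ := a₁ + t₁ • q with ha₂
  set e' := e₁ + t₂ • p with he'
  have he'R : e' ∈ ratVecs ι F₀ := Submodule.add_mem _ he₁R (smul_mem_ratVecs ht₂ hp)
  have ha₂R : a₂ ∈ ratVecs ι F₀ := Submodule.add_mem _ ha₁R (smul_mem_ratVecs ht₁ hq)
  have hqp := hs.orth_symm hK
  have hap : f a₂ p = 0 := by
    simp [ha₂, ha₁, hs.sesq.add_left, hs.sesq.smul_left, hw₁p, hqp]
  have haq : f a₂ q = 1 := by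
    simp [ha₂, ha₁, hs.sesq.add_left, hs.sesq.smul_left, hB, hw₁q]
  have hep : f e' p = 1 := by
    simp [he', he₁, hs.sesq.add_left, hs.sesq.smul_left, hA, hw₂p]
  have heq : f e' q = 0 := by
    simp [he', he₁, hs.sesq.add_left, hs.sesq.smul_left, hw₂q, hK]
  set a' := a₂ - f a₂ e' • p with ha'
  have ha'R : a' ∈ ratVecs ι F₀ :=
    Submodule.sub_mem _ ha₂R (smul_mem_ratVecs (hs.rat a₂ ha₂R e' he'R) hp)
  have hpe : f p e' = 1 := by rw [hO.symm hp he'R, hep]
  have ha'a' : f a' a' = 0 := by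
    simp only [ha', hs.sesq.sub_left, hs.sesq.sub_right, hs.sesq.smul_left, hs.sesq.smul_right, hA,
      hap, hs.orth_symm hap, hiso₁]
    ring
  have ha'e' : f a' e' = 0 := by
    rw [ha', hs.sesq.sub_left, hs.sesq.smul_left, hpe, mul_one, sub_self]
  have ha'p : f a' p = 0 := by
    rw [ha', hs.sesq.sub_left, hs.sesq.smul_left, hap, hA, mul_zero, sub_zero]
  have ha'q : f a' q = 1 := by
    rw [ha', hs.sesq.sub_left, hs.sesq.smul_left, haq, hK, mul_zero, sub_zero]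
  have hpa := hs.orth_symm ha'p
  have hea := hs.orth_symm ha'e'
  have hqa : f q a' = 1 := by rw [hO.symm hq ha'R, ha'q]
  have hqe := hs.orth_symm heq
  refine hO.inZ_split hM hZ hp hq (p' := a') (q' := q + (2 : F) • e') ha'R
    (Submodule.add_mem _ hq (smul_mem_ratVecs (ofNat_mem F₀ 2) he'R)) ha'a' ?_ ?_ ?_ ?_ ?_ hP ?_
  all_goals simp only [hs.sesq.sub_left, hs.sesq.sub_right, hs.sesq.add_left, hs.sesq.add_right,
    hs.sesq.smul_left, hs.sesq.smul_right, map_ofNat, hO.sigma_c₀, hA, hB, hK, hqp, ha'a', ha'e',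
    ha'p, ha'q, hpa, hea, hqa, hqe, heq, hep, hpe, hiso₂]
  · ring
  · ring
  · ring
  · norm_num
  · intro h
    exact hO.two (by linear_combination -h)
  · intro h
    exact hs.c₀_ne (by linear_combination h)

/-- All isotropic centres. -/
theorem forall_T {z : ι → F} (hz : f z z = 0) {c : F} (hc : c + 1 * σ c = 0) : T f z c ∈ M := by
  obtain ⟨p, hp, q, hq, rfl⟩ := hO.hs.exists_decomp hO.fx hO.fix hO.two z
  exact (hO.inZ_of_decomp hM hZ hp hq hz).2 c hc

end OSetting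

end CfsgLib.SUFour.Orth
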