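import Cfsg.Agent.SUFour.OrthMain
import Cfsg.Agent.SUFour.OrthLong

/-!
# Orthogonal subfield groups are maximal in `SU₄`

An overgroup with a transvection at a rational centre contains all transvections; any other
overgroup lies in the subfield group.
-/

set_option autoImplicit false
set_option linter.unusedSectionVars false

namespace CfsgLib.SUFour.Orth

open Matrix Cfsg.Geo CfsgLib.MaxSub CfsgLib.FormSubfield

variable {ι : Type} [Fintype ι] [DecidableEq ι] {F : Type*} [Field F] [Fintype F]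
variable {F₀ : Subfield F} {σ : F ≃+* F} {c₀ : F}

theorem OSetting.le_or_forall_T {f : (ι → F) → (ι → F) → F} (hO : OSetting F₀ σ c₀ f)
    {M : Subgroup (GL ι F)} (hM : Over F₀ f M) :
    M ≤ subfieldSubgroup F₀ (1 : GL ι F) ∨
      ∀ z, f z z = 0 → ∀ c, c + 1 * σ c = 0 → T f z c ∈ M := by
  by_cases hC : NoLong F₀ σ f M
  · exact Or.inl (hO.le_subfield hM hC)
  · simp only [NoLong, not_forall] at hC
    obtain ⟨e, he, he0, hee, c, hc, hT, hc0⟩ := hC
    exact Or.inr fun z hz d hd => hO.forall_T hM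
      (fun x hx hxx => hO.inZ_rat hM he he0 hee hc hc0 hT hx hxx) hz hd

theorem isMaximalIn_of_orth {f g : (ι → F) → (ι → F) → F} (hg : SesqForm σ g) (P : GL ι F)
    (hO : OSetting F₀ σ c₀ f) (hf : f = pullForm g 1 P)
    (Ω : Subgroup (GL ι F)) (hΩ : ∀ x, x ∈ Ω ↔ Iso g x ∧ x ∈ specialLinear ι F)
    (hgen : ∀ M : Subgroup (GL ι F),
      (∀ z, g z z = 0 → ∀ c, c / 1 + 1 * σ (c / 1) = 0 → tv (c • z) (leftVec g z) ∈ M) → Ω ≤ M) :
    IsMaximalIn Ω (subfieldSubgroup F₀ P ⊓ Ω) := by
  have hs := hO.hs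
  have hn := hO.dim
  have hζ : (1 : F) ≠ 0 := one_ne_zero
  haveI : (specialLinear ι F).Normal := MonoidHom.normal_ker _
  have hK : ∀ x, x ∈ subfieldSubgroup F₀ P ↔ P⁻¹ * x * P ∈ subfieldSubgroup F₀ (1 : GL ι F) := by
    intro x
    simp only [subfieldSubgroup, map_one, Subgroup.mem_map]
    constructor
    · rintro ⟨y, hy, rfl⟩
      exact ⟨y, hy, by simp [mul_assoc]⟩
    · rintro ⟨y, hy, e⟩
      exact ⟨y, hy, by
        have e' : y = P⁻¹ * x * P := by simpa using e
        subst e'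
        simp [mul_assoc]⟩
  have hsl : ∀ x, x ∈ specialLinear ι F → P * x * P⁻¹ ∈ specialLinear ι F := fun x h =>
    Subgroup.Normal.conj_mem inferInstance x h P
  have hiso : ∀ x, Iso f x ↔ Iso g (P * x * P⁻¹) := by
    intro x
    rw [hf]
    constructor
    · intro h u v
      have := h (((P⁻¹ : GL ι F) : Matrix ι ι F) *ᵥ u) (((P⁻¹ : GL ι F) : Matrix ι ι F) *ᵥ v)
      simp only [pullForm, mulVec_inv_mulVec] at this
      have := mul_left_cancel₀ hζ this
      simpa only [Units.val_mul, ← mulVec_mulVec] using this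
    · intro h u v
      have := h ((P : Matrix ι ι F) *ᵥ u) ((P : Matrix ι ι F) *ᵥ v)
      simp only [Units.val_mul, ← mulVec_mulVec] at this
      simp only [mulVec_mulVec _ (P⁻¹ : GL ι F).val, Units.inv_mul, one_mulVec] at this
      rw [pullForm, pullForm, this]
  refine isMaximalIn_of inf_le_right ?_ fun M hHM hMK x hx hx' => ?_
  · -- a transvection
    obtain ⟨e, ⟨he, -⟩, e', ⟨he', -⟩, hee, -, he'e⟩ := hs.exists_pair ![] (fun i => i.elim0)
      (by omega)
    have he0 : e ≠ 0 := fun h => by rw [h, hs.sesq.zero_right] at he'e; exact zero_ne_one he'e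
    refine ⟨P * T f e c₀ * P⁻¹, (hΩ _).2 ⟨(hiso _).1 (hs.T_iso hee hs.c₀_trace),
      hsl _ (T_mem_specialLinear _ _ _)⟩, fun hmem => hO.c₀_notMem ?_⟩
    have h1 := (hK _).1 hmem.1
    rw [show P⁻¹ * (P * T f e c₀ * P⁻¹) * P = T f e c₀ by group] at h1
    obtain ⟨k, hk, hkt⟩ := mem_subfieldSubgroup_one_iff.1 h1
    obtain ⟨i, hi⟩ := Function.ne_iff.1 he0
    rw [Pi.zero_apply] at hi
    have hkF : k ∈ F₀ := by
      have h3 := mulVec_mem_ratVecs hkt he i
      rw [smul_mulVec, hs.T_mulVec hee, hee] at h3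
      simpa [mul_div_assoc, div_self hi] using F₀.div_mem h3 (he i)
    have h3 := mulVec_mem_ratVecs hkt he'
    rw [smul_mulVec, hs.T_mulVec hee, he'e, mul_one] at h3
    have h4 := Submodule.sub_mem _ (smul_mem_ratVecs (F₀.inv_mem hkF) h3) he'
    rw [inv_smul_smul₀ hk, add_sub_cancel_left] at h4
    simpa [mul_div_assoc, div_self hi] using F₀.div_mem (h4 i) (he i)
  · let M' : Subgroup (GL ι F) := M.comap (MulAut.conj P).toMonoidHom
    have hmem : ∀ x, x ∈ M' ↔ P * x * P⁻¹ ∈ M := fun x => Iff.rfl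
    have hb : Over F₀ f M' := by
      refine ⟨fun y hyI hyd hyR => (hmem y).2
        (hHM ⟨(hK _).2 ?_, (hΩ _).2 ⟨(hiso y).1 hyI, hsl y hyd⟩⟩),
        fun y hy => (hiso y).2 ((hΩ _).1 (hMK ((hmem y).1 hy))).1, fun y hy => ?_⟩
      · rwa [show P⁻¹ * (P * y * P⁻¹) * P = y by group]
      · have h1 := ((hΩ _).1 (hMK ((hmem y).1 hy))).2
        have h2 := Subgroup.Normal.conj_mem inferInstance _ h1 P⁻¹
        rwa [show P⁻¹ * (P * y * P⁻¹) * P⁻¹⁻¹ = y by group] at h2
    rcases hO.le_or_forall_T hb with h | h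
    · refine absurd ⟨(hK x).2 (h ((hmem _).2 ?_)), hMK hx⟩ hx'
      rwa [show P * (P⁻¹ * x * P) * P⁻¹ = x by group]
    · refine hgen M fun z hz c hc => ?_
      set z' := ((P⁻¹ : GL ι F) : Matrix ι ι F) *ᵥ z with hz'
      have hz'0 : f z' z' = 0 := by rw [hf, pullForm, hz', mulVec_inv_mulVec, hz, mul_zero]
      have h1 := (hmem _).1 (h z' hz'0 (c / 1) hc)
      have e1 : P * T f z' (c / 1) * P⁻¹ = tv (c • z) (leftVec g z) := by
        refine ext_mulVec fun u => ?_
        rw [tv_mulVec (by rw [dotProduct_smul, hg.dot_leftVec, hz, smul_zero]), hg.dot_leftVec,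
          Units.val_mul, Units.val_mul, ← mulVec_mulVec, ← mulVec_mulVec, hs.T_mulVec hz'0,
          mulVec_add, mulVec_smul, mulVec_inv_mulVec, hf, pullForm, hz', mulVec_inv_mulVec,
          mulVec_inv_mulVec, smul_smul]
        congr 2
        field_simp
      rwa [e1] at h1


/-- Clause (8). -/
theorem isMaximalIn_subfield_orth {F : Type*} [Field F] [Fintype F] (q : ℕ)
    (hF : Fintype.card F = q ^ 2) (hodd : Odd q) (h5 : 5 ≤ q) (F₀ : Subfield F) (P : GL (Fin 4) F)
    (hcard : Fintype.card F = Nat.card F₀ ^ 2)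
    (hP : IsFormRationalStructure (Cfsg.hermForm 4 F q) F₀ 1 P) :
    IsMaximalIn (Cfsg.GU 4 F q ⊓ specialLinear (Fin 4) F)
      (subfieldSubgroup F₀ P ⊓ (Cfsg.GU 4 F q ⊓ specialLinear (Fin 4) F)) := by
  obtain ⟨σ, hne, hinv, hσ⟩ := exists_conjEquiv hF
  have hf := isUnitaryForm_hermForm (n := 4) hne hinv hσ
  have hh := sesqForm_of_unitary hf
  have hq : Nat.card F₀ = q := Nat.pow_left_injective two_ne_zero (hcard.symm.trans hF)
  have hfix : ∀ x ∈ F₀, σ x = x := fun x hx => by
    haveI : Fintype F₀ := Fintype.ofFinite _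
    rw [hσ, ← hq, Nat.card_eq_fintype_card]
    exact congrArg Subtype.val (FiniteField.pow_card (⟨x, hx⟩ : F₀))
  have hfix' : ∀ x, σ x = x → x ∈ F₀ := by
    intro x hx
    by_contra hxF
    exact hne (RingEquiv.ext fun y => subring_eq_top_of_prime Nat.prime_two hcard
      { carrier := {a | σ a = a}
        mul_mem' := fun {a b} (ha : σ a = a) (hb : σ b = b) =>
          (by rw [map_mul, ha, hb] : σ (a * b) = a * b)
        one_mem' := map_one σ
        add_mem' := fun {a b} (ha : σ a = a) (hb : σ b = b) =>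
          (by rw [map_add, ha, hb] : σ (a + b) = a + b)
        zero_mem' := map_zero σ
        neg_mem' := fun {a} (ha : σ a = a) => (by rw [map_neg, ha] : σ (-a) = -a) }
      (fun a ha => hfix a ha) hx hxF y)
  have h2 : (2 : F) ≠ 0 := Ring.two_ne_zero fun h => by
    have h1 := FiniteField.even_card_iff_char_two.1 h
    rw [hF, ← Nat.even_iff] at h1
    exact (Nat.not_even_iff_odd.2 hodd.pow) h1
  obtain ⟨δ, hδ0, hδ⟩ := exists_traceZero hne hinv
  set f' := pullForm (Cfsg.hermForm 4 F q) 1 P with hf'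
  have hs' : SesqForm σ f' := sesq_pullForm hh one_ne_zero P
  have hherm : ∀ u v, f' v u = σ (f' u v) := fun u v => by
    rw [hf', pullForm, pullForm, one_mul, one_mul, hf.herm]
  have hrat := pullForm_mem hP
  rw [← hf'] at hrat
  have hsymm : ∀ u ∈ ratVecs (Fin 4) F₀, ∀ v ∈ ratVecs (Fin 4) F₀, f' u v = f' v u :=
    fun u hu v hv => by rw [hherm u v, hfix _ (hrat u hu v hv)]
  have hs : Setting F₀ σ 1 δ f' := by
    refine
      { sesq := hs', eps := one_mul 1, sigma_sigma := hinv, sigma_eps := map_one σ,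
        herm := fun u v => by rw [one_mul]; exact hherm u v, rat := hrat,
        sigma_mem := fun x hx => by rwa [hfix x hx], c₀_ne := hδ0,
        c₀_trace := by rw [hδ]; ring,
        exists_iso := exists_iso_of_three h2 hfix hs' hsymm hrat,
        exists_iso₂ := fun h => absurd (hfix δ h) (fun e => hδ0 ((mul_eq_zero.mp
          (show (2 : F) * δ = 0 by linear_combination hδ - e)).resolve_left h2)),
        shift := fun v hv e he hee hve => ?_, trace_gen := fun c hc => ?_ }
    · have ht : - f' v v / (2 * f' v e) ∈ F₀ :=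
        F₀.div_mem (F₀.neg_mem (hrat v hv v hv)) (F₀.mul_mem (ofNat_mem F₀ 2) (hrat v hv e he))
      refine ⟨_, ht, ?_⟩
      rw [hs'.add_left, hs'.add_right, hs'.add_right, hs'.smul_left, hs'.smul_right, hs'.smul_left,
        hs'.smul_right, hee, hfix _ ht, ← hsymm v hv e he]
      field_simp
      ring
    · rw [one_mul] at hc
      obtain ⟨t, ht⟩ := norm_surjective hne hinv (a := c / δ) (by
        rw [map_div₀, hδ, eq_neg_of_add_eq_zero_right hc, neg_div_neg_eq])
      exact AddSubgroup.subset_closure ⟨t, by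
        show δ * (t * σ t) = c
        rw [ht, mul_div_cancel₀ _ hδ0]⟩
  have hO : OSetting F₀ σ δ f' :=
    ⟨hs, hfix', hfix, h2, Fintype.card_fin 4, hq.symm ▸ h5⟩
  exact isMaximalIn_of_orth hh P hO rfl _ (fun g => Iff.rfl) fun M hM =>
    su_le_of_forall_tv le_rfl hF hσ fun z hz c hc =>
      hM z hz c (by rw [div_one, one_mul]; exact hc)

end CfsgLib.SUFour.Orth
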