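import Cfsg.Agent.SUFour.SubfieldBase

/-!
# `Sp₄(q)` is maximal in `SU₄(q)`

An irrational short root coefficient gives all of them. Otherwise the rational vectors orthogonal to
the image of a rational vector form a space of dimension two at least, and the image is rational up
to a scalar.
-/

set_option autoImplicit false
set_option linter.unusedSectionVars false

namespace CfsgLib.SUFour.Subfield

open Matrix Cfsg.Geo CfsgLib.MaxSub CfsgLib.FormSubfield

variable {ι : Type} [Fintype ι] [DecidableEq ι] {F : Type*} [Field F] [Fintype F]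
variable {F₀ : Subfield F} {σ : F ≃+* F} {f : (ι → F) → (ι → F) → F}
variable {M : Subgroup (GL ι F)}

section Symplectic

variable (hs : Setting F₀ σ (-1 : F) 1 f) (hfix : ∀ x ∈ F₀, σ x = x)
variable (hself : ∀ u ∈ ratVecs ι F₀, f u u = 0)

include hs hfix hself

theorem symp_swap {u v : ι → F} (hu : u ∈ ratVecs ι F₀) (hv : v ∈ ratVecs ι F₀) :
    f v u = -f u v := by
  rw [hs.herm u v, hfix _ (hs.rat u hu v hv), neg_one_mul]

/-- One short root element gives all. -/
theorem symp_mem_coeffs (hM : Over F₀ f M) (hn : Fintype.card ι = 4) {e e' a a' : ι → F}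
    (h : Frame F₀ f e e' a a') {s : F} (hs' : ∀ x, σ x = x → x ∈ F₀)
    (hS : S σ (-1) f e a s ∈ M) : s ∈ coeffs F₀ σ (-1) f M := by
  intro d d' b b' h'
  have h1F : (1 : F) ∈ F₀ := F₀.one_mem
  obtain ⟨g, hg, hgR, hge⟩ := exists_map hs h1F hM hn h.re (h.e_ne hs h1F) h.ee h'.re
    (h'.e_ne hs h1F) h'.ee
  set p := (g : Matrix ι ι F) *ᵥ a with hp
  have hpR : p ∈ ratVecs ι F₀ := mulVec_mem_ratVecs hgR h.ra
  have hI := hM.iso g hg
  have hdp : f d p = 0 := by rw [← hge, hp, hI, h.ea]
  have hp1 : S σ (-1) f d p s ∈ M := by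
    have h1 := M.mul_mem (M.mul_mem hg hS) (M.inv_mem hg)
    rwa [hs.conj_S hI h.aa h.ee h.ea, hge] at h1
  -- drop the component along `d`
  set t := (-1 : F) * f p d'
  have ht : t ∈ F₀ := F₀.mul_mem hs.eps_mem (hs.rat p hpR d' h'.re')
  set p₀ := p - t • d with hp₀
  have hp₀R : p₀ ∈ ratVecs ι F₀ := Submodule.sub_mem _ hpR (smul_mem_ratVecs ht h'.re)
  have hdp₀ : f d p₀ = 0 := by
    rw [hp₀, hs.sesq.sub_right, hs.sesq.smul_right, hdp, h'.ee, mul_zero, sub_zero]
  have hp₀ne : p₀ ≠ 0 := by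
    intro h0
    have h1 : (g : Matrix ι ι F) *ᵥ (a - t • e) = 0 := by
      rw [mulVec_sub, mulVec_smul, hge, ← hp, ← hp₀, h0]
    refine mulVec_ne_zero g (fun h3 => ?_) h1
    have h4 := h.a'a
    rw [sub_eq_zero.1 h3, hs.sesq.smul_right, hs.orth_symm h.ea', mul_zero] at h4
    exact zero_ne_one h4
  have h0 : S σ (-1) f d p₀ s ∈ M := by
    rw [show p = p₀ + t • d by rw [hp₀]; abel, S_shift hs h1F h'.ee (hself _ hp₀R) hdp₀] at hp1
    refine (Subgroup.mul_mem_cancel_right M ?_).1 hp1
    have hd' : s * σ t - -1 * t * σ s + -1 * σ (s * σ t - -1 * t * σ s) = 0 := by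
      simp only [map_sub, map_mul, map_neg, map_one, hs.sigma_sigma]
      ring
    exact T_mem hs h1F hM h'.re h'.ee (hs' _ (by linear_combination -hd')) hd'
  -- transitivity on the plane orthogonal to `d` and `d'`
  have step : ∀ {u v : ι → F}, u ∈ ratVecs ι F₀ → v ∈ ratVecs ι F₀ → f d u = 0 → f d v = 0 →
      f u v ≠ 0 → S σ (-1) f d u s ∈ M → S σ (-1) f d v s ∈ M := by
    intro u v hu hv hdu hdv huv hSu
    have hw := Submodule.sub_mem _ hv hu
    have hc := F₀.inv_mem (hs.rat u hu v hv)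
    have hT := T_mem hs h1F hM hw (hself _ hw) hc (by rw [hfix _ hc]; ring)
    have h1 := M.mul_mem (M.mul_mem hT hSu) (M.inv_mem hT)
    rw [hs.conj_S (hM.iso _ hT) (hself _ hu) h'.ee hdu, hs.T_mulVec (hself _ hw),
      hs.T_mulVec (hself _ hw), hs.sesq.sub_right, hs.sesq.sub_right, hdu, hdv, hself _ hu,
      sub_zero, sub_zero, mul_zero, zero_smul, add_zero, inv_mul_cancel₀ huv, one_smul,
      add_sub_cancel] at h1
    exact h1
  by_cases hpb : f p₀ b ≠ 0
  · exact step hp₀R h'.ra hdp₀ h'.ea hpb h0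
  push Not at hpb
  have hpb' : f p₀ b' ≠ 0 := by
    intro hb'
    apply hp₀ne
    rw [h'.decomp hs h1F hn p₀, hpb, hb', hs.orth_symm hdp₀]
    have : f p₀ d' = 0 := by
      simp [hp₀, hs.sesq.sub_left, hs.sesq.add_left, hs.sesq.smul_left, h'.e_e' hs h1F, t]
    rw [this]
    simp
  refine step h'.ra' h'.ra h'.ea' h'.ea (by rw [h'.a'a]; exact one_ne_zero) ?_
  exact step hp₀R h'.ra' hdp₀ h'.ea' hpb' h0

theorem symp_le_or_forall_T (hn : Fintype.card ι = 4)
    (hcard : Fintype.card F = Nat.card F₀ ^ 2) (hfix' : ∀ x, σ x = x → x ∈ F₀) (hM : Over F₀ f M) :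
    M ≤ subfieldSubgroup F₀ (1 : GL ι F) ∨
      ∀ z, f z z = 0 → ∀ c, c + -1 * σ c = 0 → T f z c ∈ M := by
  have h1F : (1 : F) ∈ F₀ := F₀.one_mem
  have hfin : Module.finrank F₀ F = 2 := by
    haveI : Fintype F₀ := Fintype.ofFinite _
    have h1 := Module.card_eq_pow_finrank (K := F₀) (V := F)
    rw [hcard, Nat.card_eq_fintype_card] at h1
    exact (Nat.pow_right_injective Fintype.one_lt_card h1).symm
  haveI : Module.Finite F₀ F := Module.Finite.of_finite
  have hskew : ∀ c : F, c + -1 * σ c = 0 → c ∈ F₀ := fun c hc => hfix' c (by linear_combination -hc)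
  by_cases hA : ∀ s ∈ coeffs F₀ σ (-1) f M, s ∈ F₀
  swap
  · push Not at hA
    obtain ⟨s, hsA, hsF⟩ := hA
    refine Or.inr fun z hz c hc => forall_T hs h1F hM hn (fun x => ?_)
      (fun e he hee c' hc' => T_mem hs h1F hM he hee (hskew c' hc') hc') hz hc
    have hli : LinearIndependent F₀ ![(1 : F), s] := by
      refine LinearIndependent.pair_iff.2 fun p q hpq => ?_
      have e1 : (p : F) * 1 + (q : F) * s = 0 := hpq
      by_cases hq : (q : F) = 0
      · exact ⟨Subtype.ext (by simpa [hq] using e1), Subtype.ext hq⟩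
      · exact absurd (by
          have e2 : s = -(p : F) / q := by field_simp; linear_combination e1
          rw [e2]; exact F₀.div_mem (F₀.neg_mem p.2) q.2) hsF
    have htop := hli.span_eq_top_of_card_eq_finrank' (by rw [Fintype.card_fin, hfin])
    have hx : x ∈ Submodule.span F₀ (Set.range ![(1 : F), s]) := htop ▸ Submodule.mem_top
    rw [Matrix.range_cons, Matrix.range_cons, Matrix.range_empty, Set.union_empty,
      Set.singleton_union] at hx
    obtain ⟨p, q, rfl⟩ := Submodule.mem_span_pair.1 hx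
    show (p : F) * 1 + (q : F) * s ∈ _
    rw [mul_one, mul_comm _ s]
    exact add_coeffs hs h1F (rat_coeffs hs h1F hM p.2) (mul_rat_coeffs hs h1F hM q.2 hsA)
  refine Or.inl fun g hg => mem_of_lines hs h1F hn fun x hx hx0 hxx => ?_
  set y := (g : Matrix ι ι F) *ᵥ x with hy
  have hyy : f y y = 0 := by rw [hy, hM.iso g hg, hxx]
  have hyT : T f y 1 ∈ M :=
    conj_mem hs h1F hg hM hxx (T_mem hs h1F hM hx hxx h1F hs.c₀_trace)
  haveI : Module.Finite F₀ (ι → F) := Module.Finite.of_finite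
  haveI : Module.Finite F₀ (ratVecs ι F₀) := Module.Finite.of_finite
  let L : ratVecs ι F₀ →ₗ[F₀] F :=
    { toFun := fun z => f z.1 y
      map_add' := fun z w => hs.sesq.add_left _ _ _
      map_smul' := fun c z => hs.sesq.smul_left _ _ _ }
  have h1 := L.finrank_range_add_finrank_ker
  have h3 := Submodule.finrank_le L.range
  rw [hfin] at h3
  rw [finrank_ratVecs, hn] at h1
  obtain ⟨z, hz, hz0⟩ := Submodule.exists_mem_ne_zero_of_ne_bot
    (p := L.ker) (fun hb => by rw [hb, finrank_bot] at h1; omega)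
  refine rigid hs h1F hM hn (fun e _ _ _ c hc _ => hskew c hc) ?_ ?_ hyy hyT z.2
    (fun hh => hz0 (Subtype.ext hh)) (hself _ z.2) (LinearMap.mem_ker.1 hz)
  · intro e e' a a' h s d hd hm
    refine hA s (symp_mem_coeffs hs hfix hself hM hn h hfix' ?_)
    exact (Subgroup.mul_mem_cancel_right M (T_mem hs h1F hM h.re h.ee (hskew d hd) hd)).1 hm
  · intro y hyy _ e e' a a' h hye
    refine ⟨hfix' _ (by rw [map_mul, hs.sigma_sigma, mul_comm]),
      hfix' _ (by rw [map_mul, hs.sigma_sigma, mul_comm]), hfix' _ ?_⟩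
    have h1 := hyy
    nth_rewrite 1 [h.decomp hs h1F hn y] at h1
    rw [hye, zero_smul, add_zero] at h1
    simp only [hs.sesq.add_left, hs.sesq.smul_left, hs.orth_symm hye, mul_zero, zero_add,
      hs.herm y a', hs.herm y a] at h1
    rw [map_mul, hs.sigma_sigma]
    linear_combination h1

end Symplectic

variable {q : ℕ}

theorem isMaximalIn_subfield_symp (q : ℕ) (hF : Fintype.card F = q ^ 2) (F₀ : Subfield F)
    (P : GL (Fin 4) F) (ζ : F) (hcard : Fintype.card F = Nat.card F₀ ^ 2) (hζ0 : ζ ≠ 0)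
    (hζ : ζ + ζ ^ q = 0) (hP : IsFormRationalStructure (Cfsg.hermForm 4 F q) F₀ ζ P)
    (halt : ∀ u : Fin 4 → F, (∀ i, u i ∈ F₀) →
      Cfsg.hermForm 4 F q ((P : Matrix (Fin 4) (Fin 4) F) *ᵥ u)
        ((P : Matrix (Fin 4) (Fin 4) F) *ᵥ u) = 0) :
    IsMaximalIn (Cfsg.GU 4 F q ⊓ specialLinear (Fin 4) F)
      (subfieldSubgroup F₀ P ⊓ (Cfsg.GU 4 F q ⊓ specialLinear (Fin 4) F)) := by
  obtain ⟨σ, hne, hinv, hσ⟩ := exists_conjEquiv hF
  have hf := isUnitaryForm_hermForm (n := 4) hne hinv hσ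
  have hh := sesqForm_of_unitary hf
  have hσζ : σ ζ = -ζ := by rw [hσ]; linear_combination hζ
  have hq : Nat.card F₀ = q := Nat.pow_left_injective two_ne_zero (hcard.symm.trans hF)
  have hfix : ∀ x ∈ F₀, σ x = x := fun x hx => by
    haveI : Fintype F₀ := Fintype.ofFinite _
    rw [hσ, ← hq, Nat.card_eq_fintype_card]
    exact congrArg Subtype.val (FiniteField.pow_card (⟨x, hx⟩ : F₀))
  have hfix' : ∀ x, σ x = x → x ∈ F₀ := by
    intro x hx
    by_contra hxF
    exact hne (RingEquiv.ext fun y => subring_eq_top_of_prime Nat.prime_two hcard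
      { carrier := {a | σ a = a}
        mul_mem' := fun {a b} (ha : σ a = a) (hb : σ b = b) =>
          (by rw [map_mul, ha, hb] : σ (a * b) = a * b)
        one_mem' := map_one σ
        add_mem' := fun {a b} (ha : σ a = a) (hb : σ b = b) =>
          (by rw [map_add, ha, hb] : σ (a + b) = a + b)
        zero_mem' := map_zero σ
        neg_mem' := fun {a} (ha : σ a = a) => (by rw [map_neg, ha] : σ (-a) = -a) }
      (fun a ha => hfix a ha) hx hxF y)
  set f' := pullForm (Cfsg.hermForm 4 F q) ζ P with hf'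
  have hself : ∀ u ∈ ratVecs (Fin 4) F₀, f' u u = 0 := fun u hu => by
    rw [hf', pullForm, halt u hu, mul_zero]
  have hs : Setting F₀ σ (-1 : F) 1 f' := by
    refine
      { sesq := sesq_pullForm hh hζ0 P, eps := by ring, sigma_sigma := hinv,
        sigma_eps := by rw [map_neg, map_one], herm := fun u v => ?_, rat := pullForm_mem hP,
        sigma_mem := fun x hx => by rw [hfix x hx]; exact hx, c₀_ne := one_ne_zero,
        c₀_trace := by simp, exists_iso := fun U hU h3 => ?_, exists_iso₂ := fun _ U hU h3 => ?_,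
        shift := fun v hv e he _ _ => ⟨0, F₀.zero_mem, by
          rw [zero_smul, add_zero]; exact hself v hv⟩,
        trace_gen := fun c hc => ?_ }
    · show ζ * _ = -1 * σ (ζ * _)
      rw [map_mul, hσζ, ← hf.herm]
      ring
    rotate_left 2
    · obtain ⟨t, ht⟩ := norm_surjective hne hinv (a := c) (by linear_combination -hc)
      exact AddSubgroup.subset_closure ⟨t, by
        show (1 : F) * (t * σ t) = c
        rw [ht, one_mul]⟩
    all_goals
      have hne' : U ≠ ⊥ := fun h => by rw [h, finrank_bot] at h3; omega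
      obtain ⟨z, hz, hz0⟩ := Submodule.exists_mem_ne_zero_of_ne_bot hne'
      exact ⟨z, hz, hz0, hself z (hU hz)⟩
  exact isMaximalIn_of_dichotomy hs F₀.one_mem hh hζ0 P rfl (by simp) Nat.prime_two hcard
    (fun M hM => symp_le_or_forall_T hs hfix hself (by simp) hcard hfix' hM) _
    (fun g => Iff.rfl) fun M hM => su_le_of_forall_tv le_rfl hF hσ fun z hz c hc =>
      hM z hz c (by
        rw [map_div₀, hσζ, eq_neg_of_add_eq_zero_right hc]
        field_simp
        ring)

end CfsgLib.SUFour.Subfield
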