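import Cfsg.Agent.FormSubfield.OrthMaximal

/-!
# Rational symmetric forms in four variables inside a unitary space

The rational vectors carry a symmetric form; every vector is `p + c₀ q` with `p`, `q` rational.
Squares in the fixed field, bases of planes, rotations, and transitivity on isotropic rational
vectors.
-/

set_option autoImplicit false
set_option linter.unusedSectionVars false

namespace CfsgLib.SUFour.Orth

open Matrix Cfsg.Geo CfsgLib.MaxSub CfsgLib.FormSubfield Polynomial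

variable {ι : Type} [Fintype ι] [DecidableEq ι] {F : Type*} [Field F] [Fintype F]
variable {F₀ : Subfield F} {σ : F ≃+* F} {c₀ : F} {f : (ι → F) → (ι → F) → F}
variable {M : Subgroup (GL ι F)}

/-- The form of orthogonal type in four variables, at least five rational scalars. -/
structure OSetting (F₀ : Subfield F) (σ : F ≃+* F) (c₀ : F) (f : (ι → F) → (ι → F) → F) : Prop where
  hs : Setting F₀ σ (1 : F) c₀ f
  fx : ∀ x, σ x = x → x ∈ F₀
  fix : ∀ x ∈ F₀, σ x = x
  two : (2 : F) ≠ 0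
  dim : Fintype.card ι = 4
  five : 5 ≤ Nat.card F₀

/-- `M` consists of isometries and contains the subfield group. -/
structure Over (F₀ : Subfield F) (f : (ι → F) → (ι → F) → F) (M : Subgroup (GL ι F)) : Prop where
  lower : ∀ g : GL ι F, Iso f g → g ∈ specialLinear ι F →
    g ∈ subfieldSubgroup F₀ (1 : GL ι F) → g ∈ M
  iso : ∀ g ∈ M, Iso f g
  det : M ≤ specialLinear ι F

/-- Squares of elements of the subfield. -/
def Sq (F₀ : Subfield F) (a : F) : Prop := ∃ s ∈ F₀, a = s * s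

namespace OSetting

variable (hO : OSetting F₀ σ c₀ f)

include hO

theorem symm {u v : ι → F} (hu : u ∈ ratVecs ι F₀) (hv : v ∈ ratVecs ι F₀) : f u v = f v u :=
  hO.hs.symm_rat hO.fx hO.fix hO.two hu hv

theorem sigma_c₀ : σ c₀ = -c₀ := hO.hs.sigma_c₀

theorem c₀_notMem : c₀ ∉ F₀ := hO.hs.c₀_notMem hO.fx hO.fix hO.two

theorem sq_mem : c₀ * c₀ ∈ F₀ := hO.fx _ (by rw [map_mul, hO.sigma_c₀, neg_mul_neg])

theorem sq_nonsq : ¬ Sq F₀ (c₀ * c₀) := by
  rintro ⟨s, hs, h⟩
  rcases mul_self_eq_mul_self_iff.1 h with h' | h'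
  · exact hO.c₀_notMem (h' ▸ hs)
  · exact hO.c₀_notMem (h' ▸ F₀.neg_mem hs)

theorem skew_mem {c : F} (hc : c + 1 * σ c = 0) : c / c₀ ∈ F₀ := hO.fx _ (by
  rw [map_div₀, hO.sigma_c₀, show σ c = -c by linear_combination hc, neg_div_neg_eq])

theorem skew_of_mem {k : F} (hk : k ∈ F₀) : c₀ * k + 1 * σ (c₀ * k) = 0 := by
  rw [map_mul, hO.fix k hk, hO.sigma_c₀]; ring

theorem norm_mem (k : F) : k * σ k ∈ F₀ :=
  hO.fx _ (by rw [map_mul, hO.hs.sigma_sigma, mul_comm])

theorem self_mem (v : ι → F) : f v v ∈ F₀ := hO.fx _ (hO.hs.sigma_f' v v)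

theorem exists_sq_ne (a : F) : ∃ j ∈ F₀, j ≠ 0 ∧ j * j ≠ a := by
  classical
  by_contra h
  push Not at h
  haveI : Fintype F₀ := Fintype.ofFinite _
  obtain ⟨i, -, hi0⟩ : ∃ i : F₀, i ∈ (Finset.univ : Finset F₀) ∧ i ≠ 0 := ⟨1, Finset.mem_univ _, one_ne_zero⟩
  have hsub : (Finset.univ : Finset F₀) ⊆ {0, i, -i} := by
    intro j _
    simp only [Finset.mem_insert, Finset.mem_singleton]
    by_cases hj : j = 0
    · exact Or.inl hj
    have hjF : (j : F) ≠ 0 := fun e => hj (Subtype.ext e)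
    have hiF : (i : F) ≠ 0 := fun e => hi0 (Subtype.ext e)
    have e : (j : F) * j = i * i := (h j j.2 hjF).trans (h i i.2 hiF).symm
    rcases mul_self_eq_mul_self_iff.1 e with h' | h'
    · exact Or.inr (Or.inl (Subtype.ext h'))
    · exact Or.inr (Or.inr (Subtype.ext h'))
  have h1 := (Finset.card_le_card hsub).trans Finset.card_le_three
  rw [Finset.card_univ, ← Nat.card_eq_fintype_card] at h1
  have := hO.five
  omega

theorem nonsq_div {a b : F} (ha : a ∈ F₀) (hb : b ∈ F₀) (ha' : ¬ Sq F₀ a) (hb' : ¬ Sq F₀ b) :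
    Sq F₀ (a / b) := by
  classical
  haveI : Fintype F₀ := Fintype.ofFinite _
  have hchar : ringChar F₀ ≠ 2 := fun h => hO.two (by
    haveI : CharP F₀ 2 := h ▸ ringChar.charP F₀
    exact congrArg Subtype.val (CharP.ofNat_eq_zero F₀ 2 : (2 : F₀) = 0))
  have hsq : ∀ {c : F₀}, ¬ Sq F₀ (c : F) → quadraticChar F₀ c = -1 := fun {c} hc =>
    quadraticChar_neg_one_iff_not_isSquare.2 fun ⟨s, hs⟩ => hc ⟨s, s.2, congrArg Subtype.val hs⟩
  set A : F₀ := ⟨a, ha⟩
  set B : F₀ := ⟨b, hb⟩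
  have hA0 : A ≠ 0 := fun h => ha' ⟨0, F₀.zero_mem, by
    rw [mul_zero]; exact congrArg Subtype.val h⟩
  have hB0 : B ≠ 0 := fun h => hb' ⟨0, F₀.zero_mem, by
    rw [mul_zero]; exact congrArg Subtype.val h⟩
  have hAB : quadraticChar F₀ (A * B) = 1 := by
    rw [map_mul, hsq (c := A) ha', hsq (c := B) hb']; norm_num
  obtain ⟨s, hs⟩ := (quadraticChar_one_iff_isSquare (mul_ne_zero hA0 hB0)).1 hAB
  have e : a * b = (s : F) * s := congrArg Subtype.val hs
  refine ⟨(s : F) / b, F₀.div_mem s.2 hb, ?_⟩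
  have hb0 : b ≠ 0 := fun h => hB0 (Subtype.ext h)
  field_simp
  linear_combination e

/-- A binary form represents everything. -/
theorem exists_represent {A B v : F} (hA : A ∈ F₀) (hB : B ∈ F₀) (hv : v ∈ F₀) (hA0 : A ≠ 0)
    (hB0 : B ≠ 0) : ∃ x ∈ F₀, ∃ y ∈ F₀, x * x * A + y * y * B = v := by
  classical
  haveI : Fintype F₀ := Fintype.ofFinite _
  set A' : F₀ := ⟨A, hA⟩
  set B' : F₀ := ⟨B, hB⟩
  set K' : F₀ := ⟨-v, F₀.neg_mem hv⟩
  have hodd : Fintype.card F₀ % 2 = 1 := by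
    refine FiniteField.odd_card_of_char_ne_two fun h => hO.two ?_
    haveI : CharP F₀ 2 := h ▸ ringChar.charP F₀
    exact congrArg Subtype.val (CharP.ofNat_eq_zero F₀ 2 : (2 : F₀) = 0)
  obtain ⟨x, y, hxy⟩ := FiniteField.exists_root_sum_quadratic
    (f := C A' * X ^ 2) (g := C B' * X ^ 2 + C K')
    (degree_C_mul_X_pow 2 (fun h => hA0 (congrArg Subtype.val h))) (by
      have hB' : B' ≠ 0 := fun h => hB0 (congrArg Subtype.val h)
      have h6 : degree (C B' * X ^ 2) = ((2 : ℕ) : WithBot ℕ) := degree_C_mul_X_pow 2 hB'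
      have h7 : degree (C K') < degree (C B' * X ^ 2) := by
        rw [h6]
        exact lt_of_le_of_lt degree_C_le (by exact_mod_cast (show (0 : ℕ) < 2 by norm_num))
      rw [degree_add_eq_left_of_degree_lt h7, h6]; rfl) hodd
  simp only [eval_mul, eval_C, eval_pow, eval_X, eval_add] at hxy
  have h := congrArg Subtype.val hxy
  simp only [A', B', K', AddMemClass.coe_add, MulMemClass.coe_mul, SubmonoidClass.coe_pow,
    ZeroMemClass.coe_zero] at h
  exact ⟨x, x.2, y, y.2, by linear_combination h⟩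

/-- An orthogonal basis. -/
theorem decomp (b : Fin 4 → ι → F) (hne : ∀ i, f (b i) (b i) ≠ 0)
    (horth : ∀ i j, i ≠ j → f (b i) (b j) = 0) (x : ι → F) :
    x = ∑ i, (f x (b i) / f (b i) (b i)) • b i := by
  have hsum : ∀ (c : Fin 4 → F) (j : Fin 4), f (∑ i, c i • b i) (b j) = c j * f (b j) (b j) := by
    intro c j
    simp only [Fin.sum_univ_four, hO.hs.sesq.add_left, hO.hs.sesq.smul_left]
    fin_cases j <;> simp [horth]
  have hli : LinearIndependent F b := by
    rw [Fintype.linearIndependent_iff]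
    intro c hc j
    have h1 := hsum c j
    rw [hc, hO.hs.sesq.zero_left] at h1
    exact (mul_eq_zero.1 h1.symm).resolve_right (hne j)
  have hspan := hli.span_eq_top_of_card_eq_finrank'
    (by rw [Fintype.card_fin, Module.finrank_fintype_fun_eq_card, hO.dim])
  set d := x - ∑ i, (f x (b i) / f (b i) (b i)) • b i with hd
  suffices d = 0 from sub_eq_zero.1 this
  by_contra hd0
  obtain ⟨-, ⟨z, hz⟩⟩ := hO.hs.sesq.nondegenerate d hd0
  apply hz
  have hz' : z ∈ Submodule.span F (Set.range b) := hspan ▸ Submodule.mem_top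
  clear hz
  induction hz' using Submodule.span_induction with
  | mem y hy =>
    obtain ⟨i, rfl⟩ := hy
    rw [hd, hO.hs.sesq.sub_left, hsum, div_mul_cancel₀ _ (hne i), sub_self]
  | zero => exact hO.hs.sesq.zero_right _
  | add y y' _ _ hy hy' => rw [hO.hs.sesq.add_right, hy, hy', add_zero]
  | smul c y _ hy => rw [hO.hs.sesq.smul_right, hy, mul_zero]

/-- An orthogonal basis of a non-degenerate rational plane and of its perpendicular. -/
theorem exists_perp_basis {p q : ι → F} (hp : p ∈ ratVecs ι F₀) (hq : q ∈ ratVecs ι F₀)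
    (hdet : f p p * f q q - f p q * f p q ≠ 0) :
    ∃ a ∈ ratVecs ι F₀, ∃ b ∈ ratVecs ι F₀, f a a ≠ 0 ∧ f b b ≠ 0 ∧ f a b = 0 ∧ f a p = 0 ∧
      f a q = 0 ∧ f b p = 0 ∧ f b q = 0 ∧
      ∀ x : ι → F, f x p = 0 → f x q = 0 → x = (f x a / f a a) • a + (f x b / f b b) • b := by
  haveI : Module.Finite F₀ (ι → F) := Module.Finite.of_finite
  have hs := hO.hs
  have hqp : f q p = f p q := hO.symm hq hp
  -- orthogonal basis of the plane
  obtain ⟨u, hu, u', hu', huu, hu'u', huu', hspan⟩ : ∃ u ∈ ratVecs ι F₀, ∃ u' ∈ ratVecs ι F₀,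
      f u u ≠ 0 ∧ f u' u' ≠ 0 ∧ f u u' = 0 ∧ ∀ x : ι → F, (f x p = 0 ∧ f x q = 0) ↔ (f x u = 0 ∧ f x u' = 0) := by
    obtain ⟨u, hu, v, hv, huu, hdet', hspan⟩ : ∃ u ∈ ratVecs ι F₀, ∃ v ∈ ratVecs ι F₀, f u u ≠ 0 ∧
        f u u * f v v - f u v * f u v ≠ 0 ∧
        ∀ x : ι → F, (f x p = 0 ∧ f x q = 0) ↔ (f x u = 0 ∧ f x v = 0) := by
      by_cases h1 : f p p ≠ 0
      · exact ⟨p, hp, q, hq, h1, hdet, fun _ => Iff.rfl⟩
      push Not at h1
      by_cases h3 : f q q ≠ 0
      · refine ⟨q, hq, p, hp, h3, ?_, fun _ => and_comm⟩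
        rw [hqp, mul_comm]; exact hdet
      push Not at h3
      have hK : f p q ≠ 0 := fun h => hdet (by rw [h1, h]; ring)
      refine ⟨p + q, Submodule.add_mem _ hp hq, p, hp, ?_, ?_, fun x => ?_⟩
      · simp only [hs.sesq.add_left, hs.sesq.add_right, h1, h3, hqp, add_zero, zero_add]
        rw [← two_mul]; exact mul_ne_zero hO.two hK
      · simp only [hs.sesq.add_left, hs.sesq.add_right, h1, h3, hqp, add_zero, zero_add, mul_zero,
          zero_sub]
        exact neg_ne_zero.2 (mul_ne_zero hK hK)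
      · rw [hs.sesq.add_right]
        exact ⟨fun h => ⟨by rw [h.1, h.2, add_zero], h.1⟩,
          fun h => ⟨h.2, by rw [h.2, zero_add] at h; exact h.1⟩⟩
    have hk : f v u / f u u ∈ F₀ := F₀.div_mem (hs.rat v hv u hu) (hs.rat u hu u hu)
    have hvu : f v u = f u v := hO.symm hv hu
    refine ⟨u, hu, v - (f v u / f u u) • u, Submodule.sub_mem _ hv (smul_mem_ratVecs hk hu), huu,
      ?_, ?_, fun x => (hspan x).trans ?_⟩
    · have e : f (v - (f v u / f u u) • u) (v - (f v u / f u u) • u) =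
          (f u u * f v v - f u v * f u v) / f u u := by
        simp only [hs.sesq.sub_left, hs.sesq.sub_right, hs.sesq.smul_left, hs.sesq.smul_right,
          hO.fix _ hk, hvu]
        field_simp
        ring
      rw [e]; exact div_ne_zero hdet' huu
    · rw [hs.sesq.sub_right, hs.sesq.smul_right, hO.fix _ hk, hvu, div_mul_cancel₀ _ huu, sub_self]
    · rw [hs.sesq.sub_right, hs.sesq.smul_right, hO.fix _ hk]
      exact ⟨fun h => ⟨h.1, by rw [h.1, h.2]; ring⟩,
        fun h => ⟨h.1, by rw [h.1, mul_zero, sub_zero] at h; exact h.2⟩⟩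
  obtain ⟨a, ha, haa⟩ := hs.exists_aniso_perp' hO.fx hO.fix hO.two ![u, u']
    (fun i => by fin_cases i <;> assumption) 0 huu (by rw [hO.dim])
  have h3 := hs.finrank_perp ![u, u', a] (fun i => by
    fin_cases i
    · exact hu
    · exact hu'
    · exact ha.1)
  rw [hO.dim] at h3
  obtain ⟨b, hb, hb0⟩ := Submodule.exists_mem_ne_zero_of_ne_bot
    (show hs.perp ![u, u', a] ≠ ⊥ from fun h => by rw [h, finrank_bot] at h3; omega)
  have hau : f a u = 0 := ha.2 0
  have hau' : f a u' = 0 := ha.2 1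
  have hbu : f b u = 0 := hb.2 0
  have hbu' : f b u' = 0 := hb.2 1
  have hba : f b a = 0 := hb.2 2
  have hbb : f b b ≠ 0 := by
    intro hbb
    -- an orthogonal triple and `b`
    refine hb0 (hs.eq_zero_of_orth_rat fun x hx => hs.orth_symm ?_)
    by_contra hbx
    set w := x - (f x u / f u u) • u - (f x u' / f u' u') • u' - (f x a / f a a) • a with hw
    have hwb : f w b = f x b := by
      simp [hw, hs.sesq.sub_left, hs.sesq.smul_left, hs.orth_symm hbu, hs.orth_symm hbu',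
        hs.orth_symm hba]
    have hwR : w ∈ ratVecs ι F₀ := Submodule.sub_mem _ (Submodule.sub_mem _ (Submodule.sub_mem _ hx
      (smul_mem_ratVecs (F₀.div_mem (hs.rat x hx u hu) (hs.rat u hu u hu)) hu))
      (smul_mem_ratVecs (F₀.div_mem (hs.rat x hx u' hu') (hs.rat u' hu' u' hu')) hu'))
      (smul_mem_ratVecs (F₀.div_mem (hs.rat x hx a ha.1) (hs.rat a ha.1 a ha.1)) ha.1)
    have hwu : f w u = 0 := by
      simp [hw, hs.sesq.sub_left, hs.sesq.smul_left, hs.orth_symm huu', hau, huu]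
    have hwu' : f w u' = 0 := by
      simp [hw, hs.sesq.sub_left, hs.sesq.smul_left, huu', hau', hu'u']
    have hwa : f w a = 0 := by
      simp [hw, hs.sesq.sub_left, hs.sesq.smul_left, hs.orth_symm hau, hs.orth_symm hau', haa]
    -- five vectors in four dimensions
    have hwb0 : f w b ≠ 0 := by rw [hwb]; exact hs.ne_symm hbx
    have hli : LinearIndependent F ![u, u', a, b, w] := by
      rw [Fintype.linearIndependent_iff]
      intro c hc
      simp only [Fin.sum_univ_five, Matrix.cons_val_zero, Matrix.cons_val_one, Matrix.cons_val] at hc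
      have k1 := congrArg (fun z => f z u) hc
      have k2 := congrArg (fun z => f z u') hc
      have k3 := congrArg (fun z => f z a) hc
      have k4 := congrArg (fun z => f z b) hc
      have k5 := congrArg (fun z => f z w) hc
      simp only [hs.sesq.add_left, hs.sesq.smul_left, hs.sesq.zero_left, huu', hs.orth_symm huu',
        hau, hs.orth_symm hau, hau', hs.orth_symm hau', hbu, hs.orth_symm hbu, hbu',
        hs.orth_symm hbu', hba, hs.orth_symm hba, hbb, hwu, hs.orth_symm hwu, hwu',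
        hs.orth_symm hwu', hwa, hs.orth_symm hwa, mul_zero, add_zero, zero_add, mul_eq_zero, huu,
        hu'u', haa, hwb0, or_false] at k1 k2 k3 k4 k5
      rw [k4, zero_mul, add_zero, mul_eq_zero, or_iff_left (hs.ne_symm hwb0)] at k5
      intro i
      fin_cases i <;> assumption
    have h5 := hli.fintype_card_le_finrank
    rw [Fintype.card_fin, Module.finrank_fintype_fun_eq_card, hO.dim] at h5
    omega
  refine ⟨a, ha.1, b, hb.1, haa, hbb, hs.orth_symm hba, ((hspan a).2 ⟨hau, hau'⟩).1,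
    ((hspan a).2 ⟨hau, hau'⟩).2, ((hspan b).2 ⟨hbu, hbu'⟩).1, ((hspan b).2 ⟨hbu, hbu'⟩).2,
    fun x hxp hxq => ?_⟩
  obtain ⟨hxu, hxu'⟩ := (hspan x).1 ⟨hxp, hxq⟩
  have h1 := hO.decomp ![u, u', a, b] (fun i => by fin_cases i <;> assumption) (fun i j hij => by
    fin_cases i <;> fin_cases j <;>
      simp_all [hs.orth_symm huu', hs.orth_symm hau, hs.orth_symm hau', hs.orth_symm hbu,
        hs.orth_symm hbu', hs.orth_symm hba]) x
  simpa [Fin.sum_univ_four, hxu, hxu'] using h1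

/-! ### Rational isometries in `M` -/

variable (hM : Over F₀ f M)

include hM

theorem refl₂_mem {a b : ι → F} (ha : a ∈ ratVecs ι F₀) (hb : b ∈ ratVecs ι F₀) (haa : f a a ≠ 0)
    (hbb : f b b ≠ 0) : refl f a * refl f b ∈ M :=
  hM.lower _ (hO.hs.refl₂_iso haa hbb) (hO.hs.refl₂_mem_specialLinear haa hbb)
    (mem_subfieldSubgroup_one_of_rat (hO.hs.ratMat_refl₂ ha hb haa hbb))

theorem rat_radical_mem {e v : ι → F} (he : e ∈ ratVecs ι F₀) (hv : v ∈ ratVecs ι F₀)
    (hee : f e e = 0) (hve : f v e = 0) : R f e v (-(f v v) / 2) ∈ M := by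
  have h2 := hO.two
  have hd : -(f v v) / 2 ∈ F₀ :=
    F₀.div_mem (F₀.neg_mem (hO.hs.rat v hv v hv)) (ofNat_mem F₀ 2)
  refine hM.lower _ (hO.hs.R_iso hee hve ?_) (R_mem_specialLinear f e v _)
    (mem_subfieldSubgroup_one_of_rat (hO.hs.ratMat_R he hv hee hve hd))
  rw [hO.fix _ hd]
  field_simp
  ring

omit hM in
theorem refl_diff {e x : ι → F} (he : e ∈ ratVecs ι F₀) (hx : x ∈ ratVecs ι F₀) (hee : f e e = 0)
    (hxx : f x x = 0) (h : f e x ≠ 0) :
    f (e - x) (e - x) = -2 * f e x ∧ (refl f (e - x) : Matrix ι ι F) *ᵥ e = x := by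
  have haa : f (e - x) (e - x) = -2 * f e x := by
    simp only [hO.hs.sesq.sub_left, hO.hs.sesq.sub_right, hee, hxx, hO.symm hx he]; ring
  refine ⟨haa, ?_⟩
  rw [hO.hs.refl_mulVec (by rw [haa]; exact mul_ne_zero (neg_ne_zero.2 hO.two) h), haa,
    hO.hs.sesq.sub_right, hee, zero_sub, neg_mul, mul_neg, neg_div_neg_eq, div_self
      (mul_ne_zero hO.two h), one_smul, sub_sub_cancel]

theorem exists_map_of_ne {e x : ι → F} (he : e ∈ ratVecs ι F₀) (hx : x ∈ ratVecs ι F₀)
    (hee : f e e = 0) (hxx : f x x = 0) (h : f e x ≠ 0) :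
    ∃ g ∈ M, RatMat F₀ (g : Matrix ι ι F) ∧ (g : Matrix ι ι F) *ᵥ e = x := by
  obtain ⟨a, ha, b, -, haa, -, -, hae, hax, -, -, -⟩ := hO.exists_perp_basis he hx
    (by rw [hee, hxx, zero_mul, zero_sub]; exact neg_ne_zero.2 (mul_ne_zero h h))
  obtain ⟨h1, h3⟩ := hO.refl_diff he hx hee hxx h
  have hne : f (e - x) (e - x) ≠ 0 := by rw [h1]; exact mul_ne_zero (neg_ne_zero.2 hO.two) h
  refine ⟨refl f (e - x) * refl f a, hO.refl₂_mem hM (Submodule.sub_mem _ he hx) ha hne haa,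
    hO.hs.ratMat_refl₂ (Submodule.sub_mem _ he hx) ha hne haa, ?_⟩
  rw [Units.val_mul, ← mulVec_mulVec, hO.hs.refl_mulVec haa, hO.hs.orth_symm hae]
  simpa using h3

theorem exists_map {e x : ι → F} (he : e ∈ ratVecs ι F₀) (he0 : e ≠ 0) (hee : f e e = 0)
    (hx : x ∈ ratVecs ι F₀) (hx0 : x ≠ 0) (hxx : f x x = 0) :
    ∃ g ∈ M, RatMat F₀ (g : Matrix ι ι F) ∧ (g : Matrix ι ι F) *ᵥ e = x := by
  have hs := hO.hs
  by_cases hex : f e x = 0
  swap
  · exact hO.exists_map_of_ne hM he hx hee hxx hex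
  obtain ⟨p, hp, hpp, hpe, hpx⟩ : ∃ p ∈ ratVecs ι F₀, f p p = 0 ∧ f e p ≠ 0 ∧ f p x ≠ 0 := by
    obtain ⟨e₁, he₁, he₁e₁, he₁e⟩ := hs.exists_partner he he0 hee
    obtain ⟨e₂, he₂, he₂e₂, he₂x⟩ := hs.exists_partner hx hx0 hxx
    by_cases h1 : f e₁ x = 0
    swap
    · exact ⟨e₁, he₁, he₁e₁, hs.ne_symm (by rw [he₁e]; exact one_ne_zero), h1⟩
    by_cases h3 : f e₂ e = 0
    swap
    · exact ⟨e₂, he₂, he₂e₂, hs.ne_symm h3, by rw [he₂x]; exact one_ne_zero⟩
    have hse : f (e₁ + e₂) e = 1 := by rw [hs.sesq.add_left, he₁e, h3, add_zero]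
    obtain ⟨t, ht, hiso⟩ := hs.shift (e₁ + e₂) (Submodule.add_mem _ he₁ he₂) e he hee
      (by rw [hse]; exact one_ne_zero)
    refine ⟨_, Submodule.add_mem _ (Submodule.add_mem _ he₁ he₂) (smul_mem_ratVecs ht he), hiso,
      hs.ne_symm ?_, ?_⟩
    · rw [hs.sesq.add_left, hse, hs.sesq.smul_left, hee, mul_zero, add_zero]
      exact one_ne_zero
    · rw [hs.sesq.add_left, hs.sesq.add_left, hs.sesq.smul_left, h1, he₂x, hex, mul_zero, add_zero,
        zero_add]
      exact one_ne_zero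
  obtain ⟨g, hg, hgR, hge⟩ := hO.exists_map_of_ne hM he hp hee hpp hpe
  obtain ⟨k, hk, hkR, hkp⟩ := hO.exists_map_of_ne hM hp hx hpp hxx hpx
  exact ⟨k * g, M.mul_mem hk hg, by rw [Units.val_mul]; exact hkR.mul hgR,
    by rw [Units.val_mul, ← mulVec_mulVec, hge, hkp]⟩

end OSetting

end CfsgLib.SUFour.Orth
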