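import Cfsg.Agent.SUFour.OrthRigid

/-!
# Images of rational isotropic vectors

Let `g e = p + c₀ q`. The plane of `p`, `q` is degenerate or hyperbolic with anisotropic
perpendicular, by conjugating rotations and diagonal elements.
-/

set_option autoImplicit false
set_option linter.unusedSectionVars false

namespace CfsgLib.SUFour.Orth

open Matrix Cfsg.Geo CfsgLib.MaxSub CfsgLib.FormSubfield

variable {ι : Type} [Fintype ι] [DecidableEq ι] {F : Type*} [Field F] [Fintype F]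
variable {F₀ : Subfield F} {σ : F ≃+* F} {c₀ : F} {f : (ι → F) → (ι → F) → F}
variable {M : Subgroup (GL ι F)}

/-- `g` sends `e` to `p + c₀ q`, spanning a non-degenerate plane, and `e₁` into that plane. -/
structure Config (F₀ : Subfield F) (c₀ : F) (f : (ι → F) → (ι → F) → F) (g : GL ι F)
    (e e₁ p q a b : ι → F) : Prop where
  re : e ∈ ratVecs ι F₀
  re₁ : e₁ ∈ ratVecs ι F₀
  rp : p ∈ ratVecs ι F₀
  rq : q ∈ ratVecs ι F₀
  ra : a ∈ ratVecs ι F₀
  rb : b ∈ ratVecs ι F₀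
  ee : f e e = 0
  e₁e₁ : f e₁ e₁ = 0
  e₁e : f e₁ e = 1
  det : f p p * f q q - f p q * f p q ≠ 0
  aa : f a a ≠ 0
  bb : f b b ≠ 0
  ab : f a b = 0
  ap : f a p = 0
  aq : f a q = 0
  bp : f b p = 0
  bq : f b q = 0
  perp : ∀ x : ι → F, f x p = 0 → f x q = 0 → x = (f x a / f a a) • a + (f x b / f b b) • b
  ge : (g : Matrix ι ι F) *ᵥ e = p + c₀ • q
  ge₁a : f ((g : Matrix ι ι F) *ᵥ e₁) a = 0
  ge₁b : f ((g : Matrix ι ι F) *ᵥ e₁) b = 0

namespace OSetting

variable (hO : OSetting F₀ σ c₀ f)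

include hO

/-- A vector orthogonal to the perpendicular lies in the plane. -/
theorem in_plane {g : GL ι F} {e e₁ p q a b : ι → F} (h : Config F₀ c₀ f g e e₁ p q a b) {x : ι → F}
    (hxa : f x a = 0) (hxb : f x b = 0) : ∃ α β : F, x = α • p + β • q ∧
      (x ∈ ratVecs ι F₀ → α ∈ F₀ ∧ β ∈ F₀) := by
  have hs := hO.hs
  set A := f p p with hA
  set B := f q q with hB
  set K := f p q with hK
  have hd : A * B - K * K ≠ 0 := h.det
  have hqp : f q p = K := hO.symm h.rq h.rp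
  refine ⟨(f x p * B - f x q * K) / (A * B - K * K), (f x q * A - f x p * K) / (A * B - K * K), ?_,
    fun hx => ?_⟩
  · set y := x - (((f x p * B - f x q * K) / (A * B - K * K)) • p +
      ((f x q * A - f x p * K) / (A * B - K * K)) • q) with hy
    have h1 : f y p = 0 := by
      simp only [hy, hs.sesq.sub_left, hs.sesq.add_left, hs.sesq.smul_left, ← hA, hqp]
      linear_combination (-(f x p)) * div_self hd
    have h3 : f y q = 0 := by
      simp only [hy, hs.sesq.sub_left, hs.sesq.add_left, hs.sesq.smul_left, ← hB, ← hK]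
      linear_combination (-(f x q)) * div_self hd
    have h4 : f y a = 0 := by
      simp [hy, hs.sesq.sub_left, hs.sesq.add_left, hs.sesq.smul_left, hs.orth_symm h.ap,
        hs.orth_symm h.aq, hxa]
    have h5 : f y b = 0 := by
      simp [hy, hs.sesq.sub_left, hs.sesq.add_left, hs.sesq.smul_left, hs.orth_symm h.bp,
        hs.orth_symm h.bq, hxb]
    have h6 := h.perp y h1 h3
    rw [h4, h5, zero_div, zero_div, zero_smul, zero_smul, add_zero, hy, sub_eq_zero] at h6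
    exact h6
  · have hd' := F₀.sub_mem (F₀.mul_mem (hO.self_mem p) (hO.self_mem q))
      (F₀.mul_mem (hs.rat p h.rp q h.rq) (hs.rat p h.rp q h.rq))
    exact ⟨F₀.div_mem (F₀.sub_mem (F₀.mul_mem (hs.rat x hx p h.rp) (hO.self_mem q))
        (F₀.mul_mem (hs.rat x hx q h.rq) (hs.rat p h.rp q h.rq))) hd',
      F₀.div_mem (F₀.sub_mem (F₀.mul_mem (hs.rat x hx q h.rq) (hO.self_mem p))
        (F₀.mul_mem (hs.rat x hx p h.rp) (hs.rat p h.rp q h.rq))) hd'⟩

variable (hM : Over F₀ f M) (hC : NoLong F₀ σ f M)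

include hM hC

/-- Existence of a configuration. -/
theorem exists_config {g : GL ι F} (hg : g ∈ M) {e p q : ι → F} (he : e ∈ ratVecs ι F₀) (he0 : e ≠ 0)
    (hee : f e e = 0) (hp : p ∈ ratVecs ι F₀) (hq : q ∈ ratVecs ι F₀)
    (hge : (g : Matrix ι ι F) *ᵥ e = p + c₀ • q) (hdet : f p p * f q q - f p q * f p q ≠ 0) :
    ∃ e₁ a b, Config F₀ c₀ f g e e₁ p q a b := by
  have hs := hO.hs
  have hI := hM.iso g hg
  obtain ⟨a, ha, b, hb, haa, hbb, hab, hap, haq, hbp, hbq, hperp⟩ := hO.exists_perp_basis hp hq hdet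
  set J := refl f a * refl f b with hJ
  have hJM : J ∈ M := hO.refl₂_mem hM ha hb haa hbb
  have hJx : ∀ x, (J : Matrix ι ι F) *ᵥ x = x - (2 * f x a / f a a) • a - (2 * f x b / f b b) • b :=
    hs.refl₂_mulVec haa hbb hab
  set ρ := g⁻¹ * J * g with hρ
  have hρM : ρ ∈ M := M.mul_mem (M.mul_mem (M.inv_mem hg) hJM) hg
  have hρI := hM.iso ρ hρM
  have hρe : (ρ : Matrix ι ι F) *ᵥ e = e := by
    rw [hρ, Units.val_mul, Units.val_mul, ← mulVec_mulVec, ← mulVec_mulVec, hge, hJx]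
    simp only [hs.sesq.add_left, hs.sesq.smul_left, hs.orth_symm hap, hs.orth_symm haq,
      hs.orth_symm hbp, hs.orth_symm hbq]
    simp only [mul_zero, add_zero, zero_div, zero_smul, sub_zero, ← hge, mulVec_mulVec, Units.inv_mul,
      one_mulVec]
  have hρR := hO.rat_of_fix hM hC hρM he he0 hee hρe
  have hρ2 : ∀ x, (ρ : Matrix ι ι F) *ᵥ ((ρ : Matrix ι ι F) *ᵥ x) = x := by
    intro x
    have hJ2 : J * J = 1 := by
      refine ext_mulVec fun y => ?_
      rw [Units.val_mul, ← mulVec_mulVec, hJx, hJx, Units.val_one, one_mulVec]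
      simp only [hs.sesq.sub_left, hs.sesq.smul_left, hab, hs.orth_symm hab]
      match_scalars <;> field_simp <;> ring
    rw [mulVec_mulVec, ← Units.val_mul, hρ, show g⁻¹ * J * g * (g⁻¹ * J * g) = g⁻¹ * (J * J) * g by group,
      hJ2, mul_one, inv_mul_cancel, Units.val_one, one_mulVec]
  obtain ⟨e', he', -, he'e⟩ := hs.exists_partner he he0 hee
  set x := (1 / 2 : F) • (e' + (ρ : Matrix ι ι F) *ᵥ e') with hx
  have hxR : x ∈ ratVecs ι F₀ := smul_mem_ratVecs (F₀.div_mem F₀.one_mem (ofNat_mem F₀ 2))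
    (Submodule.add_mem _ he' (mulVec_mem_ratVecs hρR he'))
  have hρe' : f ((ρ : Matrix ι ι F) *ᵥ e') e = 1 := by
    have h1 := hρI e' e
    rwa [hρe, he'e] at h1
  have hxe : f x e = 1 := by
    rw [hx, hs.sesq.smul_left, hs.sesq.add_left, he'e, hρe']
    have := hO.two
    field_simp
    ring
  have hρx : (ρ : Matrix ι ι F) *ᵥ x = x := by
    rw [hx, mulVec_smul, mulVec_add, hρ2, add_comm]
  clear_value x
  obtain ⟨t, ht, hiso⟩ := hs.shift x hxR e he hee (by rw [hxe]; exact one_ne_zero)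
  set e₁ := x + t • e with he₁
  have hρe₁ : (ρ : Matrix ι ι F) *ᵥ e₁ = e₁ := by rw [he₁, mulVec_add, mulVec_smul, hρx, hρe]
  have hJe₁ : (J : Matrix ι ι F) *ᵥ ((g : Matrix ι ι F) *ᵥ e₁) = (g : Matrix ι ι F) *ᵥ e₁ := by
    have h1 := congrArg (fun y => (g : Matrix ι ι F) *ᵥ y) hρe₁
    simp only [hρ, Units.val_mul, ← mulVec_mulVec, mulVec_inv_mulVec] at h1
    exact h1
  set Y := (g : Matrix ι ι F) *ᵥ e₁ with hY
  have hzero : f Y a = 0 ∧ f Y b = 0 := by
    rw [hJx] at hJe₁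
    have k1 := congrArg (fun v => f v a) hJe₁
    have k2 := congrArg (fun v => f v b) hJe₁
    simp only [hs.sesq.sub_left, hs.sesq.smul_left, hab, hs.orth_symm hab, mul_zero, sub_zero,
      div_mul_cancel₀ _ haa, div_mul_cancel₀ _ hbb] at k1 k2
    exact ⟨(mul_eq_zero.1 (show (2 : F) * f Y a = 0 by linear_combination -k1)).resolve_left hO.two,
      (mul_eq_zero.1 (show (2 : F) * f Y b = 0 by linear_combination -k2)).resolve_left hO.two⟩
  exact ⟨e₁, a, b, he, Submodule.add_mem _ hxR (smul_mem_ratVecs ht he), hp, hq, ha, hb, hee, hiso,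
    by rw [hs.sesq.add_left, hs.sesq.smul_left, hxe, hee, mul_zero, add_zero], hdet, haa, hbb, hab,
    hap, haq, hbp, hbq, hperp, hge, hzero.1, hzero.2⟩

omit hC in
/-- The image of the perpendicular of `e`, `e₁`. -/
theorem image_of_perp {g : GL ι F} (hg : g ∈ M) {e e₁ p q a b : ι → F}
    (h : Config F₀ c₀ f g e e₁ p q a b) {x : ι → F} (hxe : f x e = 0) (hxe₁ : f x e₁ = 0) :
    f ((g : Matrix ι ι F) *ᵥ x) p = 0 ∧ f ((g : Matrix ι ι F) *ᵥ x) q = 0 := by
  have hs := hO.hs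
  have hI := hM.iso g hg
  obtain ⟨α, β, hαβ, -⟩ := hO.in_plane h h.ge₁a h.ge₁b
  set z := (g : Matrix ι ι F) *ᵥ x
  have k1 : f z p - c₀ * f z q = 0 := by
    have h1 := hI x e
    rw [hxe, h.ge, hs.sesq.add_right, hs.sesq.smul_right, hO.sigma_c₀] at h1
    linear_combination h1
  have k2 : σ α * f z p + σ β * f z q = 0 := by
    have h1 := hI x e₁
    rw [hxe₁, hαβ, hs.sesq.add_right, hs.sesq.smul_right, hs.sesq.smul_right] at h1
    exact h1
  have hne : σ β + c₀ * σ α ≠ 0 := by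
    intro h0
    have h3 := congrArg σ h0
    rw [map_add, map_mul, hs.sigma_sigma, hs.sigma_sigma, hO.sigma_c₀, map_zero] at h3
    have h4 := hI e₁ e
    rw [h.e₁e, hαβ, show α • p + β • q = α • (p + c₀ • q) by
      rw [show β = α * c₀ by linear_combination h3]; module,
      ← h.ge, hs.sesq.smul_left, hI, h.ee, mul_zero] at h4
    exact zero_ne_one h4
  have hq0 : f z q = 0 := (mul_eq_zero.1 (show (σ β + c₀ * σ α) * f z q = 0 by
    linear_combination k2 - σ α * k1)).resolve_left hne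
  exact ⟨by rw [hq0, mul_zero, sub_zero] at k1; exact k1, hq0⟩

/-- The perpendicular of the image plane has no rational isotropic vector. -/
theorem aniso_of_config {g : GL ι F} (hg : g ∈ M) {e e₁ p q a b : ι → F}
    (h : Config F₀ c₀ f g e e₁ p q a b) :
    ∀ x ∈ F₀, ∀ y ∈ F₀, x * x * f a a + y * y * f b b = 0 → x = 0 ∧ y = 0 := by
  intro x hx y hy hxy
  by_contra hne
  have hs := hO.hs
  have hI := hM.iso g hg
  set w := x • a + y • b with hw
  have hwR : w ∈ ratVecs ι F₀ :=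
    Submodule.add_mem _ (smul_mem_ratVecs hx h.ra) (smul_mem_ratVecs hy h.rb)
  have hww : f w w = 0 := by
    simp only [hw, hs.sesq.add_left, hs.sesq.add_right, hs.sesq.smul_left, hs.sesq.smul_right, h.ab,
      hs.orth_symm h.ab, hO.fix x hx, hO.fix y hy]
    linear_combination hxy
  have hw0 : w ≠ 0 := by
    intro h0
    have k1 := congrArg (fun v => f v a) h0
    have k2 := congrArg (fun v => f v b) h0
    simp [hw, hs.sesq.add_left, hs.sesq.smul_left, hs.sesq.zero_left, h.ab, hs.orth_symm h.ab, h.aa,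
      h.bb] at k1 k2
    exact hne ⟨k1, k2⟩
  obtain ⟨t, ht, ht0, ht2⟩ := hO.exists_sq_ne 1
  set l := t⁻¹ with hl
  have hlR : l ∈ F₀ := F₀.inv_mem ht
  have hl0 : l ≠ 0 := inv_ne_zero ht0
  have he1 : f e e₁ = 1 := by rw [hs.herm' e₁ e, h.e₁e, map_one]
  set A := e - e₁ with hA
  set B := e - l • e₁ with hB
  have hAA : f A A = -2 := by
    simp only [hA, hs.sesq.sub_left, hs.sesq.sub_right, h.ee, h.e₁e₁, h.e₁e, he1]; ring
  have hBB : f B B = -2 * l := by
    simp only [hB, hs.sesq.sub_left, hs.sesq.sub_right, hs.sesq.smul_left, hs.sesq.smul_right,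
      hO.fix l hlR, h.ee, h.e₁e₁, h.e₁e, he1]
    ring
  have hAA0 : f A A ≠ 0 := by rw [hAA]; exact neg_ne_zero.2 hO.two
  have hBB0 : f B B ≠ 0 := by rw [hBB]; exact mul_ne_zero (neg_ne_zero.2 hO.two) hl0
  set D := refl f B * refl f A with hD
  have hDM : D ∈ M := hO.refl₂_mem hM (Submodule.sub_mem _ h.re (smul_mem_ratVecs hlR h.re₁))
    (Submodule.sub_mem _ h.re h.re₁) hBB0 hAA0
  have hDx : ∀ v, f v e = 0 → f v e₁ = 0 → (D : Matrix ι ι F) *ᵥ v = v := fun v hv hv1 => by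
    have k1 : f v A = 0 := by rw [hA, hs.sesq.sub_right, hv, hv1, sub_zero]
    have k2 : f v B = 0 := by
      rw [hB, hs.sesq.sub_right, hs.sesq.smul_right, hv, hv1, mul_zero, sub_zero]
    rw [hD, Units.val_mul, ← mulVec_mulVec, hs.refl_mulVec hAA0, k1]
    simp only [mul_zero, zero_div, zero_smul, sub_zero]
    rw [hs.refl_mulVec hBB0, k2]
    simp
  have hDe : (D : Matrix ι ι F) *ᵥ e = t • e := by
    have h1 : (refl f A : Matrix ι ι F) *ᵥ e = e₁ := by
      rw [hs.refl_mulVec hAA0, hAA, show f e A = -1 by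
        rw [hA, hs.sesq.sub_right, h.ee, he1, zero_sub], hA]
      have h2 := hO.two
      match_scalars <;> field_simp <;> ring
    rw [hD, Units.val_mul, ← mulVec_mulVec, h1, hs.refl_mulVec hBB0, hBB, show f e₁ B = 1 by
      rw [hB, hs.sesq.sub_right, hs.sesq.smul_right, h.e₁e₁, h.e₁e, mul_zero, sub_zero], hB, hl]
    have h2 := hO.two
    match_scalars <;> field_simp <;> ring
  have hDe₁ : (D : Matrix ι ι F) *ᵥ e₁ = l • e₁ := by
    have h1 : (refl f A : Matrix ι ι F) *ᵥ e₁ = e := by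
      rw [hs.refl_mulVec hAA0, hAA, show f e₁ A = 1 by
        rw [hA, hs.sesq.sub_right, h.e₁e₁, h.e₁e, sub_zero], hA]
      have h2 := hO.two
      match_scalars <;> field_simp <;> ring
    rw [hD, Units.val_mul, ← mulVec_mulVec, h1, hs.refl_mulVec hBB0, hBB, show f e B = -l by
      rw [hB, hs.sesq.sub_right, hs.sesq.smul_right, h.ee, he1, hO.fix l hlR, mul_one, zero_sub], hB]
    have h2 := hO.two
    match_scalars <;> field_simp <;> ring
  set k := g * D * g⁻¹ with hk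
  have hkM : k ∈ M := M.mul_mem (M.mul_mem hg hDM) (M.inv_mem hg)
  have hkg : ∀ v, (k : Matrix ι ι F) *ᵥ ((g : Matrix ι ι F) *ᵥ v) =
      (g : Matrix ι ι F) *ᵥ ((D : Matrix ι ι F) *ᵥ v) := fun v => by
    rw [mulVec_mulVec, ← Units.val_mul, hk, inv_mul_cancel_right, Units.val_mul, mulVec_mulVec]
  -- `k` fixes `w`
  have hkw : (k : Matrix ι ι F) *ᵥ w = w := by
    set v := ((g⁻¹ : GL ι F) : Matrix ι ι F) *ᵥ w with hv
    have hgv : (g : Matrix ι ι F) *ᵥ v = w := mulVec_inv_mulVec g w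
    obtain ⟨α, β, hαβ, -⟩ := hO.in_plane h h.ge₁a h.ge₁b
    have hwp : f w p = 0 ∧ f w q = 0 := by
      simp [hw, hs.sesq.add_left, hs.sesq.smul_left, h.ap, h.aq, h.bp, h.bq]
    have k1 : f v e = 0 := by
      rw [← hI, hgv, h.ge, hs.sesq.add_right, hs.sesq.smul_right, hwp.1, hwp.2, mul_zero, add_zero]
    have k2 : f v e₁ = 0 := by
      rw [← hI, hgv, hαβ, hs.sesq.add_right, hs.sesq.smul_right, hs.sesq.smul_right, hwp.1, hwp.2,
        mul_zero, mul_zero, add_zero]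
    rw [← hgv, hkg, hDx v k1 k2]
  have hkR := hO.rat_of_fix hM hC hkM hwR hw0 hww hkw
  have hky : (k : Matrix ι ι F) *ᵥ (p + c₀ • q) = t • (p + c₀ • q) := by
    rw [← h.ge, hkg, hDe, mulVec_smul]
  rw [mulVec_add, mulVec_smul, smul_add, smul_comm t c₀] at hky
  obtain ⟨hkp, hkq⟩ := hO.parts_unique (mulVec_mem_ratVecs hkR h.rp) (mulVec_mem_ratVecs hkR h.rq)
    (smul_mem_ratVecs ht h.rp) (smul_mem_ratVecs ht h.rq) hky
  obtain ⟨α, β, hαβ, -⟩ := hO.in_plane h h.ge₁a h.ge₁b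
  have h1 : (k : Matrix ι ι F) *ᵥ ((g : Matrix ι ι F) *ᵥ e₁) = t • ((g : Matrix ι ι F) *ᵥ e₁) := by
    rw [hαβ, mulVec_add, mulVec_smul, mulVec_smul, hkp, hkq]; module
  rw [hkg, hDe₁, mulVec_smul] at h1
  have h3 : ((l : F) - t) • ((g : Matrix ι ι F) *ᵥ e₁) = 0 := by rw [sub_smul, h1, sub_self]
  have h4 := (smul_eq_zero.1 h3).resolve_right (mulVec_ne_zero g fun h0 => by
    have := h.e₁e
    rw [h0, hs.sesq.zero_left] at this
    exact zero_ne_one this)
  apply ht2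
  rw [hl] at h4
  field_simp at h4
  linear_combination -h4

/-- The image plane has a rational isotropic vector. -/
theorem exists_iso_of_config {g : GL ι F} (hg : g ∈ M) {e e₁ p q a b : ι → F}
    (h : Config F₀ c₀ f g e e₁ p q a b) :
    ∃ α ∈ F₀, ∃ β ∈ F₀, ¬ (α = 0 ∧ β = 0) ∧ f (α • p + β • q) (α • p + β • q) = 0 := by
  have hs := hO.hs
  by_contra hno
  push Not at hno
  have hW := hO.aniso_of_config hM hC hg h
  have he0 : e ≠ 0 := fun h0 => by
    have := h.e₁e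
    rw [h0, hs.sesq.zero_right] at this
    exact zero_ne_one this
  obtain ⟨m, hm, hmm, τ, hτ, hτ0, -, hfix, hpres, hsq, heig⟩ :=
    hO.exists_rotation h.ra h.rb h.aa h.bb h.ab hW
  set r := refl f a * refl f m with hr
  have hrM : r ∈ M := hO.refl₂_mem hM h.ra hm h.aa hmm
  have hrI := hM.iso r hrM
  have hrR : RatMat F₀ (r : Matrix ι ι F) := hs.ratMat_refl₂ h.ra hm h.aa hmm
  -- the perpendicular of `e`, `e₁` is anisotropic
  have hW₀ : ∀ z ∈ ratVecs ι F₀, f z e = 0 → f z e₁ = 0 → f z z = 0 → z = 0 := by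
    intro z hz hze hze₁ hzz
    by_contra hz0
    set ρ := g⁻¹ * r * g with hρ
    have hρM : ρ ∈ M := M.mul_mem (M.mul_mem (M.inv_mem hg) hrM) hg
    have hρI := hM.iso ρ hρM
    have hρg : ∀ v, (g : Matrix ι ι F) *ᵥ ((ρ : Matrix ι ι F) *ᵥ v) =
        (r : Matrix ι ι F) *ᵥ ((g : Matrix ι ι F) *ᵥ v) := fun v => by
      rw [hρ, Units.val_mul, Units.val_mul, ← mulVec_mulVec, ← mulVec_mulVec, mulVec_inv_mulVec]
    have hρe : ∀ v, f ((g : Matrix ι ι F) *ᵥ v) a = 0 → f ((g : Matrix ι ι F) *ᵥ v) b = 0 →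
        (ρ : Matrix ι ι F) *ᵥ v = v := fun v hva hvb => by
      have h1 := hρg v
      rw [hfix _ hva hvb] at h1
      have h3 := congrArg (fun y => ((g⁻¹ : GL ι F) : Matrix ι ι F) *ᵥ y) h1
      simpa [mulVec_mulVec] using h3
    have hρe' := hρe e
      (by rw [h.ge, hs.sesq.add_left, hs.sesq.smul_left, hs.orth_symm h.ap, hs.orth_symm h.aq]; simp)
      (by rw [h.ge, hs.sesq.add_left, hs.sesq.smul_left, hs.orth_symm h.bp, hs.orth_symm h.bq]; simp)
    have hρe₁ := hρe e₁ h.ge₁a h.ge₁b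
    have hρR := hO.rat_of_fix hM hC hρM h.re he0 h.ee hρe'
    obtain ⟨u, hu, u', hu', huu, hu'u', huu', hue, hue1, hu'e, hu'e1, huperp⟩ :=
      hO.exists_perp_basis h.re h.re₁ (by rw [h.ee, h.e₁e₁, hO.symm h.re h.re₁, h.e₁e]; norm_num)
    -- isotropic vectors of that plane: two lines
    have hcoord : ∀ v ∈ ratVecs ι F₀, f v e = 0 → f v e₁ = 0 → f v v = 0 →
        ∃ x ∈ F₀, ∃ y ∈ F₀, v = x • u + y • u' ∧ x * x * f u u + y * y * f u' u' = 0 := by
      intro v hv hve hve1 hvv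
      refine ⟨_, F₀.div_mem (hs.rat v hv u hu) (hO.self_mem u), _,
        F₀.div_mem (hs.rat v hv u' hu') (hO.self_mem u'), huperp v hve hve1, ?_⟩
      rw [huperp v hve hve1] at hvv
      simp only [hs.sesq.add_left, hs.sesq.add_right, hs.sesq.smul_left, hs.sesq.smul_right, huu',
        hs.orth_symm huu', hO.fix _ (F₀.div_mem (hs.rat v hv u hu) (hO.self_mem u)),
        hO.fix _ (F₀.div_mem (hs.rat v hv u' hu') (hO.self_mem u'))] at hvv
      linear_combination hvv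
    have hstep : ∀ v ∈ ratVecs ι F₀, f v e = 0 → f v e₁ = 0 → f v v = 0 →
        (ρ : Matrix ι ι F) *ᵥ v ∈ ratVecs ι F₀ ∧ f ((ρ : Matrix ι ι F) *ᵥ v) e = 0 ∧
          f ((ρ : Matrix ι ι F) *ᵥ v) e₁ = 0 ∧
          f ((ρ : Matrix ι ι F) *ᵥ v) ((ρ : Matrix ι ι F) *ᵥ v) = 0 := by
      intro v hv hve hve1 hvv
      refine ⟨mulVec_mem_ratVecs hρR hv, ?_, ?_, by rw [hρI, hvv]⟩
      · rw [← hρe', hρI, hve]
      · rw [← hρe₁, hρI, hve1]
    obtain ⟨z1R, z1e, z1e1, z1z1⟩ := hstep z hz hze hze₁ hzz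
    obtain ⟨z2R, z2e, z2e1, z2z2⟩ := hstep _ z1R z1e z1e1 z1z1
    obtain ⟨x, hx, y, hy, hzv, hq0⟩ := hcoord z hz hze hze₁ hzz
    obtain ⟨x1, hx1, y1, hy1, hzv1, hq1⟩ := hcoord _ z1R z1e z1e1 z1z1
    obtain ⟨x2, hx2, y2, hy2, hzv2, hq2⟩ := hcoord _ z2R z2e z2e1 z2z2
    have hx0 : x ≠ 0 := by
      intro h0
      rw [h0, zero_mul, zero_mul, zero_add] at hq0
      rw [h0, mul_self_eq_zero.1 ((mul_eq_zero.1 hq0).resolve_right hu'u'), zero_smul, zero_smul,
        add_zero] at hzv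
      exact hz0 hzv
    have hsq1 : x * y1 = x1 * y ∨ x * y1 = -(x1 * y) := by
      refine mul_self_eq_mul_self_iff.1 (mul_right_cancel₀ hu'u' ?_)
      linear_combination (x * x) * hq1 - (x1 * x1) * hq0
    have hsq2 : x * y2 = x2 * y ∨ x * y2 = -(x2 * y) := by
      refine mul_self_eq_mul_self_iff.1 (mul_right_cancel₀ hu'u' ?_)
      linear_combination (x * x) * hq2 - (x2 * x2) * hq0
    obtain ⟨w, hwR, hw0, hwe, hwe1, κ, hκ, hev⟩ : ∃ w ∈ ratVecs ι F₀, w ≠ 0 ∧ f w e = 0 ∧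
        f w e₁ = 0 ∧ ∃ κ ∈ F₀, ((ρ : Matrix ι ι F) *ᵥ w = κ • w ∨
          (ρ : Matrix ι ι F) *ᵥ ((ρ : Matrix ι ι F) *ᵥ w) = κ • w) := by
      rcases hsq1 with h1 | h1
      · refine ⟨z, hz, hz0, hze, hze₁, x1 / x, F₀.div_mem hx1 hx, Or.inl ?_⟩
        rw [hzv1, hzv]
        match_scalars <;> field_simp <;> linear_combination h1
      rcases hsq2 with h3 | h3
      · refine ⟨z, hz, hz0, hze, hze₁, x2 / x, F₀.div_mem hx2 hx, Or.inr ?_⟩
        rw [hzv2, hzv]
        match_scalars <;> field_simp <;> linear_combination h3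
      · have hρz0 := mulVec_ne_zero ρ hz0
        have hx10 : x1 ≠ 0 := by
          intro h0
          rw [h0, zero_mul, neg_zero, mul_eq_zero, or_iff_right hx0] at h1
          exact hρz0 (by rw [hzv1, h0, h1]; simp)
        refine ⟨_, z1R, hρz0, z1e, z1e1, x2 / x1, F₀.div_mem hx2 hx1, Or.inl ?_⟩
        rw [hzv2, hzv1]
        have h5 : x1 * y2 = x2 * y1 := mul_left_cancel₀ hx0 (by linear_combination x1 * h3 - x2 * h1)
        match_scalars <;> field_simp <;> linear_combination h5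
    obtain ⟨hVp, hVq⟩ := hO.image_of_perp hM hg h hwe hwe1
    set V := (g : Matrix ι ι F) *ᵥ w with hV
    have hV0 : V ≠ 0 := mulVec_ne_zero g hw0
    have hrV : (r : Matrix ι ι F) *ᵥ V = κ • V ∨
        (r : Matrix ι ι F) *ᵥ ((r : Matrix ι ι F) *ᵥ V) = κ • V := by
      rcases hev with h1 | h1
      · exact Or.inl (by rw [hV, ← hρg, h1, mulVec_smul])
      · exact Or.inr (by rw [hV, ← hρg, ← hρg, h1, mulVec_smul])
    obtain ⟨P, hP, Q, hQ, hPQ⟩ := hs.exists_decomp hO.fx hO.fix hO.two V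
    obtain ⟨v, hv, hv0, hvp, hvq, hvκ⟩ : ∃ v ∈ ratVecs ι F₀, v ≠ 0 ∧ f v p = 0 ∧ f v q = 0 ∧
        ((r : Matrix ι ι F) *ᵥ v = κ • v ∨
          (r : Matrix ι ι F) *ᵥ ((r : Matrix ι ι F) *ᵥ v) = κ • v) := by
      have k1 := hs.orth_symm hVp
      have k2 := hs.orth_symm hVq
      rw [hPQ, hs.decomp_orth hO.fx hO.fix hO.two h.rp hP hQ] at k1
      rw [hPQ, hs.decomp_orth hO.fx hO.fix hO.two h.rq hP hQ] at k2
      have hparts : ((r : Matrix ι ι F) *ᵥ P = κ • P ∧ (r : Matrix ι ι F) *ᵥ Q = κ • Q) ∨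
          ((r : Matrix ι ι F) *ᵥ ((r : Matrix ι ι F) *ᵥ P) = κ • P ∧
            (r : Matrix ι ι F) *ᵥ ((r : Matrix ι ι F) *ᵥ Q) = κ • Q) := by
        rcases hrV with h1 | h1
        · rw [hPQ, mulVec_add, mulVec_smul, smul_add, smul_comm κ c₀] at h1
          exact Or.inl (hO.parts_unique (mulVec_mem_ratVecs hrR hP) (mulVec_mem_ratVecs hrR hQ)
            (smul_mem_ratVecs hκ hP) (smul_mem_ratVecs hκ hQ) h1)
        · rw [hPQ, mulVec_add, mulVec_smul, mulVec_add, mulVec_smul, smul_add, smul_comm κ c₀] at h1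
          exact Or.inr (hO.parts_unique (mulVec_mem_ratVecs hrR (mulVec_mem_ratVecs hrR hP))
            (mulVec_mem_ratVecs hrR (mulVec_mem_ratVecs hrR hQ))
            (smul_mem_ratVecs hκ hP) (smul_mem_ratVecs hκ hQ) h1)
      by_cases hP0 : P = 0
      · refine ⟨Q, hQ, fun hQ0 => hV0 (by rw [hPQ, hP0, hQ0]; simp), hs.orth_symm k1.2,
          hs.orth_symm k2.2, ?_⟩
        exact hparts.imp And.right And.right
      · exact ⟨P, hP, hP0, hs.orth_symm k1.1, hs.orth_symm k2.1, hparts.imp And.left And.left⟩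
    have hvab := h.perp v hvp hvq
    set s := f v a / f a a with hs'
    set s2 := f v b / f b b with hs2
    have hsF : s ∈ F₀ := F₀.div_mem (hs.rat v hv a h.ra) (hO.self_mem a)
    have hs2F : s2 ∈ F₀ := F₀.div_mem (hs.rat v hv b h.rb) (hO.self_mem b)
    have hvv : f v v ≠ 0 := by
      intro h0
      rw [hvab] at h0
      simp only [hs.sesq.add_left, hs.sesq.add_right, hs.sesq.smul_left, hs.sesq.smul_right, h.ab,
        hs.orth_symm h.ab, hO.fix s hsF, hO.fix s2 hs2F] at h0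
      obtain ⟨h1, h3⟩ := hW s hsF s2 hs2F (by linear_combination h0)
      exact hv0 (by rw [hvab, h1, h3]; simp)
    have hsqone : ∀ {k : F}, k ∈ F₀ → ∀ {u : ι → F}, f u u = f v v → u = k • v → k * k = 1 := by
      intro k hk u hu hku
      rw [hku, hs.sesq.smul_left, hs.sesq.smul_right, hO.fix k hk, ← mul_assoc] at hu
      exact mul_right_cancel₀ hvv (by rw [one_mul]; exact hu)
    have hnot : ∀ k : F, k ∈ F₀ → (r : Matrix ι ι F) *ᵥ v ≠ k • v := by
      intro k hk h0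
      have hk1 := hsqone hk (hrI v v) h0
      rw [hvab] at h0
      obtain ⟨h1, h3⟩ := heig s s2 k hk1 h0
      exact hv0 (by rw [hvab, h1, h3]; simp)
    rcases hvκ with h1 | h1
    · exact hnot κ hκ h1
    · have hsq' := hsq s s2
      rw [← hvab, h1] at hsq'
      refine hnot ((κ + 1) / τ) (F₀.div_mem (F₀.add_mem hκ F₀.one_mem) hτ) ?_
      rw [eq_comm, div_eq_inv_mul, mul_smul, inv_smul_eq_iff₀ hτ0, add_smul, one_smul, hsq']
      module
  -- an orthogonal basis of the image plane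
  have hdet' : f a a * f b b - f a b * f a b ≠ 0 := by
    rw [h.ab, mul_zero, sub_zero]; exact mul_ne_zero h.aa h.bb
  obtain ⟨p0, hp0, q0, hq0, hpp, hqq, hpq, hpa, hpb, hqa, hqb, -⟩ :=
    hO.exists_perp_basis h.ra h.rb hdet'
  have hL : ∀ x ∈ F₀, ∀ y ∈ F₀, x * x * f p0 p0 + y * y * f q0 q0 = 0 → x = 0 ∧ y = 0 := by
    intro x hx y hy hxy
    set v := x • p0 + y • q0 with hv
    have hvR : v ∈ ratVecs ι F₀ :=
      Submodule.add_mem _ (smul_mem_ratVecs hx hp0) (smul_mem_ratVecs hy hq0)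
    obtain ⟨α, β, hαβ, hR⟩ := hO.in_plane h (x := v)
      (by simp [hv, hs.sesq.add_left, hs.sesq.smul_left, hpa, hqa])
      (by simp [hv, hs.sesq.add_left, hs.sesq.smul_left, hpb, hqb])
    obtain ⟨hα, hβ⟩ := hR hvR
    have hvv : f v v = 0 := by
      simp only [hv, hs.sesq.add_left, hs.sesq.add_right, hs.sesq.smul_left, hs.sesq.smul_right, hpq,
        hs.orth_symm hpq, hO.fix x hx, hO.fix y hy]
      linear_combination hxy
    have hv0 : v = 0 := by
      by_contra hv0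
      refine hno α hα β hβ (fun hα0 hβ0 => hv0 ?_) (by rw [← hαβ]; exact hvv)
      rw [hαβ, hα0, hβ0]; simp
    have k1 := congrArg (fun w => f w p0) hv0
    have k2 := congrArg (fun w => f w q0) hv0
    simp [hv, hs.sesq.add_left, hs.sesq.smul_left, hs.sesq.zero_left, hpq, hs.orth_symm hpq, hpp,
      hqq] at k1 k2
    exact ⟨k1, k2⟩
  set A₀ := f p0 p0 with hA₀
  set Q₀ := f q0 q0 with hQ₀
  set A := f a a with hA
  set B := f b b with hB
  have hns : ∀ {X Y : F}, X ∈ F₀ → X ≠ 0 →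
      (∀ x ∈ F₀, ∀ y ∈ F₀, x * x * X + y * y * Y = 0 → x = 0 ∧ y = 0) → ¬ Sq F₀ (-(X * Y)) := by
    intro X Y hX hX0 han ⟨s, hs', he⟩
    exact hX0 (han s hs' X hX (by linear_combination (-X) * he)).2
  obtain ⟨x, hx, y, hy, hxy⟩ := hO.exists_represent (v := -A₀) (hO.self_mem a) (hO.self_mem b)
    (F₀.neg_mem (hO.self_mem p0)) h.aa h.bb
  obtain ⟨s, hs', hse⟩ := hO.nonsq_div (a := -(A₀ * Q₀)) (b := -(A * B))
    (F₀.neg_mem (F₀.mul_mem (hO.self_mem p0) (hO.self_mem q0)))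
    (F₀.neg_mem (F₀.mul_mem (hO.self_mem a) (hO.self_mem b)))
    (hns (hO.self_mem p0) hpp hL) (hns (hO.self_mem a) h.aa hW)
  set a' := x • a + y • b with ha'
  set b' := (-(y * B)) • a + (x * A) • b with hb'
  set sc := s / A₀ with hsc
  have hscR : sc ∈ F₀ := F₀.div_mem hs' (hO.self_mem p0)
  have hyB : -(y * B) ∈ F₀ := F₀.neg_mem (F₀.mul_mem hy (hO.self_mem b))
  have hxA : x * A ∈ F₀ := F₀.mul_mem hx (hO.self_mem a)
  set x1 := p0 + a' with hx1
  set x2 := q0 + sc • b' with hx2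
  have hba := hs.orth_symm h.ab
  have hap := hs.orth_symm hpa
  have haq := hs.orth_symm hqa
  have hbp := hs.orth_symm hpb
  have hbq := hs.orth_symm hqb
  have hx1R : x1 ∈ ratVecs ι F₀ :=
    Submodule.add_mem _ hp0 (Submodule.add_mem _ (smul_mem_ratVecs hx h.ra) (smul_mem_ratVecs hy h.rb))
  have hx2R : x2 ∈ ratVecs ι F₀ := Submodule.add_mem _ hq0 (smul_mem_ratVecs hscR
    (Submodule.add_mem _ (smul_mem_ratVecs hyB h.ra) (smul_mem_ratVecs hxA h.rb)))
  have e11 : f x1 x1 = 0 := by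
    simp only [hx1, ha', hs.sesq.add_left, hs.sesq.add_right, hs.sesq.smul_left, hs.sesq.smul_right,
      h.ab, hba, hap, hbp, hpa, hpb, ← hA₀, ← hA, ← hB, hO.fix x hx, hO.fix y hy]
    linear_combination hxy
  have e22 : f x2 x2 = 0 := by
    simp only [hx2, hb', hs.sesq.add_left, hs.sesq.add_right, hs.sesq.smul_left, hs.sesq.smul_right,
      h.ab, hba, haq, hbq, hqa, hqb, ← hQ₀, ← hA, ← hB, hO.fix _ hscR, hO.fix _ hyB, hO.fix _ hxA]
    have hA0' : A₀ ≠ 0 := hpp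
    have hA' : A ≠ 0 := h.aa
    have hB' : B ≠ 0 := h.bb
    have hse' : s * s * (A * B) = A₀ * Q₀ := by
      rw [neg_div_neg_eq] at hse
      rw [← hse, div_mul_cancel₀ _ (mul_ne_zero hA' hB')]
    rw [hsc]
    field_simp
    linear_combination (s * s * (A * B)) * hxy + (-A₀) * hse'
  have e12 : f x1 x2 = 0 := by
    simp only [hx1, ha', hx2, hb', hs.sesq.add_left, hs.sesq.add_right, hs.sesq.smul_left,
      hs.sesq.smul_right, h.ab, hba, hap, hbp, hpa, hpb, haq, hbq, hqa, hqb, hpq, ← hA, ← hB,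
      hO.fix _ hscR, hO.fix _ hyB, hO.fix _ hxA]
    ring
  have e21 := hs.orth_symm e12
  -- a totally isotropic plane meets the perpendicular of `e` in the line of `e`
  have hline : ∀ v ∈ ratVecs ι F₀, f v e = 0 → f v v = 0 → v = f v e₁ • e := by
    intro v hv hve hvv
    have he1 : f e e₁ = 1 := by rw [hs.herm' e₁ e, h.e₁e, map_one]
    have hk : f v e₁ ∈ F₀ := hs.rat v hv e₁ h.re₁
    refine sub_eq_zero.1 (hW₀ _ (Submodule.sub_mem _ hv (smul_mem_ratVecs hk h.re)) ?_ ?_ ?_)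
    · rw [hs.sesq.sub_left, hs.sesq.smul_left, hve, h.ee, mul_zero, sub_zero]
    · rw [hs.sesq.sub_left, hs.sesq.smul_left, he1, mul_one, sub_self]
    · simp only [hs.sesq.sub_left, hs.sesq.sub_right, hs.sesq.smul_left, hs.sesq.smul_right, hvv, hve,
        hs.orth_symm hve, h.ee]
      ring
  have fq1 : f x1 q0 = 0 := by
    rw [hx1, ha', hs.sesq.add_left, hs.sesq.add_left, hs.sesq.smul_left, hs.sesq.smul_left, haq, hbq,
      hpq]
    ring
  have fq2 : f x2 q0 = f q0 q0 := by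
    rw [hx2, hb', hs.sesq.add_left, hs.sesq.smul_left, hs.sesq.add_left, hs.sesq.smul_left,
      hs.sesq.smul_left, haq, hbq]
    ring
  have hx10 : x1 ≠ 0 := fun h0 => hpp (by
    have k := congrArg (fun w => f w p0) h0
    simpa [hx1, ha', hs.sesq.add_left, hs.sesq.smul_left, hs.sesq.zero_left, hap, hbp] using k)
  obtain ⟨v, hv, hv0, hve, hvv, hv1, hv2⟩ : ∃ v ∈ ratVecs ι F₀, v ≠ 0 ∧ f v e = 0 ∧ f v v = 0 ∧
      f v x1 = 0 ∧ f v x2 = 0 := by
    by_cases h1 : f x1 e = 0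
    · exact ⟨x1, hx1R, hx10, h1, e11, e11, e12⟩
    set k := f x2 e / f x1 e with hk
    refine ⟨x2 - k • x1, Submodule.sub_mem _ hx2R (smul_mem_ratVecs
      (F₀.div_mem (hs.rat x2 hx2R e h.re) (hs.rat x1 hx1R e h.re)) hx1R), fun h0 => hqq ?_, ?_, ?_,
      ?_, ?_⟩
    · have k' := congrArg (fun w => f w q0) h0
      simp only [hs.sesq.sub_left, hs.sesq.smul_left, hs.sesq.zero_left, fq1, fq2, mul_zero,
        sub_zero] at k'
      exact k'
    · rw [hs.sesq.sub_left, hs.sesq.smul_left, hk, div_mul_cancel₀ _ h1, sub_self]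
    all_goals simp only [hs.sesq.sub_left, hs.sesq.sub_right, hs.sesq.smul_left, hs.sesq.smul_right,
      e11, e22, e12, e21, mul_zero, sub_zero]
  have hvl := hline v hv hve hvv
  have hk0 : f v e₁ ≠ 0 := fun h0 => hv0 (by rw [hvl, h0, zero_smul])
  have hxe : ∀ {w : ι → F}, f v w = 0 → f w e = 0 := fun {w} hw => by
    rw [hvl, hs.sesq.smul_left] at hw
    exact hs.orth_symm ((mul_eq_zero.1 hw).resolve_left hk0)
  have h1 := hline x1 hx1R (hxe hv1) e11
  have h3 := hline x2 hx2R (hxe hv2) e22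
  have hk1 : f x1 e₁ ≠ 0 := fun h0 => hx10 (by rw [h1, h0, zero_smul])
  have k := congrArg (fun w => f w q0) h1
  have k' := congrArg (fun w => f w q0) h3
  simp only [hs.sesq.smul_left, fq1, fq2] at k k'
  rcases mul_eq_zero.1 k.symm with h' | h'
  · exact hk1 h'
  · exact hqq (by rw [hQ₀, k', h', mul_zero])

/-- The discriminant of the image plane is a square. -/
theorem disc_sq {g : GL ι F} (hg : g ∈ M) {e p q : ι → F} (he : e ∈ ratVecs ι F₀) (he0 : e ≠ 0)
    (hee : f e e = 0) (hp : p ∈ ratVecs ι F₀) (hq : q ∈ ratVecs ι F₀)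
    (hge : (g : Matrix ι ι F) *ᵥ e = p + c₀ • q) :
    Sq F₀ (f p q * f p q - c₀ * c₀ * (f q q * f q q)) := by
  have hs := hO.hs
  have hA : f p p = c₀ * c₀ * f q q := by
    have h1 := hM.iso g hg e e
    rw [hge, hee] at h1
    simp only [hs.sesq.add_left, hs.sesq.add_right, hs.sesq.smul_left, hs.sesq.smul_right,
      hO.sigma_c₀, hO.symm hq hp] at h1
    linear_combination h1
  by_cases hdet : f p p * f q q - f p q * f p q = 0
  · exact ⟨0, F₀.zero_mem, by linear_combination -hdet + f q q * hA⟩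
  obtain ⟨e₁, a, b, h⟩ := hO.exists_config hM hC hg he he0 hee hp hq hge hdet
  obtain ⟨α, hα, β, hβ, hne, hiso⟩ := hO.exists_iso_of_config hM hC hg h
  simp only [hs.sesq.add_left, hs.sesq.add_right, hs.sesq.smul_left, hs.sesq.smul_right,
    hO.fix α hα, hO.fix β hβ, hA, hO.symm hq hp] at hiso
  have hK := hs.rat p hp q hq
  by_cases hα0 : α = 0
  · have hB : f q q = 0 := by
      subst hα0
      have hβ0 : β ≠ 0 := fun hh => hne ⟨rfl, hh⟩
      apply mul_left_cancel₀ (mul_ne_zero hβ0 hβ0)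
      linear_combination hiso
    exact ⟨f p q, hK, by rw [hB]; ring⟩
  · refine ⟨(f q q * β + f p q * α) / α, F₀.div_mem
      (F₀.add_mem (F₀.mul_mem (hO.self_mem q) hβ) (F₀.mul_mem hK hα)) hα, ?_⟩
    field_simp
    linear_combination (-f q q) * hiso

end OSetting

end CfsgLib.SUFour.Orth
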