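import Cfsg.Agent.SUFour.OrthClass

/-!
# Without long root elements an overgroup lies in the subfield group

Radical elements conjugated into a hyperbolic image plane give a square condition on the translation
part; rotations of the anisotropic perpendicular make this impossible. A totally singular image plane
is excluded by the elements acting on a totally singular plane as scalars of norm one.
-/

set_option autoImplicit false
set_option linter.unusedSectionVars false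

namespace CfsgLib.SUFour.Orth

open Matrix Cfsg.Geo CfsgLib.MaxSub CfsgLib.FormSubfield

variable {ι : Type} [Fintype ι] [DecidableEq ι] {F : Type*} [Field F] [Fintype F]
variable {F₀ : Subfield F} {σ : F ≃+* F} {c₀ : F} {f : (ι → F) → (ι → F) → F}
variable {M : Subgroup (GL ι F)}

namespace OSetting

variable (hO : OSetting F₀ σ c₀ f)

include hO

/-- For some `X ≠ b` the value `D X² - a²` is a non-zero square. -/
theorem exists_bad {a b : F} (ha : a ∈ F₀) (ha0 : a ≠ 0) (hb : b ∈ F₀) :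
    ∃ X ∈ F₀, X ≠ b ∧ ¬ Sq F₀ (c₀ * c₀ * (c₀ * c₀ * (X * X) - a * a)) := by
  set D := c₀ * c₀ with hD
  have hDR : D ∈ F₀ := hO.sq_mem
  have hD0 : D ≠ 0 := mul_ne_zero hO.hs.c₀_ne hO.hs.c₀_ne
  have hns : ¬ Sq F₀ D := hO.sq_nonsq
  have main : ∀ X ∈ F₀, ∀ s ∈ F₀, D * (X * X) - a * a = s * s →
      ¬ Sq F₀ (D * (D * (X * X) - a * a)) := by
    intro X hX s hs h hsq
    obtain ⟨t, ht, hte⟩ := hsq
    rw [h] at hte
    by_cases hs0 : s = 0
    · rw [hs0, mul_zero, sub_eq_zero] at h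
      have hX0 : X ≠ 0 := fun h0 => ha0 (by rw [h0] at h; simpa using h.symm)
      exact hns ⟨a / X, F₀.div_mem ha hX, by field_simp; linear_combination h⟩
    · exact hns ⟨t / s, F₀.div_mem ht hs, by field_simp; linear_combination hte⟩
  obtain ⟨X, hX, s, hs, hXs⟩ := hO.exists_represent hDR (F₀.neg_mem F₀.one_mem)
    (F₀.mul_mem ha ha) hD0 (neg_ne_zero.2 one_ne_zero)
  have h1 : D * (X * X) - a * a = s * s := by linear_combination hXs
  by_cases hXb : X ≠ b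
  · exact ⟨X, hX, hXb, main X hX s hs h1⟩
  push Not at hXb
  by_cases hX0 : X ≠ 0
  · refine ⟨-X, F₀.neg_mem hX, fun h => hX0 ?_, main _ (F₀.neg_mem hX) s hs (by rw [← h1]; ring)⟩
    exact (mul_eq_zero.1 (show (2 : F) * X = 0 by linear_combination hXb - h)).resolve_left hO.two
  push Not at hX0
  rw [hX0] at h1
  set i := s / a with hi
  have hi2 : i * i = -1 := by rw [hi]; field_simp; linear_combination -h1
  have hiR : i ∈ F₀ := F₀.div_mem hs ha
  have hD1 : 1 + D ≠ 0 := fun h => hns ⟨i, hiR, by linear_combination h - hi2⟩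
  set m := 2 * a / (1 + D) with hm
  have hmR : m ∈ F₀ :=
    F₀.div_mem (F₀.mul_mem (ofNat_mem F₀ 2) ha) (F₀.add_mem F₀.one_mem hDR)
  have hm0 : m ≠ 0 := div_ne_zero (mul_ne_zero hO.two ha0) hD1
  have hme : m * (1 + D) = 2 * a := div_mul_cancel₀ _ hD1
  refine ⟨m, hmR, by rw [← hXb, hX0]; exact hm0,
    main m hmR (i * (a - m)) (F₀.mul_mem hiR (F₀.sub_mem ha hmR)) ?_⟩
  linear_combination (norm := ring) m * hme - (a - m) * (a - m) * hi2

variable (hM : Over F₀ f M) (hC : NoLong F₀ σ f M)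

include hM hC

/-- The square condition from a radical element. -/
theorem radical_disc {g : GL ι F} (hg : g ∈ M) {e l1 l2 v P Q : ι → F} (he : e ∈ ratVecs ι F₀)
    (hee : f e e = 0) (hl1 : l1 ∈ ratVecs ι F₀) (hl2 : l2 ∈ ratVecs ι F₀) (h11 : f l1 l1 = 0)
    (h22 : f l2 l2 = 0) (h21 : f l2 l1 = 1) {lam γ : F} (hlam : lam ≠ 0) (hγ : γ ∈ F₀)
    (hge : (g : Matrix ι ι F) *ᵥ e = lam • (l1 + (c₀ * γ) • l2)) (hv : v ∈ ratVecs ι F₀)
    (hve : f v e = 0) (hP : P ∈ ratVecs ι F₀) (hQ : Q ∈ ratVecs ι F₀) (hP1 : f P l1 = 0)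
    (hP2 : f P l2 = 0) (hQ1 : f Q l1 = 0) (hQ2 : f Q l2 = 0)
    (hPQ : σ lam • ((g : Matrix ι ι F) *ᵥ v) = P + c₀ • Q) :
    Sq F₀ (c₀ * c₀ * (γ * γ * (γ * γ)) * (c₀ * c₀ *
      ((f P Q + γ * ((f P P - c₀ * c₀ * f Q Q) * (f P P - c₀ * c₀ * f Q Q)) / 4) *
        (f P Q + γ * ((f P P - c₀ * c₀ * f Q Q) * (f P P - c₀ * c₀ * f Q Q)) / 4)) -
      f P P * f P P)) := by
  have hs := hO.hs
  have hI := hM.iso g hg
  have h2 := hO.two
  have h12 : f l1 l2 = 1 := by rw [hO.symm hl1 hl2, h21]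
  set D := c₀ * c₀ with hD
  set N := f P P - D * f Q Q with hN
  have hNR : N ∈ F₀ := F₀.sub_mem (hO.self_mem P) (F₀.mul_mem hO.sq_mem (hO.self_mem Q))
  set z := l1 + (c₀ * γ) • l2 with hz
  have hzz : f z z = 0 := by
    simp only [hz, hs.sesq.add_left, hs.sesq.add_right, hs.sesq.smul_left, hs.sesq.smul_right, h11,
      h22, h12, h21, map_mul, hO.sigma_c₀, hO.fix γ hγ]
    ring
  set V := P + c₀ • Q with hV
  have hVV : f V V = N := by
    simp only [hV, hN, hD, hs.sesq.add_left, hs.sesq.add_right, hs.sesq.smul_left, hs.sesq.smul_right,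
      hO.sigma_c₀, hO.symm hQ hP]
    ring
  have hV1 : f V l1 = 0 := by rw [hV, hs.sesq.add_left, hs.sesq.smul_left, hP1, hQ1]; ring
  have hV2 : f V l2 = 0 := by rw [hV, hs.sesq.add_left, hs.sesq.smul_left, hP2, hQ2]; ring
  have hVz : f V z = 0 := by
    rw [hz, hs.sesq.add_right, hs.sesq.smul_right, hV1, hV2, mul_zero, add_zero]
  set u := R f z V (-N / 2) with hu
  have huM : u ∈ M := by
    have h1 := M.mul_mem (M.mul_mem hg (hO.rat_radical_mem hM he hv hee hve)) (M.inv_mem hg)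
    rw [hs.conj_R hI hee hve, hge] at h1
    have hgv : f ((g : Matrix ι ι F) *ᵥ v) z = 0 := by
      have h3 := hI v e
      rw [hve, hge, hs.sesq.smul_right] at h3
      exact (mul_eq_zero.1 h3).resolve_left (by simpa using hlam)
    rw [hs.R_smul hzz hgv, hPQ] at h1
    rw [hu]
    convert h1 using 2
    rw [← hVV, ← hPQ, hs.sesq.smul_left, hs.sesq.smul_right, hI, hs.sigma_sigma]
    ring
  set p' := l1 + (D * γ) • Q + (D * (γ * γ) * N / 2) • l2 with hp'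
  set q' := γ • P + (γ * N / 2) • l1 with hq'
  have hDR : D ∈ F₀ := hO.sq_mem
  have hN2 : γ * N / 2 ∈ F₀ := F₀.div_mem (F₀.mul_mem hγ hNR) (ofNat_mem F₀ 2)
  have hDγ : D * γ ∈ F₀ := F₀.mul_mem hDR hγ
  have hDN : D * (γ * γ) * N / 2 ∈ F₀ :=
    F₀.div_mem (F₀.mul_mem (F₀.mul_mem hDR (F₀.mul_mem hγ hγ)) hNR) (ofNat_mem F₀ 2)
  have hul : (u : Matrix ι ι F) *ᵥ l1 = p' + c₀ • q' := by
    rw [hu, hs.R_mulVec hzz hVz, hs.orth_symm hV1,
      show f l1 z = -(c₀ * γ) by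
        rw [hz, hs.sesq.add_right, hs.sesq.smul_right, h11, h12, map_mul, hO.sigma_c₀, hO.fix γ hγ]
        ring]
    rw [hp', hq', hz, hV, hD]
    match_scalars <;> ring
  have hl10 : l1 ≠ 0 := fun h => by
    rw [h, hs.sesq.zero_right] at h21; exact zero_ne_one h21
  obtain ⟨t, ht, hte⟩ := hO.disc_sq hM hC huM hl1 hl10 h11
    (p := p') (q := q')
    (Submodule.add_mem _ (Submodule.add_mem _ hl1 (smul_mem_ratVecs hDγ hQ))
      (smul_mem_ratVecs hDN hl2))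
    (Submodule.add_mem _ (smul_mem_ratVecs hγ hP) (smul_mem_ratVecs hN2 hl1)) hul
  refine ⟨t, ht, ?_⟩
  rw [← hte]
  simp only [hp', hq', hs.sesq.add_left, hs.sesq.add_right, hs.sesq.smul_left, hs.sesq.smul_right,
    hO.fix _ hγ, hO.fix _ hN2, h11, h21, hP1, hQ1, hs.orth_symm hP1, hs.orth_symm hP2,
    hO.symm hQ hP, ← hD]
  have h4 : (4 : F) ≠ 0 := by rw [show (4 : F) = 2 * 2 by norm_num]; exact mul_ne_zero h2 h2
  field_simp
  ring

/-- The translation part is skew. -/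
theorem skew_image {g : GL ι F} (hg : g ∈ M) {e l1 l2 a b v : ι → F} (he : e ∈ ratVecs ι F₀)
    (he0 : e ≠ 0) (hee : f e e = 0) (hl1 : l1 ∈ ratVecs ι F₀) (hl2 : l2 ∈ ratVecs ι F₀)
    (h11 : f l1 l1 = 0) (h22 : f l2 l2 = 0) (h21 : f l2 l1 = 1) (ha : a ∈ ratVecs ι F₀)
    (hb : b ∈ ratVecs ι F₀) (haa : f a a ≠ 0) (hbb : f b b ≠ 0) (hab : f a b = 0)
    (hla : f l1 a = 0) (hlb : f l1 b = 0) (hma : f l2 a = 0) (hmb : f l2 b = 0)
    (hperp : ∀ x : ι → F, f x l1 = 0 → f x l2 = 0 → x = (f x a / f a a) • a + (f x b / f b b) • b)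
    (hW : ∀ x ∈ F₀, ∀ y ∈ F₀, x * x * f a a + y * y * f b b = 0 → x = 0 ∧ y = 0) {lam γ : F}
    (hlam : lam ≠ 0) (hγ : γ ∈ F₀) (hγ0 : γ ≠ 0)
    (hge : (g : Matrix ι ι F) *ᵥ e = lam • (l1 + (c₀ * γ) • l2)) (hv : v ∈ ratVecs ι F₀)
    (hve : f v e = 0) (hvv : f v v ≠ 0) (hv1 : f ((g : Matrix ι ι F) *ᵥ v) l1 = 0)
    (hv2 : f ((g : Matrix ι ι F) *ᵥ v) l2 = 0) :
    ∃ w ∈ ratVecs ι F₀, σ lam • ((g : Matrix ι ι F) *ᵥ v) = c₀ • w := by
  have hs := hO.hs
  have hI := hM.iso g hg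
  have h2 := hO.two
  obtain ⟨m, hm, hmm, τ, hτ, -, hτ4, hfix, -, hsq, -⟩ :=
    hO.exists_rotation ha hb haa hbb hab hW
  set r := refl f a * refl f m with hr
  have hrM : r ∈ M := hO.refl₂_mem hM ha hm haa hmm
  have hrR : RatMat F₀ (r : Matrix ι ι F) := hs.ratMat_refl₂ ha hm haa hmm
  have hrI : Iso f r := hs.refl₂_iso haa hmm
  have hr1 : (r : Matrix ι ι F) *ᵥ l1 = l1 := hfix l1 hla hlb
  have hr2 : (r : Matrix ι ι F) *ᵥ l2 = l2 := hfix l2 hma hmb
  have hrr : ∀ x, f x l1 = 0 → f x l2 = 0 →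
      (r : Matrix ι ι F) *ᵥ ((r : Matrix ι ι F) *ᵥ x) = τ • ((r : Matrix ι ι F) *ᵥ x) - x := by
    intro x hx1 hx2
    rw [hperp x hx1 hx2]
    exact hsq _ _
  set ρ := g⁻¹ * r * g with hρ
  have hρM : ρ ∈ M := M.mul_mem (M.mul_mem (M.inv_mem hg) hrM) hg
  have hgρ : ∀ x, (g : Matrix ι ι F) *ᵥ ((ρ : Matrix ι ι F) *ᵥ x) =
      (r : Matrix ι ι F) *ᵥ ((g : Matrix ι ι F) *ᵥ x) := fun x => by
    rw [hρ, Units.val_mul, Units.val_mul, ← mulVec_mulVec, ← mulVec_mulVec, mulVec_inv_mulVec]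
  have hρe : (ρ : Matrix ι ι F) *ᵥ e = e := by
    have h1 := hgρ e
    rw [hge, mulVec_smul, mulVec_add, mulVec_smul, hr1, hr2, ← hge] at h1
    have h3 := congrArg (fun y => ((g⁻¹ : GL ι F) : Matrix ι ι F) *ᵥ y) h1
    simpa [mulVec_mulVec] using h3
  have hρR := hO.rat_of_fix hM hC hρM he he0 hee hρe
  have hρI := hM.iso ρ hρM
  set V := σ lam • ((g : Matrix ι ι F) *ᵥ v) with hV
  have hV1 : f V l1 = 0 := by rw [hV, hs.sesq.smul_left, hv1, mul_zero]
  have hV2 : f V l2 = 0 := by rw [hV, hs.sesq.smul_left, hv2, mul_zero]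
  have hVV : f V V ≠ 0 := by
    rw [hV, hs.sesq.smul_left, hs.sesq.smul_right, hI, hs.sigma_sigma]
    exact mul_ne_zero (by simpa using hlam) (mul_ne_zero hlam hvv)
  obtain ⟨P, hP, Q, hQ, hPQ⟩ := hs.exists_decomp hO.fx hO.fix h2 V
  obtain ⟨hP1', hQ1'⟩ := (hs.decomp_orth hO.fx hO.fix h2 hl1 hP hQ).1
    (by rw [← hPQ]; exact hs.orth_symm hV1)
  obtain ⟨hP2', hQ2'⟩ := (hs.decomp_orth hO.fx hO.fix h2 hl2 hP hQ).1
    (by rw [← hPQ]; exact hs.orth_symm hV2)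
  have hP1 := hs.orth_symm hP1'
  have hQ1 := hs.orth_symm hQ1'
  have hP2 := hs.orth_symm hP2'
  have hQ2 := hs.orth_symm hQ2'
  set D := c₀ * c₀ with hD
  have hD0 : D ≠ 0 := mul_ne_zero hs.c₀_ne hs.c₀_ne
  set f11 := f P P with hf11
  set f12 := f P Q with hf12
  set N := f11 - D * f Q Q with hN
  have hN0 : N ≠ 0 := by
    rw [hPQ] at hVV
    simp only [hs.sesq.add_left, hs.sesq.add_right, hs.sesq.smul_left, hs.sesq.smul_right,
      hO.sigma_c₀, hO.symm hQ hP] at hVV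
    intro h0; apply hVV
    rw [hN, hD, hf11] at h0
    linear_combination h0
  -- the rotated vectors
  set P' := (r : Matrix ι ι F) *ᵥ P with hP'
  set Q' := (r : Matrix ι ι F) *ᵥ Q with hQ'
  have hP'R := mulVec_mem_ratVecs hrR hP
  have hQ'R := mulVec_mem_ratVecs hrR hQ
  have hro : ∀ x, f x l1 = 0 → f x l2 = 0 →
      f ((r : Matrix ι ι F) *ᵥ x) l1 = 0 ∧ f ((r : Matrix ι ι F) *ᵥ x) l2 = 0 := fun x h1 h3 =>
    ⟨by nth_rewrite 1 [← hr1]; rw [hrI, h1], by nth_rewrite 1 [← hr2]; rw [hrI, h3]⟩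
  obtain ⟨hP'1, hP'2⟩ := hro P hP1 hP2
  obtain ⟨hQ'1, hQ'2⟩ := hro Q hQ1 hQ2
  have hcross : ∀ X ∈ ratVecs ι F₀, ∀ Y ∈ ratVecs ι F₀, f Y l1 = 0 → f Y l2 = 0 →
      f X ((r : Matrix ι ι F) *ᵥ Y) + f ((r : Matrix ι ι F) *ᵥ X) Y = τ * f X Y := by
    intro X _ Y _ hY1 hY2
    have h1 := hrI X ((r : Matrix ι ι F) *ᵥ Y)
    rw [hrr Y hY1 hY2, hs.sesq.sub_right, hs.sesq.smul_right, hO.fix τ hτ, hrI] at h1
    linear_combination -h1
  have cPP := hcross P hP P hP hP1 hP2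
  have cQQ := hcross Q hQ Q hQ hQ1 hQ2
  have cPQ := hcross P hP Q hQ hQ1 hQ2
  rw [← hP', hO.symm hP'R hP, ← hf11] at cPP
  rw [← hQ', hO.symm hQ'R hQ] at cQQ
  rw [← hQ', ← hP', ← hf12] at cPQ
  have hfPQ' : f Q' P = f P Q' := hO.symm hQ'R hP
  have hall : ∀ n ∈ F₀, n ≠ 0 → Sq F₀ (D * (D * ((f12 + n * γ * (N * N) / 4) *
      (f12 + n * γ * (N * N) / 4)) - f11 * f11)) := by
    intro n hn hn0
    obtain ⟨x', hx', y, hy, hxy⟩ := hO.exists_represent (A := 1) (B := 1 - τ * τ / 4) F₀.one_mem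
      (F₀.sub_mem F₀.one_mem (F₀.div_mem (F₀.mul_mem hτ hτ) (ofNat_mem F₀ 4))) hn one_ne_zero hτ4
    set x := x' - τ * y / 2 with hx
    have hxR : x ∈ F₀ := F₀.sub_mem hx' (F₀.div_mem (F₀.mul_mem hτ hy) (ofNat_mem F₀ 2))
    have h4 : (4 : F) ≠ 0 := by rw [show (4 : F) = 2 * 2 by norm_num]; exact mul_ne_zero h2 h2
    have hnx : x * x + τ * (x * y) + y * y = n := by
      rw [hx, ← hxy]; field_simp; ring
    clear_value x
    set v' := x • v + y • ((ρ : Matrix ι ι F) *ᵥ v) with hv'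
    have hv'R : v' ∈ ratVecs ι F₀ := Submodule.add_mem _ (smul_mem_ratVecs hxR hv)
      (smul_mem_ratVecs hy (mulVec_mem_ratVecs hρR hv))
    have hv'e : f v' e = 0 := by
      rw [hv', hs.sesq.add_left, hs.sesq.smul_left, hs.sesq.smul_left, hve]
      nth_rewrite 1 [← hρe]
      rw [hρI, hve, mul_zero, mul_zero, add_zero]
    have hVv : σ lam • ((g : Matrix ι ι F) *ᵥ v') = (x • P + y • P') + c₀ • (x • Q + y • Q') := by
      rw [hv', mulVec_add, mulVec_smul, mulVec_smul, hgρ, smul_add, smul_comm (σ lam) x,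
        smul_comm (σ lam) y, ← mulVec_smul (r : Matrix ι ι F), ← hV, hPQ, mulVec_add, mulVec_smul, ← hP', ← hQ']
      module
    obtain ⟨t, ht, hte⟩ := hO.radical_disc hM hC hg he hee hl1 hl2 h11 h22 h21 hlam hγ hge hv'R hv'e
      (Submodule.add_mem _ (smul_mem_ratVecs hxR hP) (smul_mem_ratVecs hy hP'R))
      (Submodule.add_mem _ (smul_mem_ratVecs hxR hQ) (smul_mem_ratVecs hy hQ'R))
      (by simp [hs.sesq.add_left, hs.sesq.smul_left, hP1, hP'1])
      (by simp [hs.sesq.add_left, hs.sesq.smul_left, hP2, hP'2])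
      (by simp [hs.sesq.add_left, hs.sesq.smul_left, hQ1, hQ'1])
      (by simp [hs.sesq.add_left, hs.sesq.smul_left, hQ2, hQ'2]) hVv
    have e11 : f (x • P + y • P') (x • P + y • P') = n * f11 := by
      simp only [hs.sesq.add_left, hs.sesq.add_right, hs.sesq.smul_left, hs.sesq.smul_right,
        hO.fix x hxR, hO.fix y hy, hO.symm hP'R hP, hP', hrI P P]
      rw [← hP', ← hf11]
      linear_combination f11 * hnx + (x * y) * cPP
    have e22 : f (x • Q + y • Q') (x • Q + y • Q') = n * f Q Q := by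
      simp only [hs.sesq.add_left, hs.sesq.add_right, hs.sesq.smul_left, hs.sesq.smul_right,
        hO.fix x hxR, hO.fix y hy, hO.symm hQ'R hQ, hQ', hrI Q Q]
      rw [← hQ']
      linear_combination f Q Q * hnx + (x * y) * cQQ
    have e12 : f (x • P + y • P') (x • Q + y • Q') = n * f12 := by
      simp only [hs.sesq.add_left, hs.sesq.add_right, hs.sesq.smul_left, hs.sesq.smul_right,
        hO.fix x hxR, hO.fix y hy, hQ', hP', hrI P Q]
      rw [← hP', ← hQ', ← hf12]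
      linear_combination f12 * hnx + (x * y) * cPQ
    rw [e11, e22, e12] at hte
    refine ⟨t / (n * (γ * γ)), F₀.div_mem ht (F₀.mul_mem hn (F₀.mul_mem hγ hγ)), ?_⟩
    have hγ2 : n * (γ * γ) ≠ 0 := mul_ne_zero hn0 (mul_ne_zero hγ0 hγ0)
    rw [div_mul_div_comm, ← hte, eq_div_iff (mul_ne_zero hγ2 hγ2), hN]
    field_simp
    ring
  have hf110 : f11 = 0 := by
    by_contra h0
    obtain ⟨X, hX, hXb, hXsq⟩ := hO.exists_bad (hO.self_mem P) h0 (hs.rat P hP Q hQ)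
    have h4 : (4 : F) ≠ 0 := by rw [show (4 : F) = 2 * 2 by norm_num]; exact mul_ne_zero h2 h2
    set n := (X - f12) * 4 / (γ * (N * N)) with hn
    have hNR : N ∈ F₀ := F₀.sub_mem (hO.self_mem P) (F₀.mul_mem hO.sq_mem (hO.self_mem Q))
    have hd0 : γ * (N * N) ≠ 0 := mul_ne_zero hγ0 (mul_ne_zero hN0 hN0)
    have hnR : n ∈ F₀ := F₀.div_mem (F₀.mul_mem (F₀.sub_mem hX (hs.rat P hP Q hQ)) (ofNat_mem F₀ 4))
      (F₀.mul_mem hγ (F₀.mul_mem hNR hNR))
    have hn0 : n ≠ 0 := div_ne_zero (mul_ne_zero (sub_ne_zero.2 hXb) h4) hd0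
    have hXe : f12 + n * γ * (N * N) / 4 = X := by
      have := div_mul_cancel₀ ((X - f12) * 4) hd0
      rw [← hn] at this
      field_simp
      linear_combination this
    have := hall n hnR hn0
    rw [hXe] at this
    exact hXsq this
  have hP0 : P = 0 := by
    have h1 := hperp P hP1 hP2
    have hsR : f P a / f a a ∈ F₀ := F₀.div_mem (hs.rat P hP a ha) (hO.self_mem a)
    have htR : f P b / f b b ∈ F₀ := F₀.div_mem (hs.rat P hP b hb) (hO.self_mem b)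
    have h3 : f P P = 0 := hf110
    rw [h1] at h3
    simp only [hs.sesq.add_left, hs.sesq.add_right, hs.sesq.smul_left, hs.sesq.smul_right, hab,
      hs.orth_symm hab, hO.fix _ hsR, hO.fix _ htR] at h3
    obtain ⟨hs0, ht0⟩ := hW _ hsR _ htR (by linear_combination h3)
    rw [h1, hs0, ht0]; simp
  exact ⟨Q, hQ, by rw [hPQ, hP0, zero_add]⟩

/-- The image plane is degenerate. -/
theorem det_eq_zero {g : GL ι F} (hg : g ∈ M) (hgK : g ∉ subfieldSubgroup F₀ (1 : GL ι F))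
    {e p q : ι → F} (he : e ∈ ratVecs ι F₀) (he0 : e ≠ 0) (hee : f e e = 0)
    (hp : p ∈ ratVecs ι F₀) (hq : q ∈ ratVecs ι F₀)
    (hge : (g : Matrix ι ι F) *ᵥ e = p + c₀ • q) : f p p * f q q - f p q * f p q = 0 := by
  by_contra hdet
  have hs := hO.hs
  have hI := hM.iso g hg
  have h2 := hO.two
  obtain ⟨e₁, a, b, h⟩ := hO.exists_config hM hC hg he he0 hee hp hq hge hdet
  have hW := hO.aniso_of_config hM hC hg h
  obtain ⟨α, hα, β, hβ, hne, hiso⟩ := hO.exists_iso_of_config hM hC hg h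
  set l1 := α • p + β • q with hl1d
  have hl1 : l1 ∈ ratVecs ι F₀ :=
    Submodule.add_mem _ (smul_mem_ratVecs hα hp) (smul_mem_ratVecs hβ hq)
  obtain ⟨u, hu, hua, hub, hul⟩ : ∃ u ∈ ratVecs ι F₀, f u a = 0 ∧ f u b = 0 ∧ f u l1 ≠ 0 := by
    by_contra hcon
    push Not at hcon
    have k1 := hcon p hp (hs.orth_symm h.ap) (hs.orth_symm h.bp)
    have k2 := hcon q hq (hs.orth_symm h.aq) (hs.orth_symm h.bq)
    simp only [hl1d, hs.sesq.add_right, hs.sesq.smul_right, hO.fix α hα, hO.fix β hβ,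
      hO.symm hq hp] at k1 k2
    exact hne ⟨(mul_eq_zero.1 (show α * (f p p * f q q - f p q * f p q) = 0 by
        linear_combination (f q q) * k1 - (f p q) * k2)).resolve_right hdet,
      (mul_eq_zero.1 (show β * (f p p * f q q - f p q * f p q) = 0 by
        linear_combination (f p p) * k2 - (f p q) * k1)).resolve_right hdet⟩
  have hla : f l1 a = 0 := by
    simp [hl1d, hs.sesq.add_left, hs.sesq.smul_left, hs.orth_symm h.ap, hs.orth_symm h.aq]
  have hlb : f l1 b = 0 := by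
    simp [hl1d, hs.sesq.add_left, hs.sesq.smul_left, hs.orth_symm h.bp, hs.orth_symm h.bq]
  have h11 : f l1 l1 = 0 := hiso
  clear_value l1
  set u' := (f u l1)⁻¹ • u with hu'
  have hu'R : u' ∈ ratVecs ι F₀ := smul_mem_ratVecs (F₀.inv_mem (hs.rat u hu l1 hl1)) hu
  have hu'1 : f u' l1 = 1 := by rw [hu', hs.sesq.smul_left, inv_mul_cancel₀ hul]
  have hu'a : f u' a = 0 := by rw [hu', hs.sesq.smul_left, hua, mul_zero]
  have hu'b : f u' b = 0 := by rw [hu', hs.sesq.smul_left, hub, mul_zero]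
  clear_value u'
  obtain ⟨t, ht, h22⟩ := hs.shift u' hu'R l1 hl1 h11 (by rw [hu'1]; exact one_ne_zero)
  set l2 := u' + t • l1 with hl2d
  have hl2 : l2 ∈ ratVecs ι F₀ := Submodule.add_mem _ hu'R (smul_mem_ratVecs ht hl1)
  have h21 : f l2 l1 = 1 := by
    rw [hl2d, hs.sesq.add_left, hs.sesq.smul_left, h11, hu'1, mul_zero, add_zero]
  have hma : f l2 a = 0 := by simp [hl2d, hs.sesq.add_left, hs.sesq.smul_left, hu'a, hla]
  have hmb : f l2 b = 0 := by simp [hl2d, hs.sesq.add_left, hs.sesq.smul_left, hu'b, hlb]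
  have h12 : f l1 l2 = 1 := by rw [hO.symm hl1 hl2, h21]
  clear_value l2
  -- coordinates in the plane
  have h4 : (4 : F) ≠ 0 := by rw [show (4 : F) = 2 * 2 by norm_num]; exact mul_ne_zero h2 h2
  have hplus : f (l1 + l2) (l1 + l2) = 2 := by
    simp only [hs.sesq.add_left, hs.sesq.add_right, h11, h22, h12, h21]; ring
  have hminus : f (l1 - l2) (l1 - l2) = -2 := by
    simp only [hs.sesq.sub_left, hs.sesq.sub_right, h11, h22, h12, h21]; ring
  have horth4 := hO.decomp ![l1 + l2, l1 - l2, a, b] (fun i => by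
      fin_cases i
      · simpa using hplus.trans_ne h2
      · simpa using hminus.trans_ne (neg_ne_zero.2 h2)
      · exact h.aa
      · exact h.bb) (fun i j hij => by
      fin_cases i <;> fin_cases j <;> first | exact absurd rfl hij |
        simp [hs.sesq.add_left, hs.sesq.add_right, hs.sesq.sub_left, hs.sesq.sub_right, h11,
          h22, h12, h21, hla, hlb, hma, hmb, hs.orth_symm hla, hs.orth_symm hlb, hs.orth_symm hma,
          hs.orth_symm hmb, h.ab, hs.orth_symm h.ab])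
  have hcoord : ∀ x : ι → F, f x a = 0 → f x b = 0 → x = f x l2 • l1 + f x l1 • l2 := by
    intro x hxa hxb
    have h1 := horth4 x
    simp [Fin.sum_univ_four, hxa, hxb, hplus, hminus, hs.sesq.add_right, hs.sesq.sub_right] at h1
    nth_rewrite 1 [h1]
    match_scalars <;> field_simp <;> ring
  have hperp : ∀ x : ι → F, f x l1 = 0 → f x l2 = 0 →
      x = (f x a / f a a) • a + (f x b / f b b) • b := by
    intro x hx1 hx2
    have h1 := horth4 x
    simpa [Fin.sum_univ_four, hs.sesq.add_right, hs.sesq.sub_right, hx1, hx2] using h1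
  -- the two images
  have hrat : ∀ {x x' : ι → F}, x ∈ ratVecs ι F₀ → f x x = 0 → x ≠ 0 → x' ∈ ratVecs ι F₀ →
      ∀ k : F, (g : Matrix ι ι F) *ᵥ x ≠ k • x' := fun hx hxx hx0 hx' k hk =>
    hgK (hO.mem_of_line hM hC hg hx hx0 hxx hx' hk)
  have himg : ∀ x ∈ ratVecs ι F₀, f x x = 0 → x ≠ 0 → f ((g : Matrix ι ι F) *ᵥ x) a = 0 →
      f ((g : Matrix ι ι F) *ᵥ x) b = 0 → ∃ lam γ : F, lam ≠ 0 ∧ γ ∈ F₀ ∧ γ ≠ 0 ∧
        (g : Matrix ι ι F) *ᵥ x = lam • (l1 + (c₀ * γ) • l2) := by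
    intro x hx hxx hx0 hxa hxb
    have h1 := hcoord _ hxa hxb
    have h3 : f ((g : Matrix ι ι F) *ᵥ x) ((g : Matrix ι ι F) *ᵥ x) = 0 := by rw [hI, hxx]
    set L := f ((g : Matrix ι ι F) *ᵥ x) l2
    set L' := f ((g : Matrix ι ι F) *ᵥ x) l1
    have hL : L ≠ 0 := fun h0 => hrat hx hxx hx0 hl2 L' (by rw [h1, h0]; simp)
    have hL' : L' ≠ 0 := fun h0 => hrat hx hxx hx0 hl1 L (by rw [h1, h0]; simp)
    clear_value L L'
    set c := L' / L with hc
    have hgx : (g : Matrix ι ι F) *ᵥ x = L • (l1 + c • l2) := by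
      rw [h1, smul_add, smul_smul, hc, mul_div_cancel₀ _ hL]
    rw [hgx] at h3
    simp only [hs.sesq.add_left, hs.sesq.add_right, hs.sesq.smul_left, hs.sesq.smul_right, h11, h22,
      h12, h21] at h3
    have hsL : σ L ≠ 0 := by simpa using hL
    have hskew : c + 1 * σ c = 0 := (mul_eq_zero.1 (show (L * σ L) * (c + 1 * σ c) = 0 by
      linear_combination h3)).resolve_left (mul_ne_zero hL hsL)
    refine ⟨L, c / c₀, hL, hO.skew_mem hskew, div_ne_zero (div_ne_zero hL' hL) hs.c₀_ne, ?_⟩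
    rw [hgx, mul_div_cancel₀ _ hs.c₀_ne]
  have he₁0 : e₁ ≠ 0 := fun h0 => by
    have := h.e₁e; rw [h0, hs.sesq.zero_left] at this; exact zero_ne_one this
  obtain ⟨lam, γ, hlam, hγ, hγ0, hge'⟩ := himg e he hee he0
    (by rw [hge, hs.sesq.add_left, hs.sesq.smul_left, hs.orth_symm h.ap, hs.orth_symm h.aq]; ring)
    (by rw [hge, hs.sesq.add_left, hs.sesq.smul_left, hs.orth_symm h.bp, hs.orth_symm h.bq]; ring)
  obtain ⟨mu, γ₁, hmu, hγ₁, hγ₁0, hge₁⟩ := himg e₁ h.re₁ h.e₁e₁ he₁0 h.ge₁a h.ge₁b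
  obtain ⟨v, hv, -, -, hvv, -, -, hve, hve₁, -, -, -⟩ := hO.exists_perp_basis he h.re₁
    (by rw [hee, h.e₁e₁, hO.symm he h.re₁, h.e₁e]; norm_num)
  obtain ⟨hvp, hvq⟩ := hO.image_of_perp hM hg h hve hve₁
  have hv1 : f ((g : Matrix ι ι F) *ᵥ v) l1 = 0 := by
    rw [hl1d, hs.sesq.add_right, hs.sesq.smul_right, hs.sesq.smul_right, hvp, hvq]; ring
  obtain ⟨α₂, β₂, hl2e, -⟩ := hO.in_plane h hma hmb
  have hv2 : f ((g : Matrix ι ι F) *ᵥ v) l2 = 0 := by
    rw [hl2e, hs.sesq.add_right, hs.sesq.smul_right, hs.sesq.smul_right, hvp, hvq]; ring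
  obtain ⟨w, hw, hwe⟩ := hO.skew_image hM hC hg he he0 hee hl1 hl2 h11 h22 h21 h.ra h.rb h.aa h.bb
    h.ab hla hlb hma hmb hperp hW hlam hγ hγ0 hge' hv hve hvv hv1 hv2
  obtain ⟨w', hw', hwe'⟩ := hO.skew_image hM hC hg h.re₁ he₁0 h.e₁e₁ hl1 hl2 h11 h22 h21 h.ra h.rb
    h.aa h.bb h.ab hla hlb hma hmb hperp hW hmu hγ₁ hγ₁0 hge₁ hv hve₁ hvv hv1 hv2
  obtain ⟨i, hi⟩ := Function.ne_iff.1 (mulVec_ne_zero g (show v ≠ 0 from fun h0 => hvv (by
    rw [h0, hs.sesq.zero_left])))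
  rw [Pi.zero_apply] at hi
  have k1 := congrFun hwe i
  have k2 := congrFun hwe' i
  simp only [Pi.smul_apply, smul_eq_mul] at k1 k2
  have hwi : w i ≠ 0 := fun h0 => by
    rw [h0, mul_zero] at k1
    exact mul_ne_zero (by simpa using hlam) hi k1
  set κ := w' i / w i with hκ
  have hκR : κ ∈ F₀ := F₀.div_mem (hw' i) (hw i)
  have hmu' : σ mu = κ * σ lam := by
    apply mul_right_cancel₀ hi
    rw [k2, mul_assoc, k1, hκ]
    field_simp
  have hmu'' : mu = κ * lam := by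
    have := congrArg σ hmu'
    rwa [hs.sigma_sigma, map_mul, hs.sigma_sigma, hO.fix κ hκR] at this
  have h1 := hI e₁ e
  rw [h.e₁e, hge₁, hge'] at h1
  simp only [hs.sesq.add_left, hs.sesq.add_right, hs.sesq.smul_left, hs.sesq.smul_right, h11, h22,
    h12, h21, map_mul, hO.sigma_c₀, hO.fix γ hγ, hmu''] at h1
  have hX : c₀ * (κ * (lam * σ lam) * (γ₁ - γ)) = 1 := by linear_combination h1
  apply hO.c₀_notMem
  rw [eq_inv_of_mul_eq_one_left hX]
  exact F₀.inv_mem (F₀.mul_mem (F₀.mul_mem hκR (hO.norm_mem lam)) (F₀.sub_mem hγ₁ hγ))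

/-- A vector orthogonal to a totally singular plane lies in it. -/
theorem mem_plane {p q x : ι → F} (hp : p ∈ ratVecs ι F₀) (hq : q ∈ ratVecs ι F₀)
    (hx : x ∈ ratVecs ι F₀) (hp0 : p ≠ 0) (hpp : f p p = 0) (hqq : f q q = 0) (hqp : f q p = 0)
    (hne : ∀ k : F, k • p ≠ q) (hxp : f x p = 0) (hxq : f x q = 0) :
    ∃ α β : F, x = α • p + β • q := by
  have hs := hO.hs
  obtain ⟨p', hp', hp'p', hp'p⟩ := hs.exists_partner hp hp0 hpp
  have hpp' : f p p' = 1 := by rw [hO.symm hp hp', hp'p]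
  obtain ⟨a, ha, b, hb, haa, hbb, hab, hap, hap', hbp, hbp', hperp⟩ := hO.exists_perp_basis hp hp'
    (by rw [hpp, hp'p', hpp']; norm_num)
  have hdec := hO.decomp_pair hpp hp'p' hp'p hperp (hs.orth_symm hap) (hs.orth_symm hap')
    (hs.orth_symm hbp) (hs.orth_symm hbp')
  have hx1 := hdec x
  have hq1 := hdec q
  rw [hxp] at hx1
  rw [hqp] at hq1
  set s := f x a / f a a with hs'
  set t := f x b / f b b with ht'
  set u := f q a / f a a with hu'
  set w := f q b / f b b with hw'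
  have huR : u ∈ F₀ := F₀.div_mem (hs.rat q hq a ha) (hO.self_mem a)
  have hwR : w ∈ F₀ := F₀.div_mem (hs.rat q hq b hb) (hO.self_mem b)
  set A := f a a
  set B := f b b
  have hQ : u * u * A + w * w * B = 0 := by
    have h1 := hqq
    rw [hq1] at h1
    simp only [hs.sesq.add_left, hs.sesq.add_right, hs.sesq.smul_left, hs.sesq.smul_right, hab,
      hs.orth_symm hab, hap, hs.orth_symm hap, hbp, hs.orth_symm hbp, hpp, map_zero, zero_mul,
      mul_zero, zero_add, add_zero, hO.fix u huR, hO.fix w hwR] at h1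
    linear_combination h1
  have hX : s * u * A + t * w * B = 0 := by
    have h1 := hxq
    rw [hx1, hq1] at h1
    simp only [hs.sesq.add_left, hs.sesq.add_right, hs.sesq.smul_left, hs.sesq.smul_right, hab,
      hs.orth_symm hab, hap, hs.orth_symm hap, hbp, hs.orth_symm hbp, hpp, map_zero, zero_mul,
      mul_zero, zero_add, add_zero, hO.fix u huR, hO.fix w hwR] at h1
    linear_combination h1
  have hw0 : w ≠ 0 := by
    intro h0
    rw [h0, mul_zero, zero_mul, add_zero, mul_eq_zero, or_iff_left haa, mul_self_eq_zero] at hQ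
    apply hne (f q p')
    rw [hQ, h0] at hq1
    simpa using hq1.symm
  have hst : t * u = s * w := by
    refine mul_left_cancel₀ (mul_ne_zero hw0 hbb) ?_
    linear_combination u * hX - s * hQ
  clear_value s t u w A B
  refine ⟨f x p' - t / w * f q p', t / w, ?_⟩
  nth_rewrite 1 [hx1]
  nth_rewrite 2 [hq1]
  match_scalars <;> field_simp <;>
    first | ring1 | linear_combination hst | linear_combination -hst

/-- A rational element acting on a totally singular plane as a scalar. -/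
theorem exists_plane_scalar {p q : ι → F} (hp : p ∈ ratVecs ι F₀) (hq : q ∈ ratVecs ι F₀)
    (hp0 : p ≠ 0) (hq0 : q ≠ 0) (hpp : f p p = 0) (hqq : f q q = 0) (hpq : f p q = 0)
    (hne : ∀ k : F, k • p ≠ q) (hne' : ∀ k : F, k • q ≠ p) :
    ∃ h ∈ M, ∃ a ∈ F₀, ∃ b ∈ F₀, a ≠ 0 ∧ b ≠ 0 ∧ a * a - c₀ * c₀ * (b * b) = 1 ∧
      (h : Matrix ι ι F) *ᵥ p = a • p + (b * (c₀ * c₀)) • q ∧
      (h : Matrix ι ι F) *ᵥ q = b • p + a • q := by
  have hs := hO.hs
  have hqp := hs.orth_symm hpq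
  have hD0 : c₀ * c₀ ≠ 0 := mul_ne_zero hs.c₀_ne hs.c₀_ne
  obtain ⟨v₁, hv₁, hv₁p, hv₁q⟩ := hs.exists_sep hp hp0 hpp hne
  obtain ⟨v₂, hv₂, hv₂q, hv₂p⟩ := hs.exists_sep hq hq0 hqq hne'
  obtain ⟨m, hm, hm0, hm2⟩ := hO.exists_sq_ne (-1 / (c₀ * c₀))
  set D := c₀ * c₀ with hD
  have hDR : D ∈ F₀ := hO.sq_mem
  have hd : 1 - D * (m * m) ≠ 0 := fun h => hO.sq_nonsq ⟨m⁻¹, F₀.inv_mem hm, by
    rw [← hD]; field_simp; linear_combination -h⟩
  have hn : 1 + D * (m * m) ≠ 0 := fun h => hm2 (by field_simp; linear_combination h)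
  have hmm := F₀.mul_mem hDR (F₀.mul_mem hm hm)
  set a := (1 + D * (m * m)) / (1 - D * (m * m)) with ha
  set b := 2 * m / (1 - D * (m * m)) with hb
  have haR : a ∈ F₀ := F₀.div_mem (F₀.add_mem F₀.one_mem hmm) (F₀.sub_mem F₀.one_mem hmm)
  have hbR : b ∈ F₀ :=
    F₀.div_mem (F₀.mul_mem (ofNat_mem F₀ 2) hm) (F₀.sub_mem F₀.one_mem hmm)
  have ha0 : a ≠ 0 := div_ne_zero hn hd
  have hb0 : b ≠ 0 := div_ne_zero (mul_ne_zero hO.two hm0) hd
  have hab : a * a - D * (b * b) = 1 := by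
    rw [ha, hb, div_mul_div_comm, div_mul_div_comm, mul_div, div_sub_div_same,
      div_eq_iff (mul_ne_zero hd hd)]
    ring
  clear_value a b
  set x := (a - 1) / (D * b) with hx
  have hxR : x ∈ F₀ := F₀.div_mem (F₀.sub_mem haR F₀.one_mem) (F₀.mul_mem hDR hbR)
  have hxy : 1 + x * (D * b) = a := by
    rw [hx, div_mul_cancel₀ _ (mul_ne_zero hD0 hb0)]; ring
  have hxa : x * (1 + a) = b := by
    rw [hx]; field_simp; linear_combination hab
  clear_value x
  have hk1 : x / f q v₁ ∈ F₀ := F₀.div_mem hxR (hs.rat q hq v₁ hv₁)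
  have hk2 : D * b / f p v₂ ∈ F₀ := F₀.div_mem (F₀.mul_mem hDR hbR) (hs.rat p hp v₂ hv₂)
  set u₁ := (x / f q v₁) • v₁ with hu₁
  set u₂ := (D * b / f p v₂) • v₂ with hu₂
  have hu₁p : f u₁ p = 0 := by rw [hu₁, hs.sesq.smul_left, hv₁p, mul_zero]
  have hu₂q : f u₂ q = 0 := by rw [hu₂, hs.sesq.smul_left, hv₂q, mul_zero]
  have hqu : f q u₁ = x := by
    rw [hu₁, hs.sesq.smul_right, hO.fix _ hk1, div_mul_cancel₀ _ (hs.ne_symm hv₁q)]
  have hpu : f p u₂ = D * b := by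
    rw [hu₂, hs.sesq.smul_right, hO.fix _ hk2, div_mul_cancel₀ _ (hs.ne_symm hv₂p)]
  have hU := hO.rat_radical_mem hM hp (smul_mem_ratVecs hk1 hv₁) hpp hu₁p
  have hL := hO.rat_radical_mem hM hq (smul_mem_ratVecs hk2 hv₂) hqq hu₂q
  rw [← hu₁] at hU
  rw [← hu₂] at hL
  set U := R f p u₁ (-(f u₁ u₁) / 2) with hUd
  set L := R f q u₂ (-(f u₂ u₂) / 2) with hLd
  have hUp : (U : Matrix ι ι F) *ᵥ p = p := by
    rw [hUd, hs.R_mulVec hpp hu₁p, hs.orth_symm hu₁p, hpp]; simp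
  have hUq : (U : Matrix ι ι F) *ᵥ q = x • p + q := by
    rw [hUd, hs.R_mulVec hpp hu₁p, hqu, hqp]; module
  have hLq : (L : Matrix ι ι F) *ᵥ q = q := by
    rw [hLd, hs.R_mulVec hqq hu₂q, hs.orth_symm hu₂q, hqq]; simp
  have hLp : (L : Matrix ι ι F) *ᵥ p = p + (D * b) • q := by
    rw [hLd, hs.R_mulVec hqq hu₂q, hpu, hpq]; module
  refine ⟨U * L * U, M.mul_mem (M.mul_mem hU hL) hU, a, haR, b, hbR, ha0, hb0, hab, ?_, ?_⟩
  all_goals simp only [Units.val_mul, ← mulVec_mulVec, hUp, hUq, hLp, hLq, mulVec_add, mulVec_smul]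
  · match_scalars <;> first | ring1 | linear_combination hxy
  · match_scalars
    · linear_combination hxa + x * hxy
    · linear_combination hxy

/-- Every element of `M` lies in the subfield group. -/
theorem le_subfield : M ≤ subfieldSubgroup F₀ (1 : GL ι F) := by
  intro g hg
  by_contra hgK
  have hs := hO.hs
  have hI := hM.iso g hg
  obtain ⟨e, ⟨he, -⟩, e', -, hee, -, he'e⟩ := hs.exists_pair ![] (fun i => i.elim0)
    (by have := hO.dim; omega)
  have he0 : e ≠ 0 := fun h => by rw [h, hs.sesq.zero_right] at he'e; exact zero_ne_one he'e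
  obtain ⟨p, hp, q, hq, hge⟩ := hs.exists_decomp hO.fx hO.fix hO.two ((g : Matrix ι ι F) *ᵥ e)
  have hno : ∀ {g : GL ι F}, g ∈ M → g ∉ subfieldSubgroup F₀ (1 : GL ι F) → ∀ {x p q : ι → F},
      x ∈ ratVecs ι F₀ → x ≠ 0 → f x x = 0 → p ∈ ratVecs ι F₀ → q ∈ ratVecs ι F₀ →
      (g : Matrix ι ι F) *ᵥ x = p + c₀ • q →
      p ≠ 0 ∧ q ≠ 0 ∧ (∀ k : F, k • p ≠ q) ∧ (∀ k : F, k • q ≠ p) ∧
        f p p = 0 ∧ f q q = 0 ∧ f p q = 0 := by
    intro g hg hgK x p q hx hx0 hxx hp hq hgx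
    have hline : ∀ {x' : ι → F}, x' ∈ ratVecs ι F₀ → ∀ k : F,
        (g : Matrix ι ι F) *ᵥ x ≠ k • x' := fun hx' k hk =>
      hgK (hO.mem_of_line hM hC hg hx hx0 hxx hx' hk)
    have hdet := hO.det_eq_zero hM hC hg hgK hx hx0 hxx hp hq hgx
    have hA : f p p = c₀ * c₀ * f q q := by
      have h1 := hM.iso g hg x x
      rw [hgx, hxx] at h1
      simp only [hs.sesq.add_left, hs.sesq.add_right, hs.sesq.smul_left, hs.sesq.smul_right,
        hO.sigma_c₀, hO.symm hq hp] at h1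
      linear_combination h1
    have hB : f q q = 0 := by
      by_contra hB
      exact hO.sq_nonsq ⟨f p q / f q q, F₀.div_mem (hs.rat p hp q hq) (hO.self_mem q), by
        field_simp
        linear_combination hdet - f q q * hA⟩
    refine ⟨fun h => hline hq c₀ (by rw [hgx, h, zero_add]),
      fun h => hline hp 1 (by rw [hgx, h, smul_zero, add_zero, one_smul]),
      fun k hk => hline hp (1 + c₀ * k) (by rw [hgx, ← hk]; module),
      fun k hk => hline hq (k + c₀) (by rw [hgx, ← hk]; module), by rw [hA, hB, mul_zero], hB, ?_⟩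
    rw [hB] at hdet
    exact mul_self_eq_zero.1 (by linear_combination -hdet)
  obtain ⟨hp0, hq0, hpq1, -, -, hqq, -⟩ := hno hg hgK he he0 hee hp hq hge
  set v := ((g⁻¹ : GL ι F) : Matrix ι ι F) *ᵥ q with hvd
  have hgv : (g : Matrix ι ι F) *ᵥ v = q := mulVec_inv_mulVec g q
  obtain ⟨p₀, hp₀, q₀, hq₀, hv⟩ := hs.exists_decomp hO.fx hO.fix hO.two v
  obtain ⟨hp₀0, hq₀0, hne, hne', hP, hQ, hPQ⟩ := hno (M.inv_mem hg)
    (fun h => hgK (by simpa using inv_mem h)) hq hq0 hqq hp₀ hq₀ hv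
  obtain ⟨h, hh, a, haR, b, hbR, ha0, hb0, habn, hhp, hhq⟩ :=
    hO.exists_plane_scalar hM hC hp₀ hq₀ hp₀0 hq₀0 hP hQ hPQ hne hne'
  set t := a + b * c₀ with ht
  have hst : σ t = a - b * c₀ := by
    rw [ht, map_add, map_mul, hO.fix a haR, hO.fix b hbR, hO.sigma_c₀]; ring
  set v' := p₀ - c₀ • q₀ with hv'
  have hhv : (h : Matrix ι ι F) *ᵥ v = t • v := by
    rw [hv, mulVec_add, mulVec_smul, hhp, hhq, ht]; module
  have hhv' : (h : Matrix ι ι F) *ᵥ v' = σ t • v' := by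
    rw [hv', mulVec_sub, mulVec_smul, hhp, hhq, hst]; module
  -- `e` is in the plane
  have hev : f e v = 0 := by
    have hgge := hI e v
    rw [hgv, hge] at hgge
    obtain ⟨-, -, -, -, -, hqq', hpq'⟩ := hno hg hgK he he0 hee hp hq hge
    rw [← hgge, hs.sesq.add_left, hs.sesq.smul_left, hpq', hqq', mul_zero, add_zero]
  rw [hv, hs.decomp_orth hO.fx hO.fix hO.two he hp₀ hq₀] at hev
  obtain ⟨α, β, heab⟩ := hO.mem_plane hM hC hp₀ hq₀ he hp₀0 hP hQ (hs.orth_symm hPQ) hne hev.1 hev.2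
  have hc := hs.c₀_ne
  have h2 := hO.two
  obtain ⟨c1, c2, hec⟩ : ∃ c1 c2 : F, e = c1 • v + c2 • v' := by
    refine ⟨(α + β / c₀) / 2, (α - β / c₀) / 2, ?_⟩
    rw [heab, hv, hv']
    match_scalars <;> field_simp <;> ring
  have hpe : p + c₀ • q = c1 • q + c2 • ((g : Matrix ι ι F) *ᵥ v') := by
    rw [← hge, hec, mulVec_add, mulVec_smul, mulVec_smul, hgv]
  -- the conjugate has a rational eigenline
  set k := g * h * g⁻¹ with hk
  have hkM : k ∈ M := M.mul_mem (M.mul_mem hg hh) (M.inv_mem hg)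
  have hkg : ∀ x, (k : Matrix ι ι F) *ᵥ ((g : Matrix ι ι F) *ᵥ x) =
      (g : Matrix ι ι F) *ᵥ ((h : Matrix ι ι F) *ᵥ x) := fun x => by
    rw [mulVec_mulVec, ← Units.val_mul, hk, inv_mul_cancel_right, Units.val_mul, mulVec_mulVec]
  have hkq : (k : Matrix ι ι F) *ᵥ q = t • q := by
    rw [← hgv, hkg, hhv, mulVec_smul]
  have hkK := hO.mem_of_line hM hC hkM hq hq0 hqq hq hkq
  obtain ⟨κ, hκ, hκR⟩ := mem_subfieldSubgroup_one_iff.1 hkK
  have k1 := mulVec_mem_ratVecs hκR hq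
  have k2 := mulVec_mem_ratVecs hκR hp
  rw [smul_mulVec, hkq, smul_smul] at k1
  rw [smul_mulVec] at k2
  obtain ⟨j, hj⟩ := Function.ne_iff.1 hq0
  rw [Pi.zero_apply] at hj
  have hκt : κ * t ∈ F₀ := by
    have := F₀.div_mem (k1 j) (hq j)
    rwa [Pi.smul_apply, smul_eq_mul, mul_div_assoc, div_self hj, mul_one] at this
  have hkp : (k : Matrix ι ι F) *ᵥ p = σ t • p + (c1 * t - σ t * c1 + (σ t - t) * c₀) • q := by
    have h1 := congrArg (fun x => (k : Matrix ι ι F) *ᵥ x) hpe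
    simp only [mulVec_add, mulVec_smul, hkg, hhv', hkq] at h1
    have e1 : c2 • σ t • ((g : Matrix ι ι F) *ᵥ v') = σ t • (p + c₀ • q - c1 • q) := by
      rw [hpe, add_sub_cancel_left, smul_comm]
    rw [e1] at h1
    linear_combination (norm := module) h1
  obtain ⟨u, hu, huq, hup⟩ := hs.exists_sep hq hq0 hqq (w := p) (fun r hr => by
    obtain ⟨-, -, -, hqp', -, -, -⟩ := hno hg hgK he he0 hee hp hq hge
    exact hqp' r hr)
  have hκs : κ * σ t ∈ F₀ := by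
    have h1 := hs.rat _ k2 u hu
    rw [hkp, hs.sesq.smul_left, hs.sesq.add_left, hs.sesq.smul_left, hs.sesq.smul_left,
      hs.orth_symm huq, mul_zero, add_zero, ← mul_assoc] at h1
    have := F₀.div_mem h1 (hs.rat p hp u hu)
    rwa [mul_div_assoc, div_self (hs.ne_symm hup), mul_one] at this
  have hts : t * σ t = 1 := by rw [hst, ht]; linear_combination habn
  have ht0 : t ≠ 0 := left_ne_zero_of_mul_eq_one hts
  have hρ : t * t ∈ F₀ := by
    have := F₀.div_mem hκt hκs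
    convert this using 1
    have hst0 : σ t ≠ 0 := right_ne_zero_of_mul_eq_one hts
    field_simp
    linear_combination hts
  have h3 := hO.fix _ hρ
  rw [map_mul, hst, ht] at h3
  exact mul_ne_zero (mul_ne_zero (mul_ne_zero (mul_ne_zero h2 h2) ha0) hb0) hc
    (by linear_combination -h3)

end OSetting

end CfsgLib.SUFour.Orth
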