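import Cfsg.Agent.SUFour.OrthBasic

/-!
# Rigidity without long root elements

Radical elements of `M` then have rational translation part, and an element mapping a rational
isotropic line to a rational line lies in the subfield group. Rotations of anisotropic planes.
-/

set_option autoImplicit false
set_option linter.unusedSectionVars false

namespace CfsgLib.SUFour.Orth

open Matrix Cfsg.Geo CfsgLib.MaxSub CfsgLib.FormSubfield

variable {ι : Type} [Fintype ι] [DecidableEq ι] {F : Type*} [Field F] [Fintype F]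
variable {F₀ : Subfield F} {σ : F ≃+* F} {c₀ : F} {f : (ι → F) → (ι → F) → F}
variable {M : Subgroup (GL ι F)}

/-- No transvection with rational centre. -/
def NoLong (F₀ : Subfield F) (σ : F ≃+* F) (f : (ι → F) → (ι → F) → F) (M : Subgroup (GL ι F)) :
    Prop :=
  ∀ e ∈ ratVecs ι F₀, e ≠ 0 → f e e = 0 → ∀ c, c + 1 * σ c = 0 → T f e c ∈ M → c = 0

namespace OSetting

variable (hO : OSetting F₀ σ c₀ f)

include hO

theorem parts_unique {p q p' q' : ι → F} (hp : p ∈ ratVecs ι F₀) (hq : q ∈ ratVecs ι F₀)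
    (hp' : p' ∈ ratVecs ι F₀) (hq' : q' ∈ ratVecs ι F₀) (h : p + c₀ • q = p' + c₀ • q') :
    p = p' ∧ q = q' := by
  have key : ∀ i, p i = p' i ∧ q i = q' i := fun i => by
    have h1 := congrFun h i
    simp only [Pi.add_apply, Pi.smul_apply, smul_eq_mul] at h1
    obtain ⟨h3, h4⟩ := hO.hs.comp_eq_zero hO.fx hO.fix hO.two (F₀.sub_mem (hp i) (hp' i))
      (F₀.sub_mem (hq i) (hq' i)) (by linear_combination h1)
    exact ⟨sub_eq_zero.1 h3, sub_eq_zero.1 h4⟩
  exact ⟨funext fun i => (key i).1, funext fun i => (key i).2⟩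

/-- Coordinates in a hyperbolic pair and an orthogonal basis of its perpendicular. -/
theorem decomp_pair {e e₁ a b : ι → F} (hee : f e e = 0) (h11 : f e₁ e₁ = 0) (h1e : f e₁ e = 1)
    (hperp : ∀ x : ι → F, f x e = 0 → f x e₁ = 0 → x = (f x a / f a a) • a + (f x b / f b b) • b)
    (hea : f e a = 0) (h1a : f e₁ a = 0) (heb : f e b = 0) (h1b : f e₁ b = 0) (x : ι → F) :
    x = f x e₁ • e + f x e • e₁ + (f x a / f a a) • a + (f x b / f b b) • b := by
  have hs := hO.hs
  have he1 : f e e₁ = 1 := by rw [hs.herm' e₁ e, h1e, map_one]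
  have h := hperp (x - f x e₁ • e - f x e • e₁)
    (by simp only [hs.sesq.sub_left, hs.sesq.smul_left, hee, h1e]; ring)
    (by simp only [hs.sesq.sub_left, hs.sesq.smul_left, h11, he1]; ring)
  simp only [hs.sesq.sub_left, hs.sesq.smul_left, hea, h1a, heb, h1b, mul_zero, sub_zero] at h
  linear_combination (norm := module) h

/-- An element with two rational reflections: a rotation of an anisotropic plane. -/
theorem exists_rotation {a b : ι → F} (ha : a ∈ ratVecs ι F₀) (hb : b ∈ ratVecs ι F₀)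
    (haa : f a a ≠ 0) (hbb : f b b ≠ 0) (hab : f a b = 0)
    (hW : ∀ x ∈ F₀, ∀ y ∈ F₀, x * x * f a a + y * y * f b b = 0 → x = 0 ∧ y = 0) :
    ∃ m ∈ ratVecs ι F₀, f m m ≠ 0 ∧ ∃ τ ∈ F₀, τ ≠ 0 ∧ 1 - τ * τ / 4 ≠ 0 ∧
      (∀ x, f x a = 0 → f x b = 0 → ((refl f a * refl f m : GL ι F) : Matrix ι ι F) *ᵥ x = x) ∧
      (∀ s t : F, ∃ s' t' : F,
        ((refl f a * refl f m : GL ι F) : Matrix ι ι F) *ᵥ (s • a + t • b) = s' • a + t' • b) ∧
      (∀ s t : F, ((refl f a * refl f m : GL ι F) : Matrix ι ι F) *ᵥ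
          (((refl f a * refl f m : GL ι F) : Matrix ι ι F) *ᵥ (s • a + t • b)) =
        τ • (((refl f a * refl f m : GL ι F) : Matrix ι ι F) *ᵥ (s • a + t • b)) - (s • a + t • b)) ∧
      ∀ s t e : F, e * e = 1 →
        ((refl f a * refl f m : GL ι F) : Matrix ι ι F) *ᵥ (s • a + t • b) = e • (s • a + t • b) →
          s = 0 ∧ t = 0 := by
  have hs := hO.hs
  have h2 := hO.two
  have hba := hs.orth_symm hab
  set A := f a a with hA
  set B := f b b with hB
  obtain ⟨j, hj, hj0, hj2⟩ := hO.exists_sq_ne (A / B)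
  have hAR : A ∈ F₀ := hO.self_mem a
  have hBR : B ∈ F₀ := hO.self_mem b
  set Mv := A + j * j * B with hMv
  have hM0 : Mv ≠ 0 := fun h => one_ne_zero (hW 1 F₀.one_mem j hj (by rw [one_mul, one_mul]; exact h)).1
  have hMR : Mv ∈ F₀ := F₀.add_mem hAR (F₀.mul_mem (F₀.mul_mem hj hj) hBR)
  set m := a + j • b with hm
  have hmm : f m m = Mv := by
    simp only [hm, hMv, hs.sesq.add_left, hs.sesq.add_right, hs.sesq.smul_left, hs.sesq.smul_right,
      hab, hba, hO.fix j hj, ← hA, ← hB]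
    ring
  have hmm0 : f m m ≠ 0 := by rw [hmm]; exact hM0
  set co := (A - j * j * B) / Mv with hco
  set sa := -(2 * A * j) / Mv with hsa
  set sb := 2 * j * B / Mv with hsb
  have hra : ((refl f a * refl f m : GL ι F) : Matrix ι ι F) *ᵥ a = co • a + sa • b := by
    rw [Units.val_mul, ← mulVec_mulVec, hs.refl_mulVec hmm0, hs.refl_mulVec haa, hmm]
    have e1 : f a m = A := by rw [hm, hs.sesq.add_right, hs.sesq.smul_right, hab, mul_zero, add_zero]
    rw [e1, hs.sesq.sub_left, hs.sesq.smul_left]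
    have e2 : f m a = A := by rw [hm, hs.sesq.add_left, hs.sesq.smul_left, hba, mul_zero, add_zero]
    rw [e2, hm, ← hA, hco, hsa]
    match_scalars <;> field_simp <;> rw [hMv] <;> ring
  have hrb : ((refl f a * refl f m : GL ι F) : Matrix ι ι F) *ᵥ b = sb • a + co • b := by
    rw [Units.val_mul, ← mulVec_mulVec, hs.refl_mulVec hmm0, hs.refl_mulVec haa, hmm]
    have e1 : f b m = j * B := by
      rw [hm, hs.sesq.add_right, hs.sesq.smul_right, hba, hO.fix j hj, zero_add]
    rw [e1, hs.sesq.sub_left, hs.sesq.smul_left, hba]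
    have e2 : f m a = A := by rw [hm, hs.sesq.add_left, hs.sesq.smul_left, hba, mul_zero, add_zero]
    rw [e2, hm, ← hA, hco, hsb]
    match_scalars <;> field_simp <;> rw [hMv] <;> ring
  have hlin : ∀ s t : F, ((refl f a * refl f m : GL ι F) : Matrix ι ι F) *ᵥ (s • a + t • b) =
      (s * co + t * sb) • a + (s * sa + t * co) • b := fun s t => by
    rw [mulVec_add, mulVec_smul, mulVec_smul, hra, hrb]; module
  have hdet : co * co - sa * sb = 1 := by
    rw [hco, hsa, hsb]; field_simp; rw [hMv]; ring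
  have hcoR : co ∈ F₀ :=
    F₀.div_mem (F₀.sub_mem hAR (F₀.mul_mem (F₀.mul_mem hj hj) hBR)) hMR
  refine ⟨m, Submodule.add_mem _ ha (smul_mem_ratVecs hj hb), hmm0, 2 * co,
    F₀.mul_mem (ofNat_mem F₀ 2) hcoR, ?_, ?_, ?_, fun s t => ⟨_, _, hlin s t⟩, ?_, ?_⟩
  · refine mul_ne_zero h2 (div_ne_zero (fun h => hj2 ?_) hM0)
    field_simp
    linear_combination -h
  · intro h
    have h4 : (4 : F) ≠ 0 := by
      rw [show (4 : F) = 2 * 2 by norm_num]; exact mul_ne_zero h2 h2
    have e : sa * sb = 0 := by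
      linear_combination (norm := (field_simp; ring)) -hdet - h
    rw [hsa, hsb] at e
    rcases mul_eq_zero.1 e with h' | h' <;> rw [div_eq_zero_iff, or_iff_left hM0] at h'
    · exact mul_ne_zero (mul_ne_zero h2 haa) hj0 (neg_eq_zero.1 h')
    · exact mul_ne_zero (mul_ne_zero h2 hj0) hbb h'
  · intro x hxa hxb
    have hxm : f x m = 0 := by rw [hm, hs.sesq.add_right, hs.sesq.smul_right, hxa, hxb]; ring
    rw [Units.val_mul, ← mulVec_mulVec, hs.refl_mulVec hmm0, hxm]
    simp only [mul_zero, zero_div, zero_smul, sub_zero]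
    rw [hs.refl_mulVec haa, hxa]
    simp
  · intro s t
    rw [hlin, hlin]
    match_scalars
    · linear_combination (-s) * hdet
    · linear_combination (-t) * hdet
  · intro s t e he h
    rw [hlin] at h
    have k1 := congrArg (fun v => f v a) h
    have k2 := congrArg (fun v => f v b) h
    simp only [hs.sesq.add_left, hs.sesq.smul_left, ← hA, ← hB, hab, hba, mul_zero, add_zero,
      zero_add, mul_add] at k1 k2
    have k3 : s * co + t * sb = e * s := mul_right_cancel₀ haa (by linear_combination k1)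
    have k4 : s * sa + t * co = e * t := mul_right_cancel₀ hbb (by linear_combination k2)
    have hd : (co - e) * (co - e) - sa * sb ≠ 0 := by
      intro h0
      have h3 : co = e := by
        have h5 : (2 : F) * (e * (e - co)) = 0 := by linear_combination h0 - hdet + he
        have he0 : e ≠ 0 := fun h => by rw [h, mul_zero] at he; exact zero_ne_one he
        exact (sub_eq_zero.1 ((mul_eq_zero.1 ((mul_eq_zero.1 h5).resolve_left h2)).resolve_left he0)).symm
      have e' : sa * sb = 0 := by rw [h3] at h0; linear_combination -h0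
      rw [hsa, hsb] at e'
      rcases mul_eq_zero.1 e' with h' | h' <;> rw [div_eq_zero_iff, or_iff_left hM0] at h'
      · exact mul_ne_zero (mul_ne_zero h2 haa) hj0 (neg_eq_zero.1 h')
      · exact mul_ne_zero (mul_ne_zero h2 hj0) hbb h'
    constructor
    · refine (mul_eq_zero.1 (show ((co - e) * (co - e) - sa * sb) * s = 0 by
        linear_combination (co - e) * k3 - sb * k4)).resolve_left hd
    · refine (mul_eq_zero.1 (show ((co - e) * (co - e) - sa * sb) * t = 0 by
        linear_combination (co - e) * k4 - sa * k3)).resolve_left hd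

variable (hM : Over F₀ f M) (hC : NoLong F₀ σ f M)

include hM hC

theorem radical_rat {e v : ι → F} (he : e ∈ ratVecs ι F₀) (he0 : e ≠ 0) (hee : f e e = 0)
    (hve : f v e = 0) (hv : ∃ d, R f e v d ∈ M) {u : ι → F} (hu : u ∈ ratVecs ι F₀)
    (hue : f u e = 0) : f v u ∈ F₀ := by
  have hs := hO.hs
  obtain ⟨d, hd⟩ := hv
  have hk := hO.rat_radical_mem hM he hu hee hue
  set k := -(f u u) / 2
  have h1 := M.mul_mem (M.mul_mem hd hk) (M.inv_mem (M.mul_mem hk hd))
  have hvu : f (v + u) e = 0 := by rw [hs.sesq.add_left, hve, hue, add_zero]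
  have hn : f (-(v + u)) e = 0 := by rw [← neg_one_smul F (v + u), hs.sesq.smul_left, hvu, mul_zero]
  rw [hs.R_mul hee hve hue, hs.R_mul hee hue hve, add_comm u v, hs.R_inv hee hvu,
    hs.R_mul hee hvu hn, add_neg_cancel, hs.R_zero hee] at h1
  have hc : d + k - f u v + (-(k + d - f v u) - f (v + u) (v + u)) - f (-(v + u)) (v + u) =
      f v u - f u v := by
    rw [← neg_one_smul F (v + u), hs.sesq.smul_left]; ring
  rw [hc] at h1
  have h3 := hC e he he0 hee _ (by rw [map_sub, hs.sigma_f', hs.sigma_f']; ring) h1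
  refine hO.fx _ ?_
  rw [hs.sigma_f']
  linear_combination -h3

theorem image_perp {g : GL ι F} (hg : g ∈ M) {e e' : ι → F} (he : e ∈ ratVecs ι F₀)
    (he0 : e ≠ 0) (hee : f e e = 0) (he' : e' ∈ ratVecs ι F₀) {a : F}
    (hge : (g : Matrix ι ι F) *ᵥ e = a • e') {w : ι → F} (hw : w ∈ ratVecs ι F₀)
    (hwe : f w e = 0) : σ a • ((g : Matrix ι ι F) *ᵥ w) ∈ ratVecs ι F₀ := by
  have hs := hO.hs
  have h2 := hO.two
  have hd := hO.dim
  have hI := hM.iso g hg
  have ha0 : a ≠ 0 := fun h => mulVec_ne_zero g he0 (by rw [hge, h, zero_smul])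
  have he'0 : e' ≠ 0 := fun h => mulVec_ne_zero g he0 (by rw [hge, h, smul_zero])
  have hsa : σ a ≠ 0 := by simpa using ha0
  have he'e' : f e' e' = 0 := by
    have h1 := hI e e
    rw [hge, hs.sesq.smul_left, hs.sesq.smul_right, hee] at h1
    simpa [ha0] using h1
  have hN : a * σ a ∈ F₀ := hO.fx _ (by rw [map_mul, hs.sigma_sigma, mul_comm])
  have hye : ∀ v, f v e = 0 → f ((g : Matrix ι ι F) *ᵥ v) e' = 0 := fun v hv => by
    have h1 := hI v e
    rw [hv, hge, hs.sesq.smul_right] at h1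
    exact (mul_eq_zero.mp h1).resolve_left hsa
  -- every image is rational up to a multiple of `e'`
  have hdec : ∀ v ∈ ratVecs ι F₀, f v e = 0 → ∃ A ∈ ratVecs ι F₀, ∃ lam : F, f A e' = 0 ∧
      σ a • ((g : Matrix ι ι F) *ᵥ v) = A + lam • e' := by
    intro v hv hve
    set y := σ a • ((g : Matrix ι ι F) *ᵥ v) with hy
    have hye' : f y e' = 0 := by rw [hy, hs.sesq.smul_left, hye v hve, mul_zero]
    have hrad : ∃ d, R f e' y d ∈ M := by
      refine ⟨-(f v v) / 2 * (a * σ a), ?_⟩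
      rw [hy, ← hs.R_smul he'e' (hye v hve), ← hge, ← hs.conj_R hI hee hve]
      exact M.mul_mem (M.mul_mem hg (hO.rat_radical_mem hM he hv hee hve)) (M.inv_mem hg)
    obtain ⟨p, hp, q, hq, hpq⟩ := hs.exists_decomp hO.fx hO.fix h2 y
    have hqu : ∀ u ∈ ratVecs ι F₀, f u e' = 0 → f u q = 0 := by
      intro u hu hue
      have h1 := hO.radical_rat hM hC he' he'0 he'e' hye' hrad hu hue
      have h3 : c₀ * f q u ∈ F₀ := by
        rw [hpq, hs.sesq.add_left, hs.sesq.smul_left] at h1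
        simpa using F₀.sub_mem h1 (hs.rat p hp u hu)
      by_contra h
      have h4 : f q u ≠ 0 := hs.ne_symm h
      apply hO.c₀_notMem
      have := F₀.mul_mem h3 (F₀.inv_mem (hs.rat q hq u hu))
      rwa [mul_inv_cancel_right₀ h4] at this
    obtain ⟨k, hk⟩ : ∃ k : F, k • e' = q := by
      by_contra h
      push Not at h
      obtain ⟨u, hu, hue, huq⟩ := hs.exists_sep he' he'0 he'e' h
      exact huq (hqu u hu hue)
    refine ⟨p, hp, c₀ * k, ?_, by rw [hpq, ← hk, smul_smul]⟩
    rw [hpq, ← hk, smul_smul, hs.sesq.add_left, hs.sesq.smul_left, he'e', mul_zero, add_zero]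
      at hye'
    exact hye'
  have hval : ∀ v v' A A' (l l' : F), f A e' = 0 → f A' e' = 0 →
      σ a • ((g : Matrix ι ι F) *ᵥ v) = A + l • e' →
      σ a • ((g : Matrix ι ι F) *ᵥ v') = A' + l' • e' → f A A' = σ a * a * f v v' := by
    intro v v' A A' l l' hA hA' hv hv'
    have h1 : f (σ a • ((g : Matrix ι ι F) *ᵥ v)) (σ a • ((g : Matrix ι ι F) *ᵥ v')) =
        σ a * a * f v v' := by
      rw [hs.sesq.smul_left, hs.sesq.smul_right, hI, hs.sigma_sigma, mul_assoc]
    rw [hv, hv'] at h1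
    simpa [hs.sesq.add_left, hs.sesq.add_right, hs.sesq.smul_left, hs.sesq.smul_right, he'e', hA,
      hs.orth_symm hA'] using h1
  -- anisotropic vectors
  have haniso : ∀ v ∈ ratVecs ι F₀, f v e = 0 → f v v ≠ 0 →
      σ a • ((g : Matrix ι ι F) *ᵥ v) ∈ ratVecs ι F₀ := by
    intro v hv hve hvv
    obtain ⟨x, hx, hxx⟩ := hs.exists_aniso_perp' hO.fx hO.fix h2 ![e, v]
      (by intro i; fin_cases i <;> assumption) 1 hvv (by omega)
    have hxe : f x e = 0 := hx.2 0
    have hxv : f x v = 0 := hx.2 1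
    obtain ⟨A, hA, lam, hAe, hgv⟩ := hdec v hv hve
    obtain ⟨B, hB, mu, hBe, hgx⟩ := hdec x hx.1 hxe
    have hNa : σ a * a ≠ 0 := mul_ne_zero hsa ha0
    have hAA : f A A ≠ 0 := by
      rw [hval v v A A lam lam hAe hAe hgv hgv]; exact mul_ne_zero hNa hvv
    have hBB : f B B ≠ 0 := by
      rw [hval x x B B mu mu hBe hBe hgx hgx]; exact mul_ne_zero hNa hxx
    have hBA : f B A = 0 := by rw [hval x v B A mu lam hBe hAe hgx hgv, hxv, mul_zero]
    have hAB := hs.orth_symm hBA
    have he'A := hs.orth_symm hAe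
    have he'B := hs.orth_symm hBe
    set Y := A + lam • e' with hY
    set X := B + mu • e' with hX
    have hYY : f Y Y = f A A ∧ f X X = f B B ∧ f Y X = 0 := by
      simp [hY, hX, hs.sesq.add_left, hs.sesq.add_right, hs.sesq.smul_left, hs.sesq.smul_right,
        he'e', hAe, hBe, he'A, he'B, hAB]
    have hk : refl f Y * refl f X ∈ M := by
      rw [← hgv, ← hgx, hs.refl_smul (by rw [hI]; exact hvv) hsa,
        hs.refl_smul (by rw [hI]; exact hxx) hsa, ← hs.conj_refl hI hvv, ← hs.conj_refl hI hxx]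
      have := M.mul_mem (M.mul_mem hg (hO.refl₂_mem hM hv hx.1 hvv hxx)) (M.inv_mem hg)
      convert this using 1
      group
    set v' := (-(2 * σ lam / f A A)) • A + (-(2 * σ mu / f B B)) • B with hv'
    have hv'e : f v' e' = 0 := by
      rw [hv', hs.sesq.add_left, hs.sesq.smul_left, hs.sesq.smul_left, hAe, hBe, mul_zero,
        mul_zero, add_zero]
    have hsA : σ (f A A) = f A A := hs.sigma_f' A A
    have hsB : σ (f B B) = f B B := hs.sigma_f' B B
    have hrad : ∃ d, R f e' v' d ∈ M := by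
      refine ⟨-(2 * (lam * σ lam) / f A A) - 2 * (mu * σ mu) / f B B, ?_⟩
      suffices hkey : refl f A * refl f B * (refl f Y * refl f X) = R f e' v'
          (-(2 * (lam * σ lam) / f A A) - 2 * (mu * σ mu) / f B B) by
        rw [← hkey]
        exact M.mul_mem (hO.refl₂_mem hM hA hB hAA hBB) hk
      refine ext_mulVec fun z => ?_
      rw [Units.val_mul, ← mulVec_mulVec, hs.refl₂_mulVec hAA hBB hAB,
        hs.refl₂_mulVec (by rw [hYY.1]; exact hAA) (by rw [hYY.2.1]; exact hBB) hYY.2.2,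
        hs.R_mulVec he'e' hv'e, hYY.1, hYY.2.1, hv', hY, hX]
      simp only [hs.sesq.add_left, hs.sesq.sub_left, hs.sesq.smul_left, hs.sesq.add_right,
        hs.sesq.smul_right, map_neg, map_mul, map_div₀, map_ofNat, hs.sigma_sigma, hsA, hsB,
        he'A, he'B, hAB, hBA, mul_zero, add_zero, sub_zero, zero_add]
      match_scalars <;> field_simp <;> ring
    have h5 := hO.radical_rat hM hC he' he'0 he'e' hv'e hrad hA hAe
    rw [hv', hs.sesq.add_left, hs.sesq.smul_left, hs.sesq.smul_left, hBA, mul_zero, add_zero,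
      neg_mul, div_mul_cancel₀ _ hAA] at h5
    have hlam : lam ∈ F₀ := by
      have h6 := hs.sigma_mem _ (F₀.mul_mem (F₀.inv_mem (ofNat_mem F₀ 2)) (F₀.neg_mem h5))
      rwa [neg_neg, inv_mul_cancel_left₀ h2, hs.sigma_sigma] at h6
    rw [hgv, hY]
    exact Submodule.add_mem _ hA (smul_mem_ratVecs hlam he')
  by_cases hww : f w w = 0
  swap
  · exact haniso w hw hwe hww
  obtain ⟨b, hb', hbb⟩ := hs.exists_aniso_perp hO.fx hO.fix h2 ![e]
    (fun i => by fin_cases i; exact he) (by omega)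
  have hbe : f b e = 0 := hb'.2 0
  rcases hs.aniso_add_or_sub hO.fx hO.fix h2 hbb hww with h | h
  · have h1 := Submodule.sub_mem _ (haniso _ (Submodule.add_mem _ hw hb'.1)
      (by rw [hs.sesq.add_left, hwe, hbe, add_zero]) h) (haniso b hb'.1 hbe hbb)
    simpa [mulVec_add, smul_add] using h1
  · have h1 := Submodule.add_mem _ (haniso _ (Submodule.sub_mem _ hw hb'.1)
      (by rw [hs.sesq.sub_left, hwe, hbe, sub_zero]) h) (haniso b hb'.1 hbe hbb)
    simpa [mulVec_sub, smul_sub] using h1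

/-- An element mapping a rational isotropic line to a rational line lies in the subfield group. -/
theorem mem_of_line {g : GL ι F} (hg : g ∈ M) {e e' : ι → F} (he : e ∈ ratVecs ι F₀) (he0 : e ≠ 0)
    (hee : f e e = 0) (he' : e' ∈ ratVecs ι F₀) {k : F}
    (hge : (g : Matrix ι ι F) *ᵥ e = k • e') : g ∈ subfieldSubgroup F₀ (1 : GL ι F) := by
  have hs := hO.hs
  have hI := hM.iso g hg
  have hk0 : k ≠ 0 := fun h => mulVec_ne_zero g he0 (by rw [hge, h, zero_smul])
  have he'0 : e' ≠ 0 := fun h => mulVec_ne_zero g he0 (by rw [hge, h, smul_zero])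
  have hsk : σ k ≠ 0 := by simpa using hk0
  have hNR := hO.norm_mem k
  have he'e' : f e' e' = 0 := by
    have h1 := hI e e
    rw [hge, hs.sesq.smul_left, hs.sesq.smul_right, hee] at h1
    simpa [hk0] using h1
  obtain ⟨e₁, he₁, h11, h1e⟩ := hs.exists_partner he he0 hee
  have he1 : f e e₁ = 1 := by rw [hs.herm' e₁ e, h1e, map_one]
  obtain ⟨a, ha, b, hb, haa, hbb, -, hae, ha1, hbe, hb1, hperp⟩ := hO.exists_perp_basis he he₁
    (by rw [hee, h11, he1]; norm_num)
  have hdec := hO.decomp_pair hee h11 h1e hperp (hs.orth_symm hae) (hs.orth_symm ha1)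
    (hs.orth_symm hbe) (hs.orth_symm hb1)
  have himg : ∀ v ∈ ratVecs ι F₀, f v e = 0 → σ k • ((g : Matrix ι ι F) *ᵥ v) ∈ ratVecs ι F₀ :=
    fun v hv hve => hO.image_perp hM hC hg he he0 hee he' hge hv hve
  have hga := himg a ha hae
  have hgb := himg b hb hbe
  set Y := σ k • ((g : Matrix ι ι F) *ᵥ e₁) with hY
  have hscal : ∀ u v : ι → F, f (σ k • ((g : Matrix ι ι F) *ᵥ u)) (σ k • ((g : Matrix ι ι F) *ᵥ v)) =
      σ k * k * f u v := fun u v => by
    rw [hs.sesq.smul_left, hs.sesq.smul_right, hI, hs.sigma_sigma, mul_assoc]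
  have hYe : f Y e' = 1 := by
    have h1 := hI e₁ e
    rw [hge, hs.sesq.smul_right, h1e] at h1
    rw [hY, hs.sesq.smul_left]
    exact h1
  obtain ⟨p, hp, q, hq, hpq⟩ := hs.exists_decomp hO.fx hO.fix hO.two Y
  have hqe : f e' p = 1 ∧ f e' q = 0 := by
    have h1 : f e' Y = 1 := by rw [hs.herm' Y e', hYe, map_one]
    rw [hpq, hs.sesq.add_right, hs.sesq.smul_right, hO.sigma_c₀] at h1
    obtain ⟨h3, h4⟩ := hs.comp_eq_zero hO.fx hO.fix hO.two
      (F₀.sub_mem (hs.rat e' he' p hp) F₀.one_mem) (F₀.neg_mem (hs.rat e' he' q hq))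
      (by linear_combination h1)
    exact ⟨sub_eq_zero.1 h3, neg_eq_zero.1 h4⟩
  have hqw : ∀ w, f w e = 0 → f w e₁ = 0 → σ k • ((g : Matrix ι ι F) *ᵥ w) ∈ ratVecs ι F₀ →
      f (σ k • ((g : Matrix ι ι F) *ᵥ w)) q = 0 := by
    intro w _ hw1 hwR
    have h1 : f (σ k • ((g : Matrix ι ι F) *ᵥ w)) Y = 0 := by rw [hY, hscal, hw1, mul_zero]
    rw [hpq] at h1
    exact ((hs.decomp_orth hO.fx hO.fix hO.two hwR hp hq).1 h1).2
  -- `q` is a multiple of `e'`
  set x := ((g⁻¹ : GL ι F) : Matrix ι ι F) *ᵥ q with hx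
  have hgx : (g : Matrix ι ι F) *ᵥ x = q := mulVec_inv_mulVec g q
  have hxe : f e x = 0 := by
    rw [← hI, hgx, hge, hs.sesq.smul_left, hqe.2, mul_zero]
  have hxw : ∀ w, f w e = 0 → f w e₁ = 0 → σ k • ((g : Matrix ι ι F) *ᵥ w) ∈ ratVecs ι F₀ →
      f w x = 0 := by
    intro w h1 h3 hwR
    have h4 := hqw w h1 h3 hwR
    rw [hs.sesq.smul_left, ← hgx, hI] at h4
    exact (mul_eq_zero.1 h4).resolve_left hsk
  have hq' : q = (f x e₁ * k) • e' := by
    have h1 := hdec x
    rw [hs.orth_symm hxe, hs.orth_symm (hxw a hae ha1 hga), hs.orth_symm (hxw b hbe hb1 hgb)] at h1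
    simp only [zero_div, zero_smul, add_zero] at h1
    rw [← hgx]
    nth_rewrite 1 [h1]
    rw [mulVec_smul, hge, smul_smul]
  set η := f x e₁ * k
  have hη : η ∈ F₀ := by
    obtain ⟨i, hi⟩ := Function.ne_iff.1 he'0
    rw [Pi.zero_apply] at hi
    have h1 := F₀.div_mem (hq i) (he' i)
    rw [hq', Pi.smul_apply, smul_eq_mul, mul_div_assoc, div_self hi, mul_one] at h1
    exact h1
  have hpp : f p p = 0 := by
    have h1 : f Y Y = 0 := by rw [hY, hscal, h11, mul_zero]
    rw [hpq, hq'] at h1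
    simp only [hs.sesq.add_left, hs.sesq.add_right, hs.sesq.smul_left, hs.sesq.smul_right, he'e',
      hqe.1, hO.symm hp he', hO.sigma_c₀, hO.fix η hη, mul_zero, add_zero] at h1
    linear_combination h1
  -- remove the skew part by a transvection
  set c := -(c₀ * η) with hc
  have hcs : c + 1 * σ c = 0 := by rw [hc, map_neg]; linear_combination -(hO.skew_of_mem hη)
  have hTY : (T f e' c : Matrix ι ι F) *ᵥ Y = p := by
    rw [hs.T_mulVec he'e', hYe, hc, hpq, hq']
    module
  set g' := T f e' c * g with hg'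
  have hg'K : g' ∈ subfieldSubgroup F₀ (1 : GL ι F) := by
    refine mem_subfieldSubgroup_one_iff.2 ⟨σ k, hsk, ratMat_of_mulVec fun u hu => ?_⟩
    have hfixw : ∀ w, f w e = 0 →
        (T f e' c : Matrix ι ι F) *ᵥ ((g : Matrix ι ι F) *ᵥ w) = (g : Matrix ι ι F) *ᵥ w := by
      intro w hw
      have h1 := hI w e
      rw [hw, hge, hs.sesq.smul_right] at h1
      rw [hs.T_mulVec he'e', (mul_eq_zero.1 h1).resolve_left hsk, mul_zero, zero_smul, add_zero]
    have e1 : σ k • ((g' : Matrix ι ι F) *ᵥ e) = (k * σ k) • e' := by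
      rw [hg', Units.val_mul, ← mulVec_mulVec, hfixw e hee, hge, smul_smul, mul_comm]
    have e2 : σ k • ((g' : Matrix ι ι F) *ᵥ e₁) = p := by
      rw [hg', Units.val_mul, ← mulVec_mulVec, ← mulVec_smul, ← hY, hTY]
    have e3 : ∀ w, f w e = 0 → σ k • ((g' : Matrix ι ι F) *ᵥ w) = σ k • ((g : Matrix ι ι F) *ᵥ w) :=
      fun w hw => by rw [hg', Units.val_mul, ← mulVec_mulVec, hfixw w hw]
    rw [smul_mulVec, hdec u]
    simp only [mulVec_add, mulVec_smul, smul_add, smul_comm (σ k)]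
    rw [e1, e2, e3 a hae, e3 b hbe]
    exact Submodule.add_mem _ (Submodule.add_mem _ (Submodule.add_mem _
      (smul_mem_ratVecs (hs.rat u hu e₁ he₁) (smul_mem_ratVecs hNR he'))
      (smul_mem_ratVecs (hs.rat u hu e he) hp))
      (smul_mem_ratVecs (F₀.div_mem (hs.rat u hu a ha) (hO.self_mem a)) hga))
      (smul_mem_ratVecs (F₀.div_mem (hs.rat u hu b hb) (hO.self_mem b)) hgb)
  have hg'M : g' ∈ M := hM.lower _
    (fun u v => by
      rw [hg', Units.val_mul, ← mulVec_mulVec, ← mulVec_mulVec, hs.T_iso he'e' hcs, hI])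
    (Subgroup.mul_mem _ (T_mem_specialLinear f e' c) (hM.det hg)) hg'K
  have hT : T f e' c ∈ M := by
    have h1 := M.mul_mem hg'M (M.inv_mem hg)
    rwa [hg', mul_inv_cancel_right] at h1
  have hc0 := hC e' he' he'0 he'e' c hcs hT
  rwa [hg', hc0, T, zero_smul, tv_zero_left, one_mul] at hg'K

theorem rat_of_fix {g : GL ι F} (hg : g ∈ M) {e : ι → F} (he : e ∈ ratVecs ι F₀) (he0 : e ≠ 0)
    (hee : f e e = 0) (hge : (g : Matrix ι ι F) *ᵥ e = e) : RatMat F₀ (g : Matrix ι ι F) :=
  hO.hs.ratMat_of_fix hO.fix hO.two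
    (hO.mem_of_line hM hC hg he he0 hee he (k := 1) (by rw [hge, one_smul])) he he0 hge

end OSetting

end CfsgLib.SUFour.Orth
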