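import Cfsg.Agent.FormSubfield.Maximal

/-!
# Overgroups of subfield groups in four dimensions

Rational frames of two hyperbolic pairs, transitivity of the rational isometries on isotropic vectors,
generation by the root elements along rational frames, and rigidity: a conjugate centre orthogonal to
a rational isotropic vector is rational up to a scalar.
-/

set_option autoImplicit false
set_option linter.unusedSectionVars false

namespace CfsgLib.SUFour.Subfield

open Matrix Cfsg.Geo CfsgLib.MaxSub CfsgLib.FormSubfield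

variable {ι : Type} [Fintype ι] [DecidableEq ι] {F : Type*} [Field F] [Fintype F]
variable {F₀ : Subfield F} {σ : F ≃+* F} {ε c₀ : F} {f : (ι → F) → (ι → F) → F}
variable {M : Subgroup (GL ι F)}

/-- `M` consists of isometries and contains the rational ones of determinant one. -/
structure Over (F₀ : Subfield F) (f : (ι → F) → (ι → F) → F) (M : Subgroup (GL ι F)) : Prop where
  lower : ∀ g : GL ι F, Iso f g → g ∈ specialLinear ι F → RatMat F₀ (g : Matrix ι ι F) → g ∈ M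
  iso : ∀ g ∈ M, Iso f g

/-- Two orthogonal hyperbolic pairs of rational isotropic vectors. -/
structure Frame (F₀ : Subfield F) (f : (ι → F) → (ι → F) → F) (e e' a a' : ι → F) : Prop where
  re : e ∈ ratVecs ι F₀
  re' : e' ∈ ratVecs ι F₀
  ra : a ∈ ratVecs ι F₀
  ra' : a' ∈ ratVecs ι F₀
  ee : f e e = 0
  e'e' : f e' e' = 0
  aa : f a a = 0
  a'a' : f a' a' = 0
  e'e : f e' e = 1
  a'a : f a' a = 1
  ea : f e a = 0
  ea' : f e a' = 0
  e'a : f e' a = 0
  e'a' : f e' a' = 0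

variable (hs : Setting F₀ σ ε c₀ f) (hc₀ : c₀ ∈ F₀)

include hs hc₀

theorem Frame.e_e' {e e' a a' : ι → F} (h : Frame F₀ f e e' a a') : f e e' = ε := by
  rw [hs.herm e' e, h.e'e, map_one, mul_one]

theorem Frame.a_a' {e e' a a' : ι → F} (h : Frame F₀ f e e' a a') : f a a' = ε := by
  rw [hs.herm a' a, h.a'a, map_one, mul_one]

theorem Frame.e_ne {e e' a a' : ι → F} (h : Frame F₀ f e e' a a') : e ≠ 0 := fun h0 => by
  have h1 := h.e'e
  rw [h0, hs.sesq.zero_right] at h1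
  exact zero_ne_one h1

theorem Frame.swap {e e' a a' : ι → F} (h : Frame F₀ f e e' a a') : Frame F₀ f a a' e e' where
  re := h.ra
  re' := h.ra'
  ra := h.re
  ra' := h.re'
  ee := h.aa
  e'e' := h.a'a'
  aa := h.ee
  a'a' := h.e'e'
  e'e := h.a'a
  a'a := h.e'e
  ea := hs.orth_symm h.ea
  ea' := hs.orth_symm h.e'a
  e'a := hs.orth_symm h.ea'
  e'a' := hs.orth_symm h.e'a'

theorem Frame.flip {e e' a a' : ι → F} (h : Frame F₀ f e e' a a') :
    Frame F₀ f e e' a' (ε • a) where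
  re := h.re
  re' := h.re'
  ra := h.ra'
  ra' := smul_mem_ratVecs hs.eps_mem h.ra
  ee := h.ee
  e'e' := h.e'e'
  aa := h.a'a'
  a'a' := by rw [hs.sesq.smul_left, hs.sesq.smul_right, h.aa, mul_zero, mul_zero]
  e'e := h.e'e
  a'a := by rw [hs.sesq.smul_left, h.a_a' hs hc₀, hs.eps]
  ea := h.ea'
  ea' := by rw [hs.sesq.smul_right, h.ea, mul_zero]
  e'a := h.e'a'
  e'a' := by rw [hs.sesq.smul_right, h.e'a, mul_zero]

theorem Frame.scale {e e' a a' : ι → F} (h : Frame F₀ f e e' a a') {k : F} (hk : k ∈ F₀)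
    (hk0 : k ≠ 0) : Frame F₀ f e e' (k • a) ((σ k)⁻¹ • a') where
  re := h.re
  re' := h.re'
  ra := smul_mem_ratVecs hk h.ra
  ra' := smul_mem_ratVecs (F₀.inv_mem (hs.sigma_mem k hk)) h.ra'
  ee := h.ee
  e'e' := h.e'e'
  aa := by rw [hs.sesq.smul_left, hs.sesq.smul_right, h.aa, mul_zero, mul_zero]
  a'a' := by rw [hs.sesq.smul_left, hs.sesq.smul_right, h.a'a', mul_zero, mul_zero]
  e'e := h.e'e
  a'a := by
    rw [hs.sesq.smul_left, hs.sesq.smul_right, h.a'a, mul_one,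
      inv_mul_cancel₀ (by simpa using hk0)]
  ea := by rw [hs.sesq.smul_right, h.ea, mul_zero]
  ea' := by rw [hs.sesq.smul_right, h.ea', mul_zero]
  e'a := by rw [hs.sesq.smul_right, h.e'a, mul_zero]
  e'a' := by rw [hs.sesq.smul_right, h.e'a', mul_zero]

theorem exists_frame (hn : Fintype.card ι = 4) {e : ι → F} (he : e ∈ ratVecs ι F₀) (he0 : e ≠ 0)
    (hee : f e e = 0) : ∃ e' a a', Frame F₀ f e e' a a' := by
  obtain ⟨e', he', he'e', he'e⟩ := hs.exists_partner he he0 hee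
  obtain ⟨z, hz, q, hq, hzz, hqq, hqz⟩ := hs.exists_pair_hyp (hs.exists_iso₂ hc₀) ![e, e']
    (fun i => by
      fin_cases i
      · exact he
      · exact he') 1 0 he'e' hee (by simp [he'e]) (by omega)
  exact ⟨e', z, q, he, he', hz.1, hq.1, hee, he'e', hzz, hqq, he'e, hqz,
    hs.orth_symm (hz.2 0), hs.orth_symm (hq.2 0), hs.orth_symm (hz.2 1), hs.orth_symm (hq.2 1)⟩

theorem exists_some_frame (hn : Fintype.card ι = 4) : ∃ e e' a a', Frame F₀ f e e' a a' := by
  obtain ⟨e, he, e', -, hee, -, he'e⟩ := hs.exists_pair₂ hc₀ ![] (fun i => i.elim0) (by omega)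
  exact ⟨e, exists_frame hs hc₀ hn he.1
    (fun h => by rw [h, hs.sesq.zero_right] at he'e; exact zero_ne_one he'e) hee⟩

theorem Frame.decomp {e e' a a' : ι → F} (h : Frame F₀ f e e' a a') (hn : Fintype.card ι = 4)
    (x : ι → F) : x = (ε * f x e') • e + f x e • e' + (ε * f x a') • a + f x a • a' := by
  have h1 := h.e_e' hs hc₀
  have h3 := h.a_a' hs hc₀
  have l1 := hs.orth_symm h.ea
  have l2 := hs.orth_symm h.ea'
  have l3 := hs.orth_symm h.e'a
  have l4 := hs.orth_symm h.e'a'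
  have hε := hs.eps_ne
  have hli : LinearIndependent F ![e, e', a, a'] := by
    rw [Fintype.linearIndependent_iff]
    intro c hc
    simp only [Fin.sum_univ_four, Matrix.cons_val_zero, Matrix.cons_val_one, Matrix.cons_val] at hc
    have k1 := congrArg (fun y => f y e') hc
    have k2 := congrArg (fun y => f y e) hc
    have k3 := congrArg (fun y => f y a') hc
    have k4 := congrArg (fun y => f y a) hc
    simp only [hs.sesq.add_left, hs.sesq.smul_left, hs.sesq.zero_left, h.ee, h.e'e', h.aa, h.a'a',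
      h.e'e, h.a'a, h1, h3, h.ea, h.ea', h.e'a, h.e'a', l1, l2, l3, l4, mul_zero, mul_one,
      add_zero, zero_add, mul_eq_zero, hε, or_false] at k1 k2 k3 k4
    intro i
    fin_cases i <;> assumption
  have hspan := hli.span_eq_top_of_card_eq_finrank'
    (by rw [Fintype.card_fin, Module.finrank_fintype_fun_eq_card, hn])
  set d := x - ((ε * f x e') • e + f x e • e' + (ε * f x a') • a + f x a • a') with hd
  suffices d = 0 from sub_eq_zero.1 this
  by_contra hd0
  obtain ⟨-, ⟨z, hz⟩⟩ := hs.sesq.nondegenerate d hd0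
  apply hz
  have hz' : z ∈ Submodule.span F (Set.range ![e, e', a, a']) := hspan ▸ Submodule.mem_top
  clear hz
  induction hz' using Submodule.span_induction with
  | mem y hy =>
    obtain ⟨i, rfl⟩ := hy
    fin_cases i <;>
      simp [hd, hs.sesq.sub_left, hs.sesq.add_left, hs.sesq.smul_left,
        h.ee, h.e'e', h.aa, h.a'a', h.e'e, h.a'a, h1, h3, h.ea, h.ea', h.e'a, h.e'a', l1, l2, l3,
        l4, mul_right_comm ε, hs.eps]
  | zero => exact hs.sesq.zero_right _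
  | add y y' _ _ hy hy' => rw [hs.sesq.add_right, hy, hy', add_zero]
  | smul c y _ hy => rw [hs.sesq.smul_right, hy, mul_zero]

theorem T_mem (hM : Over F₀ f M) {e : ι → F} (he : e ∈ ratVecs ι F₀) (hee : f e e = 0) {c : F}
    (hc : c ∈ F₀) (hct : c + ε * σ c = 0) : T f e c ∈ M :=
  hM.lower _ (hs.T_iso hee hct) (T_mem_specialLinear f e c) (hs.ratMat_T he hee hc)

theorem S_mem (hM : Over F₀ f M) {e w : ι → F} (he : e ∈ ratVecs ι F₀) (hw : w ∈ ratVecs ι F₀)
    (hee : f e e = 0) (hww : f w w = 0) (hew : f e w = 0) {a : F} (ha : a ∈ F₀) :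
    S σ ε f e w a ∈ M :=
  hM.lower _ (hs.S_iso hww hee hew a) (S_mem_specialLinear σ ε f e w a)
    (hs.ratMat_S he hw hww hee hew ha)

theorem conj_mem {g : GL ι F} (hg : g ∈ M) (hM : Over F₀ f M) {e : ι → F} (hee : f e e = 0) {c : F}
    (hT : T f e c ∈ M) : T f ((g : Matrix ι ι F) *ᵥ e) c ∈ M := by
  rw [← hs.conj_T (hM.iso g hg) hee]
  exact M.mul_mem (M.mul_mem hg hT) (M.inv_mem hg)

/-- `S` at a translate of the second vector. -/
theorem S_shift {e w : ι → F} (hee : f e e = 0) (hww : f w w = 0) (hew : f e w = 0) (s t : F) :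
    S σ ε f e (w + t • e) s = S σ ε f e w s * T f e (s * σ t - ε * t * σ s) := by
  refine ext_mulVec fun x => ?_
  have hwe := hs.orth_symm hew
  rw [Units.val_mul, ← mulVec_mulVec, hs.T_mulVec hee, hs.S_mulVec hww hee hew,
    hs.S_mulVec (by simp only [hs.sesq.add_left, hs.sesq.add_right, hs.sesq.smul_left,
      hs.sesq.smul_right, hee, hww, hew, hwe, mul_zero, add_zero]) hee
      (by rw [hs.sesq.add_right, hs.sesq.smul_right, hew, hee, mul_zero, add_zero])]
  simp only [hs.sesq.add_right, hs.sesq.add_left, hs.sesq.smul_left, hs.sesq.smul_right, hee, hew]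
  module

theorem exists_map_skew (hM : Over F₀ f M) {e x : ι → F} (he : e ∈ ratVecs ι F₀)
    (hx : x ∈ ratVecs ι F₀) (hee : f e e = 0) (hxx : f x x = 0) (h : f e x ≠ 0)
    (hsk : f x e = -f e x) :
    ∃ g ∈ M, RatMat F₀ (g : Matrix ι ι F) ∧ (g : Matrix ι ι F) *ᵥ e = x := by
  have hz : f (x - e) (x - e) = 0 := by
    simp only [hs.sesq.sub_left, hs.sesq.sub_right, hee, hxx, hsk]; ring
  refine ⟨T f (x - e) (f e x)⁻¹, T_mem hs hc₀ hM (Submodule.sub_mem _ hx he) hz
    (F₀.inv_mem (hs.rat e he x hx)) ?_,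
    hs.ratMat_T (Submodule.sub_mem _ hx he) hz (F₀.inv_mem (hs.rat e he x hx)), ?_⟩
  · have h1 : ε * σ (f e x) = -f e x := by rw [← hs.herm, hsk]
    have h3 : σ (f e x) = -(ε * f e x) := by
      linear_combination ε * h1 - σ (f e x) * hs.eps
    rw [map_inv₀, h3]
    rcases mul_self_eq_one_iff.mp hs.eps with h4 | h4 <;> rw [h4] <;> field_simp <;> ring
  · rw [hs.T_mulVec hz, hs.sesq.sub_right, hee, sub_zero, inv_mul_cancel₀ h, one_smul,
      add_sub_cancel]

theorem exists_frame_of_pair (hn : Fintype.card ι = 4) {e a : ι → F} (he : e ∈ ratVecs ι F₀)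
    (he0 : e ≠ 0) (hee : f e e = 0) (ha : a ∈ ratVecs ι F₀) (haa : f a a = 0) (hea : f e a = 0)
    (hind : ∀ c : F, c • e ≠ a) :
    ∃ e₁' a₁', Frame F₀ f e e₁' a a₁' := by
  obtain ⟨e', b, b', h⟩ := exists_frame hs hc₀ hn he he0 hee
  have hae := hs.orth_symm hea
  have ha0 : a ≠ 0 := fun h0 => hind 0 (by rw [h0, zero_smul])
  have hdec : a = (ε * f a e') • e + (ε * f a b') • b + f a b • b' := by
    have h1 := h.decomp hs hc₀ hn a
    rw [hae, zero_smul, add_zero] at h1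
    exact h1
  -- a rational vector orthogonal to `e`, `e'` and not to `a`
  obtain ⟨q, hq, hqe, hqe', hqa⟩ : ∃ q ∈ ratVecs ι F₀, f q e = 0 ∧ f q e' = 0 ∧ f q a ≠ 0 := by
    by_contra hno
    push Not at hno
    have h1 := hno b h.ra (hs.orth_symm h.ea) (hs.orth_symm h.e'a)
    have h2 := hno b' h.ra' (hs.orth_symm h.ea') (hs.orth_symm h.e'a')
    refine hind (ε * f a e') ?_
    conv_rhs => rw [hdec, hs.orth_symm h1, hs.orth_symm h2]
    simp
  set a₁ := (f q a)⁻¹ • q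
  have ha₁R : a₁ ∈ ratVecs ι F₀ := smul_mem_ratVecs (F₀.inv_mem (hs.rat q hq a ha)) hq
  have ha₁a : f a₁ a = 1 := by rw [hs.sesq.smul_left, inv_mul_cancel₀ hqa]
  obtain ⟨t, ht, hiso⟩ := hs.shift a₁ ha₁R a ha haa (by rw [ha₁a]; exact one_ne_zero)
  set a' := a₁ + t • a
  have ha' : a' ∈ ratVecs ι F₀ := Submodule.add_mem _ ha₁R (smul_mem_ratVecs ht ha)
  have ha'a : f a' a = 1 := by
    rw [hs.sesq.add_left, ha₁a, hs.sesq.smul_left, haa, mul_zero, add_zero]
  have ha'e : f a' e = 0 := by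
    rw [hs.sesq.add_left, hs.sesq.smul_left, hs.sesq.smul_left, hqe, hae, mul_zero, mul_zero,
      add_zero]
  have hea' := hs.orth_symm ha'e
  have haa' : f a a' = ε := by rw [hs.herm a' a, ha'a, map_one, mul_one]
  -- correct `e'`
  set p := e' - f e' a • a' - (ε * f e' a') • a + (ε * f e' a * f a' a') • a
  have hpR : p ∈ ratVecs ι F₀ := Submodule.add_mem _ (Submodule.sub_mem _ (Submodule.sub_mem _ h.re'
      (smul_mem_ratVecs (hs.rat _ h.re' _ ha) ha'))
      (smul_mem_ratVecs (F₀.mul_mem hs.eps_mem (hs.rat _ h.re' _ ha')) ha))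
      (smul_mem_ratVecs (F₀.mul_mem (F₀.mul_mem hs.eps_mem (hs.rat _ h.re' _ ha))
        (hs.rat _ ha' _ ha')) ha)
  have hpe : f p e = 1 := by
    simp only [p, hs.sesq.add_left, hs.sesq.sub_left, hs.sesq.smul_left, h.e'e, ha'e, hae]; ring
  have hpa : f p a = 0 := by
    simp only [p, hs.sesq.add_left, hs.sesq.sub_left, hs.sesq.smul_left, ha'a, haa]; ring
  have hpa' : f p a' = 0 := by
    simp only [p, hs.sesq.add_left, hs.sesq.sub_left, hs.sesq.smul_left, hiso, haa']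
    linear_combination (-f e' a') * hs.eps
  obtain ⟨u, hu, hpp⟩ := hs.shift p hpR e he hee (by rw [hpe]; exact one_ne_zero)
  refine ⟨p + u • e, a', he, Submodule.add_mem _ hpR (smul_mem_ratVecs hu he), ha, ha', hee, hpp,
    haa, hiso, ?_, ha'a, hea, hea', ?_, ?_⟩
  · rw [hs.sesq.add_left, hs.sesq.smul_left, hpe, hee, mul_zero, add_zero]
  · rw [hs.sesq.add_left, hs.sesq.smul_left, hpa, hea, mul_zero, add_zero]
  · rw [hs.sesq.add_left, hs.sesq.smul_left, hpa', hea', mul_zero, add_zero]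

theorem exists_map (hM : Over F₀ f M) (hn : Fintype.card ι = 4) {e x : ι → F}
    (he : e ∈ ratVecs ι F₀) (he0 : e ≠ 0) (hee : f e e = 0) (hx : x ∈ ratVecs ι F₀) (hx0 : x ≠ 0)
    (hxx : f x x = 0) : ∃ g ∈ M, RatMat F₀ (g : Matrix ι ι F) ∧ (g : Matrix ι ι F) *ᵥ e = x := by
  -- through an isotropic `v` with prescribed pairings
  have via : ∀ {e x v : ι → F}, e ∈ ratVecs ι F₀ → f e e = 0 → x ∈ ratVecs ι F₀ → f x x = 0 →
      v ∈ ratVecs ι F₀ → f v v = 0 → f v e = c₀ → f v x = c₀ →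
      ∃ g ∈ M, RatMat F₀ (g : Matrix ι ι F) ∧ (g : Matrix ι ι F) *ᵥ e = x := by
    intro e x v he hee hx hxx hv hvv hve hvx
    have hcc : ε * σ c₀ = -c₀ := by linear_combination hs.c₀_trace
    have hev : f e v = -c₀ := by rw [hs.herm v e, hve, hcc]
    have hxv : f x v = -c₀ := by rw [hs.herm v x, hvx, hcc]
    obtain ⟨g, hg, hgR, hge⟩ := exists_map_skew hs hc₀ hM he hv hee hvv
      (by rw [hev]; exact neg_ne_zero.2 hs.c₀_ne) (by rw [hve, hev, neg_neg])
    obtain ⟨k, hk, hkR, hkv⟩ := exists_map_skew hs hc₀ hM hv hx hvv hxx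
      (by rw [hvx]; exact hs.c₀_ne) (by rw [hxv, hvx])
    exact ⟨k * g, M.mul_mem hk hg, by rw [Units.val_mul]; exact hkR.mul hgR, by rw [Units.val_mul, ← mulVec_mulVec, hge, hkv]⟩
  have indep : ∀ {e x : ι → F}, e ∈ ratVecs ι F₀ → e ≠ 0 → f e e = 0 → x ∈ ratVecs ι F₀ →
      f x x = 0 → (∀ c : F, c • e ≠ x) → ∃ g ∈ M, RatMat F₀ (g : Matrix ι ι F) ∧ (g : Matrix ι ι F) *ᵥ e = x := by
    intro e x he he0 hee hx hxx hind
    by_cases hex : f e x = 0
    · obtain ⟨e', x', h⟩ := exists_frame_of_pair hs hc₀ hn he he0 hee hx hxx hex hind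
      refine via he hee hx hxx (v := c₀ • e' + c₀ • x')
        (Submodule.add_mem _ (smul_mem_ratVecs hc₀ h.re') (smul_mem_ratVecs hc₀ h.ra')) ?_ ?_ ?_
      · simp only [hs.sesq.add_left, hs.sesq.add_right, hs.sesq.smul_left, hs.sesq.smul_right,
          h.e'e', h.a'a', h.e'a', hs.orth_symm h.e'a', mul_zero, add_zero]
      · simp [hs.sesq.add_left, hs.sesq.smul_left, h.e'e, hs.orth_symm h.ea']
      · simp [hs.sesq.add_left, hs.sesq.smul_left, h.a'a, h.e'a]
    · have hxe := hs.ne_symm hex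
      have hαR : c₀ / f x e ∈ F₀ := F₀.div_mem hc₀ (hs.rat x hx e he)
      have hβR : c₀ / f e x ∈ F₀ := F₀.div_mem hc₀ (hs.rat e he x hx)
      obtain ⟨z, hz, p, hp, hzz, -, hpz⟩ := hs.exists_pair_hyp (hs.exists_iso₂ hc₀) ![e, x]
        (fun i => by
          fin_cases i
          · exact he
          · exact hx) 0 1 hee hxx hex (by omega)
      have hze : f z e = 0 := hz.2 0
      have hzx : f z x = 0 := hz.2 1
      have hpe : f p e = 0 := hp.2 0
      have hpx : f p x = 0 := hp.2 1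
      set u := (c₀ / f x e) • x + (c₀ / f e x) • e + p with hu
      have huR : u ∈ ratVecs ι F₀ := Submodule.add_mem _
        (Submodule.add_mem _ (smul_mem_ratVecs hαR hx) (smul_mem_ratVecs hβR he)) hp.1
      have huz : f u z = 1 := by
        rw [hu]
        simp [hs.sesq.add_left, hs.sesq.smul_left, hpz, hs.orth_symm hze, hs.orth_symm hzx]
      obtain ⟨t, ht, hiso⟩ := hs.shift u huR z hz.1 hzz (by rw [huz]; exact one_ne_zero)
      refine via he hee hx hxx (v := u + t • z)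
        (Submodule.add_mem _ huR (smul_mem_ratVecs ht hz.1)) hiso ?_ ?_
      · simp [hu, hs.sesq.add_left, hs.sesq.smul_left, hee, hpe, hze, hxe]
      · simp [hu, hs.sesq.add_left, hs.sesq.smul_left, hxx, hpx, hzx, hex]
  by_cases hind : ∀ c : F, c • e ≠ x
  · exact indep he he0 hee hx hxx hind
  push Not at hind
  obtain ⟨c, rfl⟩ := hind
  obtain ⟨e', a, a', h⟩ := exists_frame hs hc₀ hn he he0 hee
  have ha0 : a ≠ 0 := (h.swap hs hc₀).e_ne hs hc₀
  obtain ⟨g, hg, hgR, hge⟩ := indep he he0 hee h.ra h.aa (fun k hk => by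
    have h1 := h.a'a
    rw [← hk, hs.sesq.smul_right, hs.orth_symm h.ea', mul_zero] at h1
    exact zero_ne_one h1)
  obtain ⟨k, hk, hkR, hka⟩ := indep h.ra ha0 h.aa hx hxx (fun l hl => by
    have hc : c = 0 := by
      have h1 := congrArg (fun v => f e' v) hl
      simp only [hs.sesq.smul_right, h.e'e, h.e'a, mul_zero, mul_one] at h1
      simpa using h1.symm
    exact hx0 (by rw [hc, zero_smul]))
  exact ⟨k * g, M.mul_mem hk hg, by rw [Units.val_mul]; exact hkR.mul hgR, by rw [Units.val_mul, ← mulVec_mulVec, hge, hka]⟩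

omit hs hc₀ in
/-- The coefficients of short root elements along all rational frames. -/
def coeffs (F₀ : Subfield F) (σ : F ≃+* F) (ε : F) (f : (ι → F) → (ι → F) → F)
    (M : Subgroup (GL ι F)) : Set F :=
  {s | ∀ e e' a a', Frame F₀ f e e' a a' → S σ ε f e a s ∈ M}

theorem rat_coeffs (hM : Over F₀ f M) {s : F} (hsF : s ∈ F₀) : s ∈ coeffs F₀ σ ε f M :=
  fun _ _ _ _ h => S_mem hs hc₀ hM h.re h.ra h.ee h.aa h.ea hsF

theorem add_coeffs {s t : F} (h₁ : s ∈ coeffs F₀ σ ε f M) (h₂ : t ∈ coeffs F₀ σ ε f M) :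
    s + t ∈ coeffs F₀ σ ε f M := fun e e' a a' h => by
  rw [← hs.S_add h.aa h.ee h.ea]
  exact M.mul_mem (h₁ e e' a a' h) (h₂ e e' a a' h)

theorem neg_coeffs {s : F} (h₁ : s ∈ coeffs F₀ σ ε f M) : -s ∈ coeffs F₀ σ ε f M :=
  fun e e' a a' h => by
  have e1 : (S σ ε f e a s)⁻¹ = S σ ε f e a (-s) := inv_eq_of_mul_eq_one_right (by
    rw [hs.S_add h.aa h.ee h.ea, add_neg_cancel]
    exact ext_mulVec fun x => by rw [hs.S_mulVec h.aa h.ee h.ea]; simp)
  rw [← e1]
  exact M.inv_mem (h₁ e e' a a' h)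

theorem mul_rat_coeffs (hM : Over F₀ f M) {s k : F} (hk : k ∈ F₀)
    (h₁ : s ∈ coeffs F₀ σ ε f M) : s * k ∈ coeffs F₀ σ ε f M := by
  rcases eq_or_ne k 0 with rfl | hk0
  · rw [mul_zero]; exact rat_coeffs hs hc₀ hM F₀.zero_mem
  intro e e' a a' h
  have h3 := h₁ _ _ _ _ (h.scale hs hc₀ (hs.sigma_mem k hk) (by simpa using hk0))
  rwa [hs.S_smul_right h.aa h.ee h.ea, hs.sigma_sigma] at h3

/-- With all root elements at rational frames, all isotropic transvections. -/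
theorem forall_T (hM : Over F₀ f M) (hn : Fintype.card ι = 4)
    (hS : ∀ s, s ∈ coeffs F₀ σ ε f M)
    (hT : ∀ e ∈ ratVecs ι F₀, f e e = 0 → ∀ c, c + ε * σ c = 0 → T f e c ∈ M)
    {z : ι → F} (hz : f z z = 0) {c : F} (hc : c + ε * σ c = 0) : T f z c ∈ M := by
  rcases eq_or_ne z 0 with rfl | hz0
  · rw [T, smul_zero, tv_zero_left]; exact M.one_mem
  obtain ⟨e, e', a, a', h, hze⟩ : ∃ e e' a a', Frame F₀ f e e' a a' ∧ f z e ≠ 0 := by
    obtain ⟨e, e', a, a', h⟩ := exists_some_frame hs hc₀ hn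
    by_cases h1 : f z e ≠ 0
    · exact ⟨e, e', a, a', h, h1⟩
    by_cases h3 : f z a ≠ 0
    · exact ⟨a, a', e, e', h.swap hs hc₀, h3⟩
    by_cases h4 : f z a' ≠ 0
    · exact ⟨_, _, _, _, (h.flip hs hc₀).swap hs hc₀, h4⟩
    by_cases h5 : f z e' ≠ 0
    · exact ⟨_, _, _, _, (((h.swap hs hc₀).flip hs hc₀).swap hs hc₀), h5⟩
    push Not at h1 h3 h4 h5
    exfalso
    apply hz0
    rw [h.decomp hs hc₀ hn z, h1, h3, h4, h5]
    simp
  set k := (f z e)⁻¹ with hk
  set z₁ := k • z with hz₁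
  have hz1e : f z₁ e = 1 := by rw [hz₁, hs.sesq.smul_left, inv_mul_cancel₀ hze]
  have hz11 : f z₁ z₁ = 0 := by rw [hz₁, hs.sesq.smul_left, hs.sesq.smul_right, hz, mul_zero, mul_zero]
  have hzz1 : z = f z e • z₁ := by rw [hz₁, hk, smul_inv_smul₀ hze]
  clear_value z₁
  rw [hzz1, hs.T_smul hz11]
  set c' := c * (f z e * σ (f z e))
  have hc' : c' + ε * σ c' = 0 := by
    show c * _ + ε * σ (c * _) = 0
    rw [map_mul, map_mul, hs.sigma_sigma]
    linear_combination (f z e * σ (f z e)) * hc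
  clear_value c'
  -- move `e'` to `z₁` by elements of `M`
  set C := ε * f z₁ a'
  set D := f z₁ a
  set g := S σ ε f e a (-σ C * ε) * S σ ε f e a' (-σ D * ε) with hg
  have hgM : g ∈ M := M.mul_mem (hS _ e e' a a' h) (hS _ _ _ _ _ (h.flip hs hc₀))
  set y := (g : Matrix ι ι F) *ᵥ e' with hy
  obtain ⟨d, hd⟩ : ∃ d : F, y = e' + C • a + D • a' + d • e := by
    rw [hy, hg, Units.val_mul, ← mulVec_mulVec]
    refine ⟨-σ C * ε * f (e' - (ε * σ (-σ D * ε)) • a') a, ?_⟩
    rw [hs.S_mulVec h.a'a' h.ee h.ea', h.e'a', h.e'e, mul_zero, zero_smul, add_zero, mul_one,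
      hs.S_mulVec h.aa h.ee h.ea]
    simp only [hs.sesq.sub_left, hs.sesq.smul_left, h.e'e, hs.orth_symm h.ea', map_mul, map_neg,
      hs.sigma_sigma, hs.sigma_eps, mul_zero, sub_zero, mul_one]
    have e1 : ∀ X : F, ε * (-X * ε) = -X := fun X => by linear_combination (-X) * hs.eps
    rw [e1, e1]
    module
  set δ := ε * f z₁ e' - d
  have hzy : z₁ = y + δ • e := by
    conv_lhs => rw [h.decomp hs hc₀ hn z₁, hz1e]
    rw [hd]
    show (ε * f z₁ e') • e + (1 : F) • e' + C • a + D • a' = _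
    module
  have hgI := hM.iso g hgM
  have hge : (g : Matrix ι ι F) *ᵥ e = e := by
    rw [hg, Units.val_mul, ← mulVec_mulVec, hs.S_mulVec h.a'a' h.ee h.ea', h.ee, h.ea']
    simp only [mul_zero, zero_smul, add_zero, sub_zero]
    rw [hs.S_mulVec h.aa h.ee h.ea, h.ee, h.ea]
    simp
  have hye : f y e = 1 := by rw [hy, ← hge, hgI, h.e'e]
  have hyy : f y y = 0 := by rw [hy, hgI, h.e'e']
  have hδ : δ + ε * σ δ = 0 := by
    have h1 := hz11
    rw [hzy] at h1
    simp only [hs.sesq.add_left, hs.sesq.add_right, hs.sesq.smul_left, hs.sesq.smul_right, hyy,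
      h.ee, hye] at h1
    rw [hs.herm y e, hye, map_one] at h1
    have h2 := congrArg (fun t => ε * t) h1
    simp only [mul_zero] at h2
    linear_combination h2 - δ * hs.eps
  have e1 : (T f e δ : Matrix ι ι F) *ᵥ y = z₁ := by rw [hs.T_mulVec h.ee, hye, mul_one, ← hzy]
  rw [← e1]
  refine conj_mem hs hc₀ (hT e h.re h.ee δ hδ) hM hyy ?_
  rw [hy]
  exact conj_mem hs hc₀ hgM hM h.e'e' (hT e' h.re' h.e'e' c' hc')

/-- `y` is rational up to a scalar. -/
theorem rigid (hM : Over F₀ f M) (hn : Fintype.card ι = 4)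
    (hC : ∀ e ∈ ratVecs ι F₀, e ≠ 0 → f e e = 0 → ∀ c, c + ε * σ c = 0 → T f e c ∈ M → c ∈ F₀)
    (hR : ∀ e e' a a', Frame F₀ f e e' a a' → ∀ s d : F, d + ε * σ d = 0 →
      S σ ε f e a s * T f e d ∈ M → s ∈ F₀)
    (hV : ∀ y : ι → F, f y y = 0 → T f y c₀ ∈ M → ∀ e e' a a', Frame F₀ f e e' a a' → f y e = 0 →
      f y a * σ (f y a) ∈ F₀ ∧ f y a' * σ (f y a') ∈ F₀ ∧ f y a * σ (f y a') ∈ F₀)
    {y : ι → F} (hyy : f y y = 0) (hy : T f y c₀ ∈ M) {x : ι → F} (hx : x ∈ ratVecs ι F₀)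
    (hx0 : x ≠ 0) (hxx : f x x = 0) (hxy : f x y = 0) :
    ∃ k : F, ∃ v ∈ ratVecs ι F₀, y = k • v := by
  obtain ⟨e', a, a', h⟩ := exists_frame hs hc₀ hn hx hx0 hxx
  have hye : f y x = 0 := hs.orth_symm hxy
  obtain ⟨hNa, hNa', hP⟩ := hV y hyy hy _ _ _ _ h hye
  set α := ε * f y e'
  have hdec : y = α • x + (ε * f y a') • a + f y a • a' := by
    have h1 := h.decomp hs hc₀ hn y
    rw [hye, zero_smul, add_zero] at h1
    exact h1
  clear_value α
  by_cases h0 : f y a' = 0 ∧ f y a = 0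
  · exact ⟨α, x, hx, by rw [hdec, h0.1, h0.2]; simp⟩
  -- the part orthogonal to `x` and `e'`
  obtain ⟨k, v₀, v₁, hk0, hF, hNk, hyv⟩ : ∃ (k : F) (v₀ v₁ : ι → F), k ≠ 0 ∧
      Frame F₀ f x e' v₀ v₁ ∧ k * σ k ∈ F₀ ∧ y = α • x + k • v₀ := by
    by_cases hb : f y a = 0
    · refine ⟨ε * f y a', a, a', mul_ne_zero hs.eps_ne fun hc => h0 ⟨hc, hb⟩, h, ?_, ?_⟩
      · rw [map_mul, hs.sigma_eps,
          show ε * f y a' * (ε * σ (f y a')) = f y a' * σ (f y a') by
            linear_combination (f y a' * σ (f y a')) * hs.eps]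
        exact hNa'
      · conv_lhs => rw [hdec, hb, zero_smul, add_zero]
    · set Q := ε * f y a' / f y a with hQ
      have hQm : Q ∈ F₀ := by
        rw [hQ, mul_div_assoc]
        refine F₀.mul_mem hs.eps_mem ?_
        have h1 := F₀.div_mem (hs.sigma_mem _ hP) hNa
        rwa [map_mul, hs.sigma_sigma, mul_comm (f y a) (σ (f y a)),
          mul_div_mul_left _ _ (show σ (f y a) ≠ 0 by simpa using hb)] at h1
      have hv₀ : a' + Q • a ∈ ratVecs ι F₀ :=
        Submodule.add_mem _ h.ra' (smul_mem_ratVecs hQm h.ra)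
      have hy' : y = α • x + f y a • (a' + Q • a) := by
        conv_lhs => rw [hdec]
        rw [smul_add, smul_smul, hQ, mul_div_cancel₀ _ hb]
        module
      have hiso : f (a' + Q • a) (a' + Q • a) = 0 := by
        have h1 := hyy
        rw [hy'] at h1
        simp only [hs.sesq.add_left, hs.sesq.add_right, hs.sesq.smul_left, hs.sesq.smul_right,
          hxx, h.ea, h.ea', hs.orth_symm h.ea, hs.orth_symm h.ea', h.a'a', h.aa, h.a'a,
          h.a_a' hs hc₀] at h1 ⊢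
        apply mul_left_cancel₀ (mul_ne_zero hb (show σ (f y a) ≠ 0 by simpa using hb))
        linear_combination h1
      refine ⟨f y a, a' + Q • a, ε • a, hb, ⟨h.re, h.re', hv₀, smul_mem_ratVecs hs.eps_mem h.ra,
        h.ee, h.e'e', hiso, ?_, h.e'e, ?_, ?_, ?_, ?_, ?_⟩, hNa, hy'⟩
      · rw [hs.sesq.smul_left, hs.sesq.smul_right, h.aa, mul_zero, mul_zero]
      · rw [hs.sesq.smul_left, hs.sesq.add_right, hs.sesq.smul_right, h.a_a' hs hc₀, h.aa,
          mul_zero, add_zero, hs.eps]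
      · rw [hs.sesq.add_right, hs.sesq.smul_right, h.ea, h.ea', mul_zero, add_zero]
      · rw [hs.sesq.smul_right, h.ea, mul_zero]
      · rw [hs.sesq.add_right, hs.sesq.smul_right, h.e'a, h.e'a', mul_zero, add_zero]
      · rw [hs.sesq.smul_right, h.e'a, mul_zero]
  have hxv := hF.ea
  have hvx := hs.orth_symm hxv
  -- the mixed root element
  have hm : S σ ε f x v₀ (c₀ * (α * σ k)) * T f x (c₀ * (α * σ α)) ∈ M := by
    have hneg : T f v₀ (-(c₀ * (k * σ k))) ∈ M := by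
      refine T_mem hs hc₀ hM hF.ra hF.aa (F₀.neg_mem (F₀.mul_mem hc₀ hNk)) ?_
      rw [map_neg, map_mul, map_mul, hs.sigma_sigma]
      linear_combination (-(k * σ k)) * hs.c₀_trace
    have h1 := M.mul_mem hneg hy
    convert h1 using 1
    refine ext_mulVec fun u => ?_
    have hcc : ε * σ c₀ = -c₀ := by linear_combination hs.c₀_trace
    simp only [Units.val_mul, ← mulVec_mulVec, hs.T_mulVec hxx, hs.T_mulVec hF.aa, hs.T_mulVec hyy,
      hs.S_mulVec hF.aa hxx hxv, map_mul, hs.sigma_sigma, ← mul_assoc, hcc]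
    simp only [hyv, hs.sesq.add_left, hs.sesq.add_right, hs.sesq.smul_left, hs.sesq.smul_right,
      hxx, hxv, hvx, hF.aa]
    module
  have hs1 := hR _ _ _ _ hF _ _ (by
    rw [map_mul, map_mul, hs.sigma_sigma]
    linear_combination (α * σ α) * hs.c₀_trace) hm
  refine ⟨k, (α / k) • x + v₀, Submodule.add_mem _ (smul_mem_ratVecs ?_ hx) hF.ra, ?_⟩
  · have h2 := F₀.div_mem (F₀.mul_mem (F₀.inv_mem hc₀) hs1) hNk
    rwa [inv_mul_cancel_left₀ hs.c₀_ne, mul_div_mul_right _ _ (show σ k ≠ 0 by simpa using hk0)] at h2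
  · rw [smul_add, smul_smul, mul_div_cancel₀ _ hk0, ← hyv]

omit hc₀ in
theorem ratio {k k₀ l : F} {v v₀ u : ι → F} (hv : v ∈ ratVecs ι F₀) (hv₀ : v₀ ∈ ratVecs ι F₀)
    (hu : u ∈ ratVecs ι F₀) (hv₀0 : v₀ ≠ 0) (hind : ∀ μ : F, v ≠ μ • v₀) (hk : k ≠ 0)
    (he : k • v + k₀ • v₀ = l • u) : k₀ / k ∈ F₀ := by
  obtain ⟨j, hj⟩ := Function.ne_iff.1 hv₀0
  rw [Pi.zero_apply] at hj
  set μ := v j / v₀ j
  have hμ : μ ∈ F₀ := F₀.div_mem (hv j) (hv₀ j)
  obtain ⟨p, hp⟩ := Function.ne_iff.1 (hind μ)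
  rw [Pi.smul_apply, smul_eq_mul] at hp
  have hp' : v p - μ * v₀ p ≠ 0 := sub_ne_zero.2 hp
  have ej : k * v j + k₀ * v₀ j = l * u j := congrFun he j
  have ep : k * v p + k₀ * v₀ p = l * u p := congrFun he p
  have hμj : μ * v₀ j = v j := div_mul_cancel₀ _ hj
  have hl : l ≠ 0 := by
    rintro rfl
    apply mul_ne_zero hk (mul_ne_zero hp' hj)
    linear_combination (v₀ j) * ep - (v₀ p) * ej - (k * v₀ p) * hμj
  have hA' : k / l ∈ F₀ := by
    have e1 : k / l = (u p - u j / v₀ j * v₀ p) / (v p - μ * v₀ p) := by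
      rw [eq_div_iff hp']
      field_simp
      linear_combination (v₀ j) * ep - (v₀ p) * ej - (k * v₀ p) * hμj
    rw [e1]
    exact F₀.div_mem (F₀.sub_mem (hu p) (F₀.mul_mem (F₀.div_mem (hu j) (hv₀ j)) (hv₀ p)))
      (F₀.sub_mem (hv p) (F₀.mul_mem hμ (hv₀ p)))
  have hB : k₀ / l ∈ F₀ := by
    have e1 : k₀ / l = (u j - k / l * v j) / v₀ j := by
      rw [eq_div_iff hj]
      field_simp
      linear_combination ej
    rw [e1]
    exact F₀.div_mem (F₀.sub_mem (hu j) (F₀.mul_mem hA' (hv j))) (hv₀ j)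
  have h1 := F₀.div_mem hB hA'
  rwa [div_div_div_cancel_right₀ hl] at h1

/-- An element mapping rational isotropic lines to rational lines lies in the subfield group. -/
theorem mem_of_lines (hn : Fintype.card ι = 4) {g : GL ι F}
    (hg : ∀ x ∈ ratVecs ι F₀, x ≠ 0 → f x x = 0 →
      ∃ k : F, ∃ v ∈ ratVecs ι F₀, (g : Matrix ι ι F) *ᵥ x = k • v) :
    g ∈ subfieldSubgroup F₀ (1 : GL ι F) := by
  obtain ⟨e, e', a, a', h⟩ := exists_some_frame hs hc₀ hn
  have he0 := h.e_ne hs hc₀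
  obtain ⟨k, v, hv, hgv⟩ := hg e h.re he0 h.ee
  have hk : k ≠ 0 := fun h0 => mulVec_ne_zero g he0 (by rw [hgv, h0, zero_smul])
  -- transport along orthogonal pairs
  have key : ∀ {p q : ι → F}, p ∈ ratVecs ι F₀ → q ∈ ratVecs ι F₀ → f p p = 0 → f q q = 0 →
      f p q = 0 → (∀ μ : F, q ≠ μ • p) → p ≠ 0 →
      k⁻¹ • ((g : Matrix ι ι F) *ᵥ p) ∈ ratVecs ι F₀ → k⁻¹ • ((g : Matrix ι ι F) *ᵥ q) ∈ ratVecs ι F₀ := by
    intro p q hp hq hpp hqq hpq hind hp0 hgp
    have hq0 : q ≠ 0 := fun h0 => hind 0 (by rw [h0, zero_smul])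
    obtain ⟨m, w, hw, hgq⟩ := hg q hq hq0 hqq
    have hpq0 : p + q ≠ 0 := fun h0 => hind (-1) (by rw [neg_one_smul, eq_neg_of_add_eq_zero_right h0])
    obtain ⟨l, u, hu, hgu⟩ := hg (p + q) (Submodule.add_mem _ hp hq) hpq0 (by
      simp only [hs.sesq.add_left, hs.sesq.add_right, hpp, hqq, hpq, hs.orth_symm hpq, add_zero])
    set v' := k⁻¹ • ((g : Matrix ι ι F) *ᵥ p) with hv'
    have hgp' : (g : Matrix ι ι F) *ᵥ p = k • v' := by rw [hv', smul_inv_smul₀ hk]
    rw [mulVec_add, hgp', hgq] at hgu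
    have hr := ratio hs hgp hw hu
      (fun h0 => mulVec_ne_zero g hq0 (by rw [hgq, h0, smul_zero]))
      (fun μ hμ => by
        rcases eq_or_ne m 0 with rfl | hm
        · exact mulVec_ne_zero g hq0 (by rw [hgq, zero_smul])
        apply mulVec_ne_zero g (x := p - (k * μ / m) • q) (fun h0 => by
          have h1 : p = (k * μ / m) • q := sub_eq_zero.1 h0
          rcases eq_or_ne (k * μ / m) 0 with h2 | h2
          · exact hp0 (by rw [h1, h2, zero_smul])
          · exact hind (k * μ / m)⁻¹ (by rw [h1, inv_smul_smul₀ h2]))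
        rw [mulVec_sub, mulVec_smul, hgp', hgq, hμ, smul_smul, smul_smul,
          div_mul_cancel₀ _ hm, sub_self])
      hk hgu
    rw [hgq, smul_smul, ← div_eq_inv_mul]
    exact smul_mem_ratVecs hr hw
  have hve : k⁻¹ • ((g : Matrix ι ι F) *ᵥ e) ∈ ratVecs ι F₀ := by rwa [hgv, inv_smul_smul₀ hk]
  have hva := key h.re h.ra h.ee h.aa h.ea (fun μ hμ => by
    have h1 := h.a'a
    rw [hμ, hs.sesq.smul_right, hs.orth_symm h.ea', mul_zero] at h1
    exact zero_ne_one h1) he0 hve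
  have hva' := key h.re h.ra' h.ee h.a'a' h.ea' (fun μ hμ => by
    have h1 := h.a'a
    rw [hμ, hs.sesq.smul_left, h.ea, mul_zero] at h1
    exact zero_ne_one h1) he0 hve
  have hve' := key h.ra h.re' h.aa h.e'e' (hs.orth_symm h.e'a) (fun μ hμ => by
    have h1 := h.e'e
    rw [hμ, hs.sesq.smul_left, hs.orth_symm h.ea, mul_zero] at h1
    exact zero_ne_one h1) ((h.swap hs hc₀).e_ne hs hc₀) hva
  refine mem_subfieldSubgroup_one_iff.2 ⟨k⁻¹, inv_ne_zero hk, ratMat_of_mulVec fun x hx => ?_⟩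
  rw [smul_mulVec, h.decomp hs hc₀ hn x]
  simp only [mulVec_add, mulVec_smul, smul_add, smul_comm k⁻¹]
  exact Submodule.add_mem _ (Submodule.add_mem _ (Submodule.add_mem _
    (smul_mem_ratVecs (F₀.mul_mem hs.eps_mem (hs.rat x hx e' h.re')) hve)
    (smul_mem_ratVecs (hs.rat x hx e h.re) hve'))
    (smul_mem_ratVecs (F₀.mul_mem hs.eps_mem (hs.rat x hx a' h.ra')) hva))
    (smul_mem_ratVecs (hs.rat x hx a h.ra) hva')

/-- The maximality statement from a dichotomy. -/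
theorem isMaximalIn_of_dichotomy {g : (ι → F) → (ι → F) → F} (hg : SesqForm σ g) {ζ : F}
    (hζ : ζ ≠ 0) (P : GL ι F) (hf : f = pullForm g ζ P) (hn : Fintype.card ι = 4) {r : ℕ}
    (hr : r.Prime) (hcard : Fintype.card F = Nat.card F₀ ^ r)
    (hdich : ∀ M : Subgroup (GL ι F), Over F₀ f M →
      M ≤ subfieldSubgroup F₀ (1 : GL ι F) ∨ ∀ z, f z z = 0 → ∀ c, c + ε * σ c = 0 → T f z c ∈ M)
    (Ω : Subgroup (GL ι F)) (hΩ : ∀ x, x ∈ Ω ↔ Iso g x ∧ x ∈ specialLinear ι F)
    (hgen : ∀ M : Subgroup (GL ι F),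
      (∀ z, g z z = 0 → ∀ c, c / ζ + ε * σ (c / ζ) = 0 → tv (c • z) (leftVec g z) ∈ M) → Ω ≤ M) :
    IsMaximalIn Ω (subfieldSubgroup F₀ P ⊓ Ω) := by
  haveI : (specialLinear ι F).Normal := MonoidHom.normal_ker _
  have hK : ∀ x, x ∈ subfieldSubgroup F₀ P ↔ P⁻¹ * x * P ∈ subfieldSubgroup F₀ (1 : GL ι F) := by
    intro x
    simp only [subfieldSubgroup, map_one, Subgroup.mem_map]
    constructor
    · rintro ⟨y, hy, rfl⟩
      exact ⟨y, hy, by simp [mul_assoc]⟩
    · rintro ⟨y, hy, e⟩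
      exact ⟨y, hy, by
        have e' : y = P⁻¹ * x * P := by simpa using e
        subst e'
        simp [mul_assoc]⟩
  have hsl : ∀ x, x ∈ specialLinear ι F → P * x * P⁻¹ ∈ specialLinear ι F := fun x h =>
    Subgroup.Normal.conj_mem inferInstance x h P
  have hiso : ∀ x, Iso f x ↔ Iso g (P * x * P⁻¹) := by
    intro x
    rw [hf]
    constructor
    · intro h u v
      have := h (((P⁻¹ : GL ι F) : Matrix ι ι F) *ᵥ u) (((P⁻¹ : GL ι F) : Matrix ι ι F) *ᵥ v)
      simp only [pullForm, mulVec_inv_mulVec] at this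
      have := mul_left_cancel₀ hζ this
      simpa only [Units.val_mul, ← mulVec_mulVec] using this
    · intro h u v
      have := h ((P : Matrix ι ι F) *ᵥ u) ((P : Matrix ι ι F) *ᵥ v)
      simp only [Units.val_mul, ← mulVec_mulVec] at this
      simp only [mulVec_mulVec _ (P⁻¹ : GL ι F).val, Units.inv_mul, one_mulVec] at this
      rw [pullForm, pullForm, this]
  refine isMaximalIn_of inf_le_right ?_ fun M hHM hMK x hx hx' => ?_
  · -- an irrational short root element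
    obtain ⟨δ, hδ⟩ := exists_notMem hr hcard
    obtain ⟨e, e', a, a', h⟩ := exists_some_frame hs hc₀ hn
    refine ⟨P * S σ ε f e a δ * P⁻¹, (hΩ _).2 ⟨(hiso _).1 (hs.S_iso h.aa h.ee h.ea δ),
      hsl _ (S_mem_specialLinear _ _ _ _ _ _)⟩, fun hmem => hδ ?_⟩
    have h1 := (hK _).1 hmem.1
    rw [show P⁻¹ * (P * S σ ε f e a δ * P⁻¹) * P = S σ ε f e a δ by group] at h1
    obtain ⟨k, hk, hkt⟩ := mem_subfieldSubgroup_one_iff.1 h1
    obtain ⟨i, hi⟩ := Function.ne_iff.1 (h.e_ne hs hc₀)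
    rw [Pi.zero_apply] at hi
    have hkF : k ∈ F₀ := by
      have h3 := mulVec_mem_ratVecs hkt h.re i
      rw [smul_mulVec, hs.S_mulVec h.aa h.ee h.ea, h.ee, h.ea] at h3
      simpa [mul_div_assoc, div_self hi] using F₀.div_mem h3 (h.re i)
    have h3 := mulVec_mem_ratVecs hkt h.ra'
    rw [smul_mulVec, hs.S_mulVec h.aa h.ee h.ea, h.a'a, hs.orth_symm h.ea', mul_one, mul_zero,
      zero_smul, sub_zero] at h3
    have h4 := Submodule.sub_mem _ (smul_mem_ratVecs (F₀.inv_mem hkF) h3) h.ra'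
    rw [inv_smul_smul₀ hk, add_sub_cancel_left] at h4
    simpa [mul_div_assoc, div_self hi] using F₀.div_mem (h4 i) (h.re i)
  · let M' : Subgroup (GL ι F) := M.comap (MulAut.conj P).toMonoidHom
    have hmem : ∀ x, x ∈ M' ↔ P * x * P⁻¹ ∈ M := fun x => Iff.rfl
    have hb : Over F₀ f M' := by
      refine ⟨fun y hyI hyd hyR => (hmem y).2
        (hHM ⟨(hK _).2 ?_, (hΩ _).2 ⟨(hiso y).1 hyI, hsl y hyd⟩⟩),
        fun y hy => (hiso y).2 ((hΩ _).1 (hMK ((hmem y).1 hy))).1⟩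
      rw [show P⁻¹ * (P * y * P⁻¹) * P = y by group]
      exact mem_subfieldSubgroup_one_of_rat hyR
    rcases hdich M' hb with h | h
    · refine absurd ⟨(hK x).2 (h ((hmem _).2 ?_)), hMK hx⟩ hx'
      rwa [show P * (P⁻¹ * x * P) * P⁻¹ = x by group]
    · refine hgen M fun z hz c hc => ?_
      set z' := ((P⁻¹ : GL ι F) : Matrix ι ι F) *ᵥ z with hz'
      have hz'0 : f z' z' = 0 := by rw [hf, pullForm, hz', mulVec_inv_mulVec, hz, mul_zero]
      have h1 := (hmem _).1 (h z' hz'0 (c / ζ) hc)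
      have e1 : P * T f z' (c / ζ) * P⁻¹ = tv (c • z) (leftVec g z) := by
        refine ext_mulVec fun u => ?_
        rw [tv_mulVec (by rw [dotProduct_smul, hg.dot_leftVec, hz, smul_zero]), hg.dot_leftVec,
          Units.val_mul, Units.val_mul, ← mulVec_mulVec, ← mulVec_mulVec, hs.T_mulVec hz'0,
          mulVec_add, mulVec_smul, mulVec_inv_mulVec, hf, pullForm, hz', mulVec_inv_mulVec,
          mulVec_inv_mulVec, smul_smul]
        congr 2
        field_simp
      rwa [e1] at h1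

end CfsgLib.SUFour.Subfield
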