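import Cfsg.Agent.Forms4.OmegaSixMinus
import Cfsg.Agent.SLFour.Wedge

/-!
# `SU₄` onto `Ω⁻₆` by congruence of alternating matrices

The homomorphism behind `Forms4.nonempty_pOmega_six_minus_equiv` in odd characteristic, with its range and
kernel, on the subgroup `GU ⊓ specialLinear` of `GL₄`.
-/

set_option autoImplicit false
set_option linter.unusedSectionVars false

namespace CfsgLib.SUFour

open Matrix Cfsg.Geo CfsgLib.StdForms CfsgLib.Forms4 CfsgLib.RepBounds.Unit

variable {F K : Type*} [Field F] [Fintype F] [Field K] [Fintype K]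

/-- The elements of `GU ⊓ specialLinear` as elements of `SU`. -/
def toSU (q : ℕ) : ↥(Cfsg.GU 4 K q ⊓ specialLinear (Fin 4) K) →* ↥(Cfsg.SU 4 K q) :=
  (SLFour.toSL.comp (Subgroup.inclusion inf_le_right)).codRestrict _ fun g => g.2.1

theorem toSU_surjective (q : ℕ) : Function.Surjective (toSU (K := K) q) := fun A => by
  obtain ⟨⟨u, hu⟩, huA⟩ := SLFour.toSL_surjective A.1
  have hA : (u : Matrix (Fin 4) (Fin 4) K) = A.1.1 := congrArg Subtype.val huA
  refine ⟨⟨u, ?_, hu⟩, Subtype.ext huA⟩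
  intro v w
  show Cfsg.hermForm 4 K q ((u : Matrix (Fin 4) (Fin 4) K) *ᵥ v) ((u : Matrix (Fin 4) (Fin 4) K) *ᵥ w) = _
  rw [hA]
  exact A.2 v w

/-- `SU₄(q)` modulo `±1` is `Ω⁻₆(q)` in odd characteristic. -/
theorem exists_wedge {q : ℕ} (hF : Fintype.card F = q) (hK : Fintype.card K = q ^ 2) (h2 : (2 : F) ≠ 0)
    (a b : F) (hab : ∀ z₁ z₂ : F, z₁ ^ 2 + a * z₁ * z₂ + b * z₂ ^ 2 = 0 → z₁ = 0 ∧ z₂ = 0) :
    ∃ φ : ↥(Cfsg.GU 4 K q ⊓ specialLinear (Fin 4) K) →*
        ↥(Cfsg.isometryGroup F ⇑(minusQ 2 F a b)),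
      φ.range = Cfsg.Omega F ⇑(minusQ 2 F a b) ∧
      ∀ g, φ g = 1 ↔ ∃ c : K, c * c = 1 ∧
        ((g : GL (Fin 4) K) : Matrix (Fin 4) (Fin 4) K) = c • 1 := by
  classical
  obtain ⟨_⟩ := CfsgLib.FieldEmb.exists_algebra (by norm_num : 1 ≤ 2) hF hK
  obtain ⟨σ, θ, E, hσσ, hσ, hσι, hδ, hE⟩ := exists_minus_coords (K := K) hF hK a b hab
  have hq : 0 < q := hF ▸ Fintype.card_pos
  let V : (Fin 3 → K) →ₗ[F] (Fin 3 ⊕ Fin 3 → K) :=
    { toFun := fun x => Sum.elim x (σ ∘ x)
      map_add' := fun x y => by funext i; rcases i with i | i <;> simp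
      map_smul' := fun r x => by funext i; rcases i with i | i <;> simp [Algebra.smul_def, hσι] }
  have hdual : ∀ x, dualVec (V x) = σ ∘ V x := fun x => by
    funext i; rcases i with i | i <;> simp [dualVec, V, hσσ]
  have hVl : ∀ z, dualVec z = σ ∘ z → V (z ∘ Sum.inl) = z := fun z hz => by
    funext i
    rcases i with i | i
    · rfl
    · exact (congrFun hz (.inl i)).symm
  let R : (Fin 3 ⊕ Fin 3 → K) →ₗ[F] (Fin 3 → K) := LinearMap.funLeft F K Sum.inl
  let T : ((Fin 2 ⊕ Fin 2) ⊕ Fin 2 → F) →ₗ[F] Matrix (Fin 4) (Fin 4) K :=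
    ((altMat K).restrictScalars F).comp (V.comp E.toLinearMap)
  let P : Matrix (Fin 4) (Fin 4) K →ₗ[F] ((Fin 2 ⊕ Fin 2) ⊕ Fin 2 → F) :=
    E.symm.toLinearMap.comp (R.comp ((altCoord K).restrictScalars F))
  have hPT : ∀ v, P (T v) = v := fun v => by
    show E.symm (altCoord K (altMat K (V (E v))) ∘ Sum.inl) = v
    rw [altCoord_altMat]
    exact E.symm_apply_apply v
  let A : Cfsg.SU 4 K q →* Module.End F (Matrix (Fin 4) (Fin 4) K) :=
    { toFun := fun g => (congrHom K g.1).restrictScalars F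
      map_one' := LinearMap.ext fun M => by simp
      map_mul' := fun g h => LinearMap.ext fun M => by
        show congrHom K (g.1 * h.1) M = congrHom K g.1 (congrHom K h.1 M)
        rw [map_mul]; rfl }
  have hunit : ∀ g : Cfsg.SU 4 K q, g.1.1ᵀ * g.1.1.map σ = 1 :=
    fun g => (mem_SU_iff_mul σ hσ hq g.1).1 g.2
  have hVP : ∀ (g : Cfsg.SU 4 K q) v, V (E (P (A g (T v)))) =
      altCoord K (congrHom K g.1 (altMat K (V (E v)))) := fun g v => by
    show V (E (E.symm (altCoord K (congrHom K g.1 (altMat K (V (E v)))) ∘ Sum.inl))) = _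
    rw [E.apply_symm_apply]
    exact hVl _ (unitary_stable σ g.1 (hunit g) (hdual _))
  have hA : ∀ g v, T (P (A g (T v))) = A g (T v) := fun g v => by
    show altMat K (V (E (P (A g (T v))))) = congrHom K g.1 (altMat K (V (E v)))
    rw [hVP, altMat_congr]
  have hN : ∀ v, algebraMap F K (⇑(minusQ 2 F a b) v) =
      Cfsg.quadFormPlus 3 K (V (E v)) := fun v => by
    rw [coe_minusQ, hE]; rfl
  obtain ⟨φ, -, hφ⟩ := exists_isoHom (⇑(minusQ 2 F a b)) T P hPT A hA fun g v => by
    refine (algebraMap F K).injective ?_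
    rw [hN, hN, hVP, pfaffian_congr]
  have hmem : ∀ g : Cfsg.SU 4 K q, g ∈ φ.ker ↔
      g.1.1 0 0 * g.1.1 0 0 = 1 ∧ Matrix.scalar (Fin 4) (g.1.1 0 0) = g.1.1 := by
    intro g
    rw [MonoidHom.mem_ker, hφ]
    refine ⟨fun h => scalar_of_congr_fix fun z => ?_, fun ⟨hr, hs⟩ v => scalar_mul_eq hs hr _⟩
    have hfix : ∀ x, congrHom K g.1 (altMat K (V x)) = altMat K (V x) := fun x => by
      have := h (E.symm x)
      change congrHom K g.1 (altMat K (V (E (E.symm x)))) = altMat K (V (E (E.symm x))) at this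
      rwa [E.apply_symm_apply] at this
    set r : Fin 3 → K := fun i => (z (.inl i) - σ (z (.inr i))) / (θ - σ θ) with hr
    set p : Fin 3 → K := fun i => z (.inl i) - θ * r i with hp
    have hz : z = V p + θ • V r := by
      funext i
      have hns : -θ + σ θ ≠ 0 := fun h => hδ (by linear_combination -h)
      have hns' : σ θ - θ ≠ 0 := fun h => hδ (by linear_combination -h)
      rcases i with i | i <;> simp [V, hp, hr, map_sub, map_mul, map_div₀, hσσ]
      field_simp
      ring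
    rw [hz, map_add, map_add, map_smul, map_smul, hfix, hfix]
  let e : φ.ker ≃ ({1, -1} : Set K) :=
    { toFun := fun g => ⟨g.1.1.1 0 0, mul_self_eq_one_iff.1 ((hmem g.1).1 g.2).1⟩
      invFun := fun r => ⟨⟨⟨Matrix.scalar (Fin 4) r.1, by
          rcases r.2 with h | (h : r.1 = -1) <;> simp [h, Matrix.det_neg, Even.neg_one_pow (show Even 4 by decide)]⟩,
          (mem_SU_iff_mul σ hσ hq _).2 (by
          show (Matrix.scalar (Fin 4) r.1)ᵀ * (Matrix.scalar (Fin 4) r.1).map σ = 1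
          rw [Matrix.scalar_apply, Matrix.diagonal_transpose, Matrix.diagonal_map (map_zero σ),
            Matrix.diagonal_mul_diagonal, ← Matrix.diagonal_one]
          congr 1
          funext i
          rcases r.2 with h | (h : r.1 = -1) <;> simp [h])⟩,
          (hmem _).2 ⟨by
          rcases r.2 with h | (h : r.1 = -1) <;> simp [h], by simp⟩⟩
      left_inv := fun g => Subtype.ext (Subtype.ext (Subtype.ext ((hmem g.1).1 g.2).2))
      right_inv := fun r => Subtype.ext (by simp) }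
  have hker : Nat.card φ.ker = 2 := by
    rw [Nat.card_congr e, Nat.card_coe_set_eq]
    refine Set.ncard_pair fun h => h2 ((algebraMap F K).injective ?_)
    rw [map_ofNat, map_zero]
    linear_combination h
  have hS : commutator (Cfsg.SU 4 K q) = ⊤ := commutator_SU_eq_top hK 4 (by norm_num) (by simp)
  have hcard : Nat.card (Cfsg.SU 4 K q) = q ^ 6 * ((q ^ 3 + 1) * ((q ^ 2 - 1) * (q ^ 4 - 1))) := by
    refine Nat.eq_of_mul_eq_mul_left (n := q + 1) (by omega) ?_
    rw [card_SU_mul_GU hK (by norm_num), CfsgLib.Forms.card_GU hK 4]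
    simp [Finset.sum_range_succ, Finset.prod_range_succ, CfsgLib.Forms.u_succ, Nat.even_iff]
    ring
  have hrange : φ.range = Cfsg.Omega F ⇑(minusQ 2 F a b) := by
    refine range_eq_of_card φ (range_le_commutator φ hS) ?_
    have hO := (Cfsg.Omega F ⇑(minusQ 2 F a b)).index_mul_card
    rw [CfsgLib.Forms.index_omega_odd h2 (minusQ_nondegenerate 2 (Forms4.disc_ne_zero hab)) (by simp),
      coe_minusQ, card_isometryGroup_quadFormMinus hF 3 (by norm_num) a b hab] at hO
    simp [-Nat.card_eq_fintype_card, Finset.prod_range_succ] at hO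
    rw [hker, hcard, coe_minusQ]
    linarith
  refine ⟨φ.comp (toSU q), ?_, fun g => ?_⟩
  · rw [MonoidHom.range_comp, MonoidHom.range_eq_top.2 (toSU_surjective q), ← MonoidHom.range_eq_map, hrange]
  refine Iff.trans (Iff.trans MonoidHom.mem_ker.symm (hmem (toSU q g))) ⟨fun h => ⟨_, h.1, ?_⟩, ?_⟩
  · rw [smul_one_eq_diagonal]
    exact h.2.symm
  · rintro ⟨c, hc, hgc⟩
    have hM : (toSU q g).1.1 = c • (1 : Matrix (Fin 4) (Fin 4) K) := hgc
    rw [hM, Matrix.smul_apply, Matrix.one_apply_eq, smul_eq_mul, mul_one, Matrix.scalar_apply,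
      smul_one_eq_diagonal]
    exact ⟨hc, rfl⟩

end CfsgLib.SUFour
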